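import Cfsg.Agent.OddHalf.NI3.K.Blk
import Cfsg.Agent.OddHalf.NI.FrameSp
import Cfsg.Agent.S0270

/-!
# Row (R2) of F13: the symplectic groups over `F_3` (NI over F_3; bb ODD #14361)

`PSp_{2n}(3)`, `n ≥ 3`, has `HasY`: `y` is the image of `-1 ⊕ 1`, `M` the image of `Sp₄(3) ⊕ 1`.
-/

set_option autoImplicit false

namespace Cfsg.Agent.OddHalf.NI3.K.Sp

open Matrix Subgroup Cfsg Cfsg.Agent.OddHalf.LieOddFam
open Cfsg.Agent.OddHalf.NI (Even8)
open Cfsg.Agent.OddHalf.NI.Blocks (negOne)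
open Cfsg.Agent.OddHalf.NI.FrameSp (bd neg neg_coe)
open scoped commutatorElement

universe u

section Embed

variable {F : Type} [Field F] {k l : ℕ}

/-- the reindexing -/
def sg (k l : ℕ) : (Fin k ⊕ Fin k) ⊕ (Fin l ⊕ Fin l) ≃ Fin (k + l) ⊕ Fin (k + l) :=
  (Equiv.sumSumSumComm (Fin k) (Fin k) (Fin l) (Fin l)).trans (Equiv.sumCongr finSumFinEquiv finSumFinEquiv)

theorem J_sub : (J (Fin (k + l)) F).submatrix (sg k l) (sg k l) = fromBlocks (J (Fin k) F) 0 0 (J (Fin l) F) := by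
  ext p q
  rcases p with (p | p) | (p | p) <;> rcases q with (q | q) | (q | q) <;>
    simp [sg, J, Matrix.one_apply, -finSumFinEquiv_apply_left, -finSumFinEquiv_apply_right]

/-- the block matrix `A ⊕ 1` -/
def big (A : Matrix (Fin k ⊕ Fin k) (Fin k ⊕ Fin k) F) : Matrix (Fin (k + l) ⊕ Fin (k + l)) (Fin (k + l) ⊕ Fin (k + l)) F :=
  (fromBlocks A 0 0 (1 : Matrix (Fin l ⊕ Fin l) (Fin l ⊕ Fin l) F)).submatrix (sg k l).symm (sg k l).symm

theorem big_sub (A : Matrix (Fin k ⊕ Fin k) (Fin k ⊕ Fin k) F) :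
    (big (l := l) A).submatrix (sg k l) (sg k l) = fromBlocks A 0 0 1 := by
  rw [big, submatrix_submatrix, Equiv.symm_comp_self, submatrix_id_id]

omit [Field F] in
theorem sub_inj {A B : Matrix (Fin (k + l) ⊕ Fin (k + l)) (Fin (k + l) ⊕ Fin (k + l)) F}
    (h : A.submatrix (sg k l) (sg k l) = B.submatrix (sg k l) (sg k l)) : A = B := by
  have h1 := congrArg (fun M => M.submatrix (sg k l).symm (sg k l).symm) h
  simpa only [submatrix_submatrix, Equiv.self_comp_symm, submatrix_id_id] using h1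

theorem sub_mul (A B : Matrix (Fin (k + l) ⊕ Fin (k + l)) (Fin (k + l) ⊕ Fin (k + l)) F) :
    (A * B).submatrix (sg k l) (sg k l) = A.submatrix (sg k l) (sg k l) * B.submatrix (sg k l) (sg k l) := by
  rw [submatrix_mul_equiv]

theorem mem_iff' (A : Matrix (Fin (k + l) ⊕ Fin (k + l)) (Fin (k + l) ⊕ Fin (k + l)) F) :
    A ∈ symplecticGroup (Fin (k + l)) F ↔ A.submatrix (sg k l) (sg k l) *
      fromBlocks (J (Fin k) F) 0 0 (J (Fin l) F) * (A.submatrix (sg k l) (sg k l))ᵀ =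
        fromBlocks (J (Fin k) F) 0 0 (J (Fin l) F) := by
  rw [SymplecticGroup.mem_iff, ← J_sub, transpose_submatrix, ← sub_mul, ← sub_mul]
  exact ⟨fun h => by rw [h], fun h => sub_inj h⟩

/-- `Sp_{2k} → Sp_{2(k+l)}` -/
def emb (k l : ℕ) (F : Type) [Field F] : symplecticGroup (Fin k) F →* symplecticGroup (Fin (k + l)) F where
  toFun A := ⟨big (A : Matrix (Fin k ⊕ Fin k) (Fin k ⊕ Fin k) F), by
    rw [mem_iff', big_sub]
    have h := SymplecticGroup.mem_iff.mp A.2
    simp [fromBlocks_multiply, fromBlocks_transpose, h]⟩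
  map_one' := by
    apply Subtype.ext
    apply sub_inj
    change (big (l := l) 1).submatrix (sg k l) (sg k l) = (1 : Matrix _ _ F).submatrix (sg k l) (sg k l)
    rw [big_sub, submatrix_one_equiv, fromBlocks_one]
  map_mul' A B := by
    apply Subtype.ext
    apply sub_inj
    change (big (l := l) ((A : Matrix _ _ F) * (B : Matrix _ _ F))).submatrix (sg k l) (sg k l) =
      (big (l := l) (A : Matrix _ _ F) * big (B : Matrix _ _ F)).submatrix (sg k l) (sg k l)
    rw [big_sub, sub_mul, big_sub, big_sub, fromBlocks_multiply]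
    simp

theorem emb_coe (A : symplecticGroup (Fin k) F) :
    (emb k l F A : Matrix (Fin (k + l) ⊕ Fin (k + l)) (Fin (k + l) ⊕ Fin (k + l)) F).submatrix (sg k l) (sg k l) =
      fromBlocks (A : Matrix (Fin k ⊕ Fin k) (Fin k ⊕ Fin k) F) 0 0 1 := big_sub _

/-- the centralizer of `-1 ⊕ 1` normalises `Sp_{2k} ⊕ 1` -/
theorem norm_emb (h2 : (2 : F) ≠ 0) (g : symplecticGroup (Fin (k + l)) F)
    (hg : g * emb k l F (neg k F) = emb k l F (neg k F) * g) (a : symplecticGroup (Fin k) F) :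
    g * emb k l F a * g⁻¹ ∈ (emb k l F).range := by
  set G := (g : Matrix (Fin (k + l) ⊕ Fin (k + l)) (Fin (k + l) ⊕ Fin (k + l)) F).submatrix (sg k l) (sg k l) with hG
  obtain ⟨A, B, C, D, hABCD⟩ : ∃ A B C D, G = fromBlocks A B C D :=
    ⟨_, _, _, _, (fromBlocks_toBlocks G).symm⟩
  have h1 : G * fromBlocks (-1) 0 0 1 = fromBlocks (-1) 0 0 1 * G := by
    have := congrArg (fun X : symplecticGroup (Fin (k + l)) F =>
      (X : Matrix (Fin (k + l) ⊕ Fin (k + l)) (Fin (k + l) ⊕ Fin (k + l)) F).submatrix (sg k l) (sg k l)) hg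
    simp only [Submonoid.coe_mul, sub_mul, emb_coe, neg_coe] at this
    exact this
  rw [hABCD, fromBlocks_multiply, fromBlocks_multiply] at h1
  simp only [Matrix.mul_zero, Matrix.mul_one, Matrix.zero_mul, Matrix.one_mul, add_zero, zero_add, Matrix.mul_neg,
    Matrix.neg_mul] at h1
  rw [fromBlocks_inj] at h1
  obtain ⟨-, hB, hC, -⟩ := h1
  have hB0 : B = 0 := by
    ext i j
    have := congrFun (congrFun hB i) j
    rw [Matrix.neg_apply] at this
    have h3 : 2 * B i j = 0 := by linear_combination this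
    exact (mul_eq_zero.mp h3).resolve_left h2
  have hC0 : C = 0 := by
    ext i j
    have := congrFun (congrFun hC i) j
    rw [Matrix.neg_apply] at this
    have h3 : 2 * C i j = 0 := by linear_combination (-1 : F) * this
    exact (mul_eq_zero.mp h3).resolve_left h2
  subst hB0 hC0
  have hmem := (mem_iff' _).mp g.2
  rw [← hG, hABCD, fromBlocks_transpose, fromBlocks_multiply, fromBlocks_multiply] at hmem
  simp only [Matrix.mul_zero, Matrix.zero_mul, add_zero, zero_add, transpose_zero] at hmem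
  rw [fromBlocks_inj] at hmem
  have hA : A ∈ symplecticGroup (Fin k) F := SymplecticGroup.mem_iff.mpr hmem.1
  refine ⟨(⟨A, hA⟩ : symplecticGroup (Fin k) F) * a * (⟨A, hA⟩ : symplecticGroup (Fin k) F)⁻¹, ?_⟩
  have h3 : emb k l F ((⟨A, hA⟩ : symplecticGroup (Fin k) F) * a * (⟨A, hA⟩ : symplecticGroup (Fin k) F)⁻¹) * g =
      g * emb k l F a := by
    apply Subtype.ext
    apply sub_inj
    rw [Submonoid.coe_mul, Submonoid.coe_mul, sub_mul, sub_mul, emb_coe, emb_coe, ← hG, hABCD, fromBlocks_multiply,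
      fromBlocks_multiply]
    simp only [Matrix.mul_zero, Matrix.zero_mul, add_zero, zero_add, Matrix.mul_one, Matrix.one_mul]
    congr 1
    have h4 := congrArg (fun A : symplecticGroup (Fin k) F => (A : Matrix (Fin k ⊕ Fin k) (Fin k ⊕ Fin k) F))
      (inv_mul_cancel_right ((⟨A, hA⟩ : symplecticGroup (Fin k) F) * a) (⟨A, hA⟩ : symplecticGroup (Fin k) F))
    exact h4
  rw [← h3]
  group

theorem emb_center {a : symplecticGroup (Fin k) F} (hl : 1 ≤ l)
    (h : emb k l F a ∈ center (symplecticGroup (Fin (k + l)) F)) : a = 1 := by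
  obtain ⟨r, hr⟩ := (LieClassical.SympCenter.mem_center_iff (k + l) _).mp h
  have h1 : fromBlocks (a : Matrix (Fin k ⊕ Fin k) (Fin k ⊕ Fin k) F) 0 0 (1 : Matrix (Fin l ⊕ Fin l) (Fin l ⊕ Fin l) F) =
      fromBlocks (r • 1) 0 0 (r • 1) := by
    rw [← emb_coe, hr]
    ext i j
    rcases i with i | i <;> rcases j with j | j <;> simp [Matrix.one_apply]
  rw [fromBlocks_inj] at h1
  obtain ⟨h2, -, -, h3⟩ := h1
  have h4 : r = 1 := by
    have := congrFun (congrFun h3 (Sum.inl ⟨0, hl⟩)) (Sum.inl ⟨0, hl⟩)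
    simpa using this.symm
  apply Subtype.ext
  rw [h2, h4, one_smul]
  rfl

end Embed

section Even

variable {F : Type} [Field F]

/-- `SL₂(3)` contains a quaternion group over `-1` -/
theorem even8_negOne (h3 : (3 : F) = 0) (h2 : (2 : F) ≠ 0) : Even8 (negOne F) := by
  refine ⟨NI.Blocks.orderOf_negOne h2, ?_⟩
  have h21 : (1 : F) + 1 = -1 := by linear_combination h3
  let u : Matrix.SpecialLinearGroup (Fin 2) F := ⟨!![0, 1; -1, 0], by simp [Matrix.det_fin_two]⟩
  let x : Matrix.SpecialLinearGroup (Fin 2) F :=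
    ⟨!![1, 1; 1, -1], by rw [Matrix.det_fin_two_of]; linear_combination -h3⟩
  have huu : u * u = negOne F := by
    apply Subtype.ext
    rw [Matrix.SpecialLinearGroup.coe_mul]
    ext r s
    fin_cases r <;> fin_cases s <;> simp [u, Matrix.mul_apply, Fin.sum_univ_two]
  have hxx : x * x = negOne F := by
    apply Subtype.ext
    rw [Matrix.SpecialLinearGroup.coe_mul]
    ext r s
    fin_cases r <;> fin_cases s <;> simp [x, Matrix.mul_apply, Fin.sum_univ_two, h21]
  have hux : u * x = negOne F * (x * u) := by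
    apply Subtype.ext
    rw [Matrix.SpecialLinearGroup.coe_mul, Matrix.SpecialLinearGroup.coe_mul, Matrix.SpecialLinearGroup.coe_mul]
    ext r s
    fin_cases r <;> fin_cases s <;> simp [u, x, Matrix.mul_apply, Fin.sum_univ_two]
  refine ⟨u, x, huu, hxx, ?_⟩
  rw [commutatorElement_def, hux]
  group

/-- `-1 ∈ Sp_{2m}(3)` is even -/
theorem even8_neg {m : ℕ} (hm : 1 ≤ m) (h3 : (3 : F) = 0) (h2 : (2 : F) ≠ 0) : Even8 (neg m F) := by
  let c : Matrix.SpecialLinearGroup (Fin 2) F →* (Fin m → Matrix.SpecialLinearGroup (Fin 2) F) :=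
    MonoidHom.pi fun _ => MonoidHom.id _
  have h1 : ((bd m F).comp c) (negOne F) = neg m F := rfl
  rw [← h1]
  refine (even8_negOne h3 h2).map _ ?_
  rw [h1]
  intro h
  have h4 := congrArg (fun A : symplecticGroup (Fin m) F =>
    (A : Matrix (Fin m ⊕ Fin m) (Fin m ⊕ Fin m) F) (Sum.inl ⟨0, hm⟩) (Sum.inl ⟨0, hm⟩)) h
  simp only [neg_coe, Matrix.neg_apply, Matrix.one_apply_eq] at h4
  have h5 : ((1 : symplecticGroup (Fin m) F) : Matrix (Fin m ⊕ Fin m) (Fin m ⊕ Fin m) F) = 1 := rfl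
  rw [h5, Matrix.one_apply_eq] at h4
  exact h2 (by linear_combination (-1 : F) * h4)

theorem neg_mem_center (m : ℕ) : neg m F ∈ center (symplecticGroup (Fin m) F) := by
  rw [LieClassical.SympCenter.mem_center_iff]
  exact ⟨-1, by rw [neg_coe]; simp⟩

/-- the centre of `Sp_{2m}` is a 2-group -/
theorem center_two {m : ℕ} (hm : 1 ≤ m) : IsPGroup 2 ↥(center (symplecticGroup (Fin m) F)) := by
  rintro ⟨A, hA⟩
  refine ⟨1, Subtype.ext ?_⟩
  rw [pow_one, Subgroup.coe_pow, Subgroup.coe_one]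
  change A ^ 2 = 1
  rcases NI.FrameSp.center_cases hm hA with rfl | rfl
  · exact one_pow 2
  · apply Subtype.ext
    rw [pow_two, Submonoid.coe_mul, neg_coe]
    simp

end Even

/-- **row (R2)** for the model -/
theorem hasYF_of_equiv {F : Type} [Field F] [Fintype F] (hF : Fintype.card F = 3) {n : ℕ} (hn : 3 ≤ n)
    {K : Type u} [Group K] (f : K ≃* PSp n F) : HasYF K := by
  have h2 : (2 : F) ≠ 0 := NI.Blocks.two_ne_zero_of_odd (by rw [hF]; decide)
  have h3 : (3 : F) = 0 := by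
    have := FiniteField.cast_card_eq_zero F
    rw [hF] at this
    exact_mod_cast this
  obtain ⟨l, rfl⟩ := Nat.exists_eq_add_of_le (show 2 ≤ n by omega)
  have hl : 1 ≤ l := by omega
  have hq : NI.Blocks (symplecticGroup (Fin 2) F) F 2 (neg 2 F) := NI.FrameSp.blocks h2 le_rfl
  have hqs : IsQuasisimple ↥(symplecticGroup (Fin 2) F) :=
    ⟨⟨Cfsg.Agent.S0269.result 2 (Or.inr (Or.inl ⟨rfl, by omega⟩))⟩,
      Cfsg.Agent.S0270.result 2 le_rfl (fun _ => by omega)⟩
  have hr : Rk (↥(symplecticGroup (Fin 2) F) ⧸ center ↥(symplecticGroup (Fin 2) F)) 3 :=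
    Or.inr (Or.inl ⟨F, _, _, 2, hF, le_rfl, ⟨MulEquiv.refl _⟩⟩)
  let φ : symplecticGroup (Fin (2 + l)) F →* K := f.symm.toMonoidHom.comp (QuotientGroup.mk' _)
  have hs : Function.Surjective φ := f.symm.surjective.comp (QuotientGroup.mk'_surjective _)
  have hker : φ.ker = center (symplecticGroup (Fin (2 + l)) F) := by
    ext x
    rw [MonoidHom.mem_ker]
    change f.symm (QuotientGroup.mk' _ x) = 1 ↔ _
    rw [map_eq_one_iff _ f.symm.injective]
    exact QuotientGroup.eq_one_iff x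
  refine hasYF_of_block φ hs hker.le (emb 2 l F) hqs (neg_mem_center 2) (even8_neg one_le_two h3 h2) hr
    (center_two one_le_two) (norm_emb h2) ?_
  rw [injective_iff_map_eq_one]
  intro a ha
  have h1 : emb 2 l F a ∈ φ.ker := by simpa using ha
  rw [hker] at h1
  exact emb_center hl h1

/-- **row (R2)**: `PSp_{2n}(3)`, `n ≥ 3`, has `HasYF`. -/
theorem row_sp {K : Type u} [Group K] (h : FSp K 3)
    (h2 : ¬ ∃ (F : Type) (_ : Field F) (_ : Fintype F), Fintype.card F = 3 ∧ Nonempty (K ≃* PSp 2 F)) : HasYF K := by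
  obtain ⟨F, _, _, n, hF, hn, ⟨f⟩⟩ := h
  have hn' : n ≠ 2 := by
    rintro rfl
    exact h2 ⟨F, _, _, hF, ⟨f⟩⟩
  exact hasYF_of_equiv hF (by omega) f

/-- **row (R2)**: `PSp_{2n}(3)`, `n ≥ 3`, has `HasY`. -/
theorem hasY_sp {K : Type u} [Group K] (h : FSp K 3)
    (h2 : ¬ ∃ (F : Type) (_ : Field F) (_ : Fintype F), Fintype.card F = 3 ∧ Nonempty (K ≃* PSp 2 F)) : HasY K :=
  (row_sp h h2).hasY

end Cfsg.Agent.OddHalf.NI3.K.Sp
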