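import Mathlib
import Cfsg.Agent.OddHalf.NI3.Props
import Cfsg.Agent.OddHalf.NI3.Final

/-!
# `HasYF` is invariant under isomorphisms (NI over `F_3`, (F1_3))
-/

set_option autoImplicit false

namespace Cfsg.Agent.OddHalf.NI3.K.Congr

open Subgroup Cfsg Cfsg.Agent.OddHalf.Iface Cfsg.Agent.OddHalf.LieOddFam Cfsg.Agent.SignalizersComponents
open Cfsg.Agent.OddHalf.NI (CompIn Even8 IsSL)
open Cfsg.Agent.OddHalf.NI.Final (isSL_congr)
open Cfsg.Agent.OddHalf.NI3.Final (quoCongr frame3_congr)

theorem compIn_equiv {X Y : Type*} [Group X] [Group Y] (e : X ≃* Y) {H K : Subgroup X} (h : CompIn H K) :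
    CompIn (H.map e.toMonoidHom) (K.map e.toMonoidHom) := by
  have hle : K.map e.toMonoidHom ≤ H.map e.toMonoidHom := Subgroup.map_mono h.le
  refine ⟨hle, ?_, ?_⟩
  · let f := H.equivMapOfInjective e.toMonoidHom e.injective
    have h2 : (K.map e.toMonoidHom).subgroupOf (H.map e.toMonoidHom) =
        (K.subgroupOf H).comap f.symm.toMonoidHom := by
      ext x
      rw [Subgroup.mem_subgroupOf, Subgroup.mem_comap, Subgroup.mem_subgroupOf]
      obtain ⟨y, rfl⟩ := f.surjective x
      have h3 : f.symm.toMonoidHom (f y) = y := f.symm_apply_apply y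
      rw [h3]
      change e.toMonoidHom (y : X) ∈ K.map e.toMonoidHom ↔ (y : X) ∈ K
      exact Subgroup.mem_map_iff_mem e.injective
    rw [h2]
    exact h.comp.1.comap _
  · have e1 := Subgroup.subgroupOfEquivOfLe hle
    have e2 := K.equivMapOfInjective e.toMonoidHom e.injective
    exact Components.isQuasisimple_of_mulEquiv (e2.trans e1.symm) h.quasi

theorem map_centralizer {X Y : Type*} [Group X] [Group Y] (e : X ≃* Y) (y : X) :
    (centralizer ({y} : Set X)).map e.toMonoidHom = centralizer ({e y} : Set Y) := by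
  ext x
  rw [Subgroup.mem_map_equiv, Subgroup.mem_centralizer_iff, Subgroup.mem_centralizer_iff]
  simp only [Set.mem_singleton_iff, forall_eq]
  constructor
  · intro h
    have := congrArg e h
    simpa using this
  · intro h
    apply e.injective
    simpa using h

theorem isPGroup_center_congr {p : ℕ} {A B : Type*} [Group A] [Group B] (e : A ≃* B)
    (h : IsPGroup p ↥(center A)) : IsPGroup p ↥(center B) := by
  rintro ⟨b, hb⟩
  have hb' : e.symm b ∈ center A := by
    rw [mem_center_iff]
    intro g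
    apply e.injective
    rw [map_mul, map_mul, e.apply_symm_apply]
    exact mem_center_iff.mp hb (e g)
  obtain ⟨k, hk⟩ := h ⟨e.symm b, hb'⟩
  refine ⟨k, Subtype.ext ?_⟩
  have h1 : e.symm b ^ p ^ k = 1 := congrArg Subtype.val hk
  rw [← map_pow] at h1
  change b ^ p ^ k = 1
  exact e.symm.injective (by rw [h1, map_one])

/-- **`HasYF` is invariant under isomorphisms.** -/
theorem hasYF_congr {X Y : Type*} [Group X] [Group Y] [Finite X] (e : X ≃* Y) (h : HasYF X) : HasYF Y := by
  obtain ⟨y, M, hy, h1, h2, h3⟩ := h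
  have : Finite Y := Finite.of_equiv X e.toEquiv
  let f : ↥M ≃* ↥(M.map e.toMonoidHom) := M.equivMapOfInjective e.toMonoidHom e.injective
  have hfy : f ⟨y, hy⟩ = ⟨e y, mem_map_of_mem e.toMonoidHom hy⟩ := rfl
  refine ⟨e y, M.map e.toMonoidHom, mem_map_of_mem e.toMonoidHom hy, ?_, ?_, ?_⟩
  · rw [← h1]
    exact orderOf_injective e.toMonoidHom e.injective y
  · rw [← map_centralizer e]
    exact compIn_equiv e h2
  · rcases h3 with ⟨h3, h4, h5⟩ | ⟨h3, h4⟩ | ⟨h3, h4⟩
    · refine Or.inl ⟨rk_congr (quoCongr f) h3, ?_, isPGroup_center_congr f h5⟩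
      have h6 := h4.map f.toMonoidHom (by
        intro h7
        have h8 : (⟨y, hy⟩ : ↥M) = 1 := f.injective (by rw [map_one]; exact h7)
        have h9 : y = 1 := congrArg Subtype.val h8
        rw [h9, orderOf_one] at h1
        norm_num at h1)
      exact h6
    · refine Or.inr (Or.inl ⟨?_, ?_⟩)
      · rw [← Nat.card_congr f.toEquiv]
        exact h3
      · rw [← hfy]
        exact frame3_congr f h4
    · refine Or.inr (Or.inr ⟨isSL_congr f h3, ?_⟩)
      intro h5
      apply h4
      rw [mem_center_iff] at h5 ⊢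
      intro g
      apply e.injective
      rw [map_mul, map_mul]
      exact h5 (e g)

end Cfsg.Agent.OddHalf.NI3.K.Congr
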