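import Cfsg.Agent.OddHalf.NI3.K.OrthY
import Cfsg.Agent.S0303

/-!
# `2.U₄(3)` in the orthogonal groups of dimension 7 and 8 over the field with three elements (K-facts OrthU)

`K = PΩ(V)`, `V = W ⊥ W'`, `|F| = 3`, `dim V ∈ {7, 8}`, `W` of dimension 6 and of minus type: `y = -1_W`,
`M = Ω(W) ≃ Ω₆⁻(3) = 2.U₄(3)` is a component of `C_K(y)`.
-/

set_option autoImplicit false

namespace Cfsg.Agent.OddHalf.NI3.K.OrthU

open QuadraticMap Cfsg
open Cfsg.Agent.LieClassical Cfsg.Agent.LieClassical.OrthCore Cfsg.Agent.LieClassical.OrthForms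
  Cfsg.Agent.LieClassical.OrthTrans Cfsg.Agent.LieClassical.OrthSimple Cfsg.Agent.LieClassical.OrthFinite
open Cfsg.Agent.TitsThree Cfsg.Agent.TitsThree.Siegel Cfsg.Agent.TitsThree.SiegelGen
  Cfsg.Agent.TitsThree.KSideO Cfsg.Agent.TitsThree.WBridge
open Cfsg.Agent.Nodes.RGDOrth
open Cfsg.Agent.SignalizersComponents
open Cfsg.Agent.OddHalf.NI3.K.OrthEmb Cfsg.Agent.OddHalf.NI3.K.OrthEmb.Emb Cfsg.Agent.OddHalf.NI3.K.OrthFrame
  Cfsg.Agent.OddHalf.NI3.K.OrthY
open Cfsg.Agent.OddHalf.NI (CompIn)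

universe u

/-! ### The embedding -/

section Emb6

variable {F V : Type*} [Field F] [AddCommGroup V] [Module F V]

/-- two hyperbolic pairs and two orthogonal vectors of norm one -/
structure Six (Q : QuadraticForm F V) where
  e : Fin 2 → V
  f : Fin 2 → V
  p : Fin 2 → V
  ee : ∀ i j, polar Q (e i) (e j) = 0
  ff : ∀ i j, polar Q (f i) (f j) = 0
  ef : ∀ i j, polar Q (e i) (f j) = if i = j then 1 else 0
  pe : ∀ i j, polar Q (p i) (e j) = 0
  pf : ∀ i j, polar Q (p i) (f j) = 0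
  pp : ∀ i j, polar Q (p i) (p j) = if i = j then 2 else 0

variable {Q : QuadraticForm F V} (W : Six Q)

namespace Six

theorem fe (i j : Fin 2) : polar Q (W.f i) (W.e j) = if i = j then 1 else 0 := by
  rw [polar_comm, W.ef]
  simp only [eq_comm]

theorem ep (i j : Fin 2) : polar Q (W.e i) (W.p j) = 0 := by rw [polar_comm, W.pe]
theorem fp (i j : Fin 2) : polar Q (W.f i) (W.p j) = 0 := by rw [polar_comm, W.pf]

/-- the coordinates -/
def cc : V →ₗ[F] ((Fin 2 ⊕ Fin 2) ⊕ Fin 2 → F) :=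
  LinearMap.pi (Sum.elim (Sum.elim (fun k => polarBilin Q (W.f k)) (fun k => polarBilin Q (W.e k)))
    (fun k => -polarBilin Q (W.p k)))

theorem cc_ll (v : V) (k : Fin 2) : W.cc v (Sum.inl (Sum.inl k)) = polar Q (W.f k) v := rfl
theorem cc_lr (v : V) (k : Fin 2) : W.cc v (Sum.inl (Sum.inr k)) = polar Q (W.e k) v := rfl
theorem cc_r (v : V) (k : Fin 2) : W.cc v (Sum.inr k) = -polar Q (W.p k) v := rfl

/-- the inclusion -/
def ii : ((Fin 2 ⊕ Fin 2) ⊕ Fin 2 → F) →ₗ[F] V :=
  ∑ k : Fin 2, ((LinearMap.proj (R := F) (φ := fun _ : (Fin 2 ⊕ Fin 2) ⊕ Fin 2 => F)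
      (Sum.inl (Sum.inl k))).smulRight (W.e k) +
    (LinearMap.proj (R := F) (φ := fun _ : (Fin 2 ⊕ Fin 2) ⊕ Fin 2 => F) (Sum.inl (Sum.inr k))).smulRight (W.f k) +
    (LinearMap.proj (R := F) (φ := fun _ : (Fin 2 ⊕ Fin 2) ⊕ Fin 2 => F) (Sum.inr k)).smulRight (W.p k))

theorem ii_apply (a : (Fin 2 ⊕ Fin 2) ⊕ Fin 2 → F) :
    W.ii a = ∑ k : Fin 2, (a (Sum.inl (Sum.inl k)) • W.e k + a (Sum.inl (Sum.inr k)) • W.f k +
      a (Sum.inr k) • W.p k) := by
  unfold ii
  rw [LinearMap.sum_apply]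
  rfl

theorem polar_ii (a : (Fin 2 ⊕ Fin 2) ⊕ Fin 2 → F) (v : V) :
    polar Q (W.ii a) v = ∑ k : Fin 2, (a (Sum.inl (Sum.inl k)) * polar Q (W.e k) v +
      a (Sum.inl (Sum.inr k)) * polar Q (W.f k) v + a (Sum.inr k) * polar Q (W.p k) v) := by
  have h : ∀ x, polar Q x v = (polarBilin Q).flip v x := fun x => rfl
  rw [h, ii_apply, map_sum]
  refine Finset.sum_congr rfl fun k _ => ?_
  rw [map_add, map_add, map_smul, map_smul, map_smul, smul_eq_mul, smul_eq_mul, smul_eq_mul, ← h, ← h, ← h]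

theorem cc_ii (h30 : (3 : F) = 0) (a : (Fin 2 ⊕ Fin 2) ⊕ Fin 2 → F) : W.cc (W.ii a) = a := by
  funext s
  rcases s with (k | k) | k
  · rw [cc_ll, polar_comm, polar_ii, Fin.sum_univ_two]
    simp only [W.ef, W.ff, W.pf]
    fin_cases k <;> simp
  · rw [cc_lr, polar_comm, polar_ii, Fin.sum_univ_two]
    simp only [W.ee, W.fe, W.pe]
    fin_cases k <;> simp
  · rw [cc_r, polar_comm, polar_ii, Fin.sum_univ_two]
    simp only [W.ep, W.fp, W.pp]
    fin_cases k <;> simp
    · linear_combination -a (Sum.inr 0) * h30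
    · linear_combination -a (Sum.inr 1) * h30

theorem pol_ii (h30 : (3 : F) = 0) (a : (Fin 2 ⊕ Fin 2) ⊕ Fin 2 → F) (v : V) :
    polar Q (W.ii a) v = polar (minusForm 2 F 0 1) a (W.cc v) := by
  rw [polar_ii, polar_minusForm, Fin.sum_univ_two, Fin.sum_univ_two]
  simp only [cc_ll, cc_lr, cc_r]
  linear_combination (a (Sum.inr 0) * polar Q (W.p 0) v + a (Sum.inr 1) * polar Q (W.p 1) v) * h30

/-- **The embedding of the six-dimensional space of minus type.** -/
def emb (h30 : (3 : F) = 0) (h2 : (2 : F) ≠ 0) : Emb (minusForm 2 F 0 1) Q where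
  i := W.ii
  c := W.cc
  ci := W.cc_ii h30
  qi a := by
    have h1 := W.pol_ii h30 a (W.ii a)
    rw [W.cc_ii h30, polar_self', polar_self'] at h1
    exact mul_left_cancel₀ h2 h1
  pol := W.pol_ii h30

end Six

/-- `Six` from a Witt frame with three hyperbolic pairs and a further vector of norm one. -/
def sixOf {m : ℕ} (W : WFrame (PO Q) m) (h3 : 3 ≤ m) (q : V) (hq : Q q = 1)
    (hqe : ∀ i : Fin 3, polar Q q (W.e (Fin.castLE h3 i)) = 0)
    (hqf : ∀ i : Fin 3, polar Q q (W.f (Fin.castLE h3 i)) = 0) : Six Q := by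
  have inj : ∀ i j : Fin 3, Fin.castLE h3 i = Fin.castLE h3 j ↔ i = j := fun i j =>
    (Fin.castLE_injective h3).eq_iff
  exact
  { e := fun k => W.e (Fin.castLE h3 k.castSucc)
    f := fun k => W.f (Fin.castLE h3 k.castSucc)
    p := fun k => if k = 0 then W.e (Fin.castLE h3 2) + W.f (Fin.castLE h3 2) else q
    ee := fun i j => W_ee W _ _
    ff := fun i j => W_ff W _ _
    ef := fun i j => by
      rw [W_ef W]
      simp only [inj, Fin.castSucc_inj]
    pe := fun i j => by
      split_ifs with h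
      · rw [polar_add_left, W_ee W, W_fe W, if_neg, add_zero]
        rw [inj]
        revert j; decide
      · exact hqe _
    pf := fun i j => by
      split_ifs with h
      · rw [polar_add_left, W_ef W, W_ff W, if_neg, add_zero]
        rw [inj]
        revert j; decide
      · exact hqf _
    pp := fun i j => by
      fin_cases i <;> fin_cases j
      · simp only [Fin.zero_eta, if_true, polar_add_left, polar_add_right, W_ee W, W_ff W, W_ef W, W_fe W]
        norm_num
      · simp only [Fin.zero_eta, if_true, Fin.mk_one, one_ne_zero, if_false, polar_add_left]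
        rw [polar_comm, hqe, polar_comm, hqf, add_zero]
        simp
      · simp only [Fin.zero_eta, if_true, Fin.mk_one, one_ne_zero, if_false, polar_add_right]
        rw [hqe, hqf, add_zero]
      · simp only [Fin.mk_one, one_ne_zero, if_false, if_true]
        rw [polar_self', hq, mul_one] }

end Emb6

/-! ### `-1` on the six-dimensional space -/

section Neg

variable {F V : Type*} [Field F] [AddCommGroup V] [Module F V] {Q : QuadraticForm F V}

theorem refl_refl {x y : V} (hx : Q x ≠ 0) (hy : Q y ≠ 0) (h : polar Q x y = 0) (v : V) :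
    (refl Q x hx * refl Q y hy) v = v - ((Q x)⁻¹ * polar Q x v) • x - ((Q y)⁻¹ * polar Q y v) • y := by
  show refl Q x hx (refl Q y hy v) = _
  rw [refl_apply, refl_apply, polar_sub_right, polar_smul_right, h, smul_zero, sub_zero]
  abel

variable (F) in
/-- the space of dimension 6 -/
abbrev U6 : Type _ := (Fin 2 ⊕ Fin 2) ⊕ Fin 2 → F

variable (F) in
/-- `e_k + c f_k` -/
def hv (c : F) (k : Fin 2) : U6 F := Pi.single (Sum.inl (Sum.inl k)) 1 + Pi.single (Sum.inl (Sum.inr k)) c

variable (F) in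
/-- the basis of the anisotropic plane -/
def pv (k : Fin 2) : U6 F := Pi.single (Sum.inr k) 1

theorem polar_hv (c : F) (k : Fin 2) (v : U6 F) :
    polar (minusForm 2 F 0 1) (hv F c k) v = v (Sum.inl (Sum.inr k)) + c * v (Sum.inl (Sum.inl k)) := by
  rw [polar_minusForm, Fin.sum_univ_two]
  fin_cases k <;> simp [hv] <;> ring

theorem polar_pv (k : Fin 2) (v : U6 F) :
    polar (minusForm 2 F 0 1) (pv F k) v = 2 * v (Sum.inr k) := by
  rw [polar_minusForm, Fin.sum_univ_two]
  fin_cases k <;> simp [pv]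

theorem Q_hv (c : F) (k : Fin 2) : (minusForm 2 F 0 1) (hv F c k) = c := by
  rw [coe_minusForm, quadFormMinus_apply, Fin.sum_univ_two]
  fin_cases k <;> simp [hv]

theorem Q_pv (k : Fin 2) : (minusForm 2 F 0 1) (pv F k) = 1 := by
  rw [coe_minusForm, quadFormMinus_apply, Fin.sum_univ_two]
  fin_cases k <;> simp [pv]

theorem three_zero [Fintype F] (h3 : Fintype.card F = 3) : (3 : F) = 0 := by
  have h := FiniteField.cast_card_eq_zero F
  rw [h3] at h
  exact_mod_cast h

theorem aniso_one (h30 : (3 : F) = 0) [Fintype F] (h3 : Fintype.card F = 3) :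
    ∀ z₁ z₂ : F, z₁ ^ 2 + 0 * z₁ * z₂ + 1 * z₂ ^ 2 = 0 → z₁ = 0 ∧ z₂ = 0 := by
  intro z w h
  have hz : ∀ c : F, c = 0 ∨ c ^ 2 = 1 := by
    intro c
    by_cases hc : c = 0
    · exact Or.inl hc
    · right
      have := FiniteField.pow_card_sub_one_eq_one c hc
      rwa [h3] at this
  rcases hz z with h1 | h1
  · rcases hz w with h4 | h4
    · exact ⟨h1, h4⟩
    · rw [h1, h4] at h
      exfalso
      apply one_ne_zero (α := F)
      linear_combination h
  · rcases hz w with h4 | h4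
    · rw [h1, h4] at h
      exfalso
      apply one_ne_zero (α := F)
      linear_combination h
    · rw [h1, h4] at h
      exfalso
      apply one_ne_zero (α := F)
      linear_combination h30 - h

theorem good_six [Fintype F] (h3 : Fintype.card F = 3) : Good (minusForm 2 F 0 1) := by
  apply good_of_finite (nondeg_minusForm 2 F 0 1 (aniso_one (three_zero h3) h3))
  rw [Module.finrank_fintype_fun_eq_card, Fintype.card_sum, Fintype.card_sum, Fintype.card_fin]
  omega

/-- `-1` is in `E` -/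
theorem ng_mem [Fintype F] (h3 : Fintype.card F = 3) : ng F (U6 F) ∈ E (minusForm 2 F 0 1) := by
  have hG := good_six h3
  have a1 : ∀ k, (minusForm 2 F 0 1) (hv F 1 k) ≠ 0 := fun k => by rw [Q_hv]; exact one_ne_zero
  have a2 : ∀ k, (minusForm 2 F 0 1) (hv F (-1) k) ≠ 0 := fun k => by rw [Q_hv]; exact neg_ne_zero.2 one_ne_zero
  have a3 : ∀ k, (minusForm 2 F 0 1) (pv F k) ≠ 0 := fun k => by rw [Q_pv]; exact one_ne_zero
  have m1 := hG.refl_mul_refl_mem (a1 0) (a1 1) (by rw [Q_hv, Q_hv])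
  have m2 := hG.refl_mul_refl_mem (a2 0) (a2 1) (by rw [Q_hv, Q_hv])
  have m3 := hG.refl_mul_refl_mem (a3 0) (a3 1) (by rw [Q_pv, Q_pv])
  have h : ng F (U6 F) = (refl _ _ (a1 1) * refl _ _ (a1 0)) * ((refl _ _ (a2 1) * refl _ _ (a2 0)) *
      (refl _ _ (a3 1) * refl _ _ (a3 0))) := by
    ext1 v
    show _ = (refl _ _ (a1 1) * refl _ _ (a1 0)) ((refl _ _ (a2 1) * refl _ _ (a2 0))
      ((refl _ _ (a3 1) * refl _ _ (a3 0)) v))
    rw [refl_refl (a1 1) (a1 0) (by rw [polar_hv]; simp [hv]),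
      refl_refl (a2 1) (a2 0) (by rw [polar_hv]; simp [hv]), refl_refl (a3 1) (a3 0) (by rw [polar_pv]; simp [pv])]
    simp only [polar_hv, polar_pv, Q_hv, Q_pv, ng_apply]
    funext s
    rcases s with (k | k) | k
    · fin_cases k <;> simp [hv, pv]
    · fin_cases k <;> simp [hv, pv]
    · fin_cases k <;> simp [hv, pv] <;> ring
  rw [h]
  exact E_mul m1 (E_mul m2 m3)

/-- `-1` as an element of `E` -/
def nU [Fintype F] (h3 : Fintype.card F = 3) : E (minusForm 2 F 0 1) := ⟨ng F _, ng_mem h3⟩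

section nU

variable [Fintype F] (h3 : Fintype.card F = 3)

theorem nU_comm (g : E (minusForm 2 F 0 1)) : nU h3 * g = g * nU h3 := Subtype.ext (ng_mul g.1)

theorem nU_ne : nU h3 ≠ 1 := by
  have h30 := three_zero h3
  intro h
  have h1 : ng F (U6 F) = 1 := congrArg Subtype.val h
  have h4 : ng F (U6 F) (fun _ => 1) = (1 : U6 F ≃ₗ[F] U6 F) (fun _ => 1) := by
    rw [h1]
  rw [ng_apply] at h4
  have h5 := congrFun h4 (Sum.inr 0)
  change (-1 : F) = 1 at h5
  apply one_ne_zero (α := F)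
  linear_combination h30 + h5

theorem nU_sq : nU h3 ^ 2 = 1 := by
  rw [pow_two]
  apply Subtype.ext
  ext1 v
  show ng F _ (ng F _ v) = v
  rw [ng_apply, ng_apply, _root_.neg_neg]

theorem orderOf_nU : orderOf (nU h3) = 2 := orderOf_eq_prime (nU_sq h3) (nU_ne h3)

/-- the centre of `Ω₆⁻(3)` is `{±1}` -/
theorem center_eq (g : E (minusForm 2 F 0 1)) (hg : g ∈ Subgroup.center ↥(E (minusForm 2 F 0 1))) :
    g = 1 ∨ g = nU h3 := by
  obtain ⟨c, hc⟩ := scalar_of_center (good_six h3) hg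
  have hc0 : c ≠ 0 := by
    intro h0
    have h2 := hc (fun _ => 1)
    rw [h0, zero_smul] at h2
    have h3 := (map_eq_zero_iff g.1 g.1.injective).1 h2
    exact one_ne_zero (congrFun h3 (Sum.inr 0) : (1 : F) = 0)
  have h4 : c ^ 2 = 1 := by
    have := FiniteField.pow_card_sub_one_eq_one c hc0
    rwa [h3] at this
  rcases mul_self_eq_one_iff.1 (by rw [← pow_two, h4] : c * c = 1) with h5 | h5
  · left
    apply Subtype.ext
    ext1 v
    show g.1 v = v
    rw [hc, h5, one_smul]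
  · right
    apply Subtype.ext
    ext1 v
    show g.1 v = -v
    rw [hc, h5, neg_one_smul]

include h3 in
theorem card_center : Nat.card ↥(Subgroup.center ↥(E (minusForm 2 F 0 1))) = 2 := by
  have hn : nU h3 ∈ Subgroup.center ↥(E (minusForm 2 F 0 1)) :=
    Subgroup.mem_center_iff.2 fun g => (nU_comm h3 g).symm
  rw [Nat.card_eq_two_iff]
  refine ⟨1, ⟨nU h3, hn⟩, ?_, ?_⟩
  · intro h
    exact nU_ne h3 (congrArg Subtype.val h).symm
  · ext x
    simp only [Set.mem_insert_iff, Set.mem_singleton_iff, Set.mem_univ, iff_true]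
    rcases center_eq h3 x.1 x.2 with h | h
    · left; exact Subtype.ext h
    · right; exact Subtype.ext h

end nU

end Neg

/-! ### The component -/

section Main

variable {ι : Type} [Fintype ι] [DecidableEq ι] {F : Type} [Field F] [Fintype F] {Q : QuadraticForm F (ι → F)}

/-- the map `E Q₁ → E Q` -/
def hU {Q₁ : QuadraticForm F (U6 F)} (e : Emb Q₁ Q) : ↥(E Q₁) →* ↥(E Q) :=
  (e.hom.comp (E Q₁).subtype).codRestrict (E Q) fun g => e.hom_mem_E g.2

omit [Fintype F] in
theorem injective_comp (hG : Good Q) {Q₁ : QuadraticForm F (U6 F)} (e : Emb Q₁ Q)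
    (hd : 6 < Fintype.card ι) : Function.Injective ((toPOmega hG).comp (hU e)) := by
  rw [injective_iff_map_eq_one]
  intro g hg
  obtain ⟨c, hc⟩ := scalar_of_center hG (center_of_toPOmega hG hg)
  have h1 : Module.finrank F (U6 F) < Module.finrank F (ι → F) := by
    rw [Module.finrank_fintype_fun_eq_card, Module.finrank_fintype_fun_eq_card, Fintype.card_sum, Fintype.card_sum,
      Fintype.card_fin]
    omega
  obtain ⟨v, hv, hv0⟩ := (Submodule.ne_bot_iff _).1 (LinearMap.ker_ne_bot_of_finrank_lt (f := e.c) h1)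
  have hcv : e.c v = 0 := hv
  have h2 : e.hom g.1 v = c • v := hc v
  rw [hom_apply, hcv, map_zero, sub_zero, map_zero, add_zero] at h2
  have h3 : c = 1 := by
    have h4 : (1 - c) • v = 0 := by rw [sub_smul, one_smul, ← h2, sub_self]
    have h5 := (smul_eq_zero.1 h4).resolve_right hv0
    exact (sub_eq_zero.1 h5).symm
  apply Subtype.ext
  apply e.hom_injective
  rw [Subgroup.coe_one, map_one]
  ext1 w
  have h6 : e.hom g.1 w = c • w := hc w
  rw [h6, h3, one_smul]
  rfl

/-- **`K = PΩ(V)`, `dim V > 6`, has `(y, M)` with `M = Ω₆⁻(3) = 2.U₄(3)`.** -/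
theorem hasU_of_emb {K : Type*} [Group K] (f : K ≃* Cfsg.POmega F ⇑Q) (hG : Good Q) (e : Emb (minusForm 2 F 0 1) Q)
    (h3 : Fintype.card F = 3) (hd : 6 < Fintype.card ι) :
    ∃ (y : K) (M : Subgroup K), y ∈ M ∧ orderOf y = 2 ∧ CompIn (Subgroup.centralizer ({y} : Set K)) M ∧
      Nat.card ↥(Subgroup.center ↥M) = 2 ∧ XU43 (↥M ⧸ Subgroup.center ↥M) := by
  have h30 := three_zero h3
  have h2 : (2 : F) ≠ 0 := two_ne h3
  have hG₁ := good_six h3
  obtain ⟨π, hπ⟩ : ∃ π : ↥(E Q) →* K, π = f.symm.toMonoidHom.comp (toPOmega hG) := ⟨_, rfl⟩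
  have hπs : Function.Surjective π := by
    rw [hπ]
    exact f.symm.surjective.comp (toPOmega_surjective hG)
  have hπk : ∀ h, π h = 1 → h ∈ Subgroup.center ↥(E Q) := by
    intro h hh
    rw [hπ] at hh
    exact center_of_toPOmega hG (f.symm.injective (hh.trans (map_one f.symm).symm))
  have hinj : Function.Injective (π.comp (hU e)) := by
    rw [hπ]
    exact f.symm.injective.comp (injective_comp hG e hd)
  set ψ := π.comp (hU e) with hψ
  let eM : ↥(E (minusForm 2 F 0 1)) ≃* ↥ψ.range := MonoidHom.ofInjective hinj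
  refine ⟨ψ (nU h3), ψ.range, ⟨_, rfl⟩, ?_, ?_, ?_, ?_⟩
  · rw [orderOf_injective ψ hinj, orderOf_nU h3]
  · refine compIn_of (isQuasisimple_E hG₁) π hπs hπk (hU e) hinj (n := nU h3) (nU_comm h3) ?_
    intro h hh a
    obtain ⟨g₁, hg₁, hc⟩ := e.exists_conj h2 (E_le_O h.2) (congrArg Subtype.val hh)
    exact ⟨⟨g₁ * a.1 * g₁⁻¹, conj_mem_E hg₁ a.2⟩, Subtype.ext (hc a.1)⟩
  · rw [Nat.card_congr (Subgroup.centerCongr eM.symm).toEquiv]
    exact card_center h3
  · have e1 : ↥ψ.range ≃* Cfsg.Omega F ⇑(minusForm 2 F 0 1) := eM.symm.trans (toOmega hG₁)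
    have e2 : (↥ψ.range ⧸ Subgroup.center ↥ψ.range) ≃* Cfsg.POmega F ⇑(minusForm 2 F 0 1) :=
      quotientCenterCongr e1
    have : Fact (Nat.Prime 3) := ⟨Nat.prime_three⟩
    have : Fintype (GaloisField 3 2) := Fintype.ofFinite _
    have h9 : Fintype.card (GaloisField 3 2) = 3 ^ 2 := by
      rw [← Nat.card_eq_fintype_card, GaloisField.card 3 2 (by norm_num)]
    rw [coe_minusForm] at e2
    obtain ⟨e3⟩ := Cfsg.Agent.S0303.result h3 h9 0 1 (aniso_one h30 h3)
    exact ⟨GaloisField 3 2, inferInstance, inferInstance, by rw [h9]; norm_num, ⟨e2.trans e3⟩⟩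

end Main

/-! ### The rows -/

section Rows

/-- The conclusion `HasU K` of the K-facts (literal). -/
def HU (K : Type*) [Group K] : Prop :=
  ∃ (y : K) (M : Subgroup K), y ∈ M ∧ orderOf y = 2 ∧ CompIn (Subgroup.centralizer ({y} : Set K)) M ∧
    Nat.card ↥(Subgroup.center ↥M) = 2 ∧ XU43 (↥M ⧸ Subgroup.center ↥M)

variable {K : Type*} [Group K]

theorem o7 (h : ∃ (F : Type) (_ : Field F) (_ : Fintype F), Fintype.card F = 3 ∧
    Nonempty (K ≃* Cfsg.POmega F (Cfsg.quadFormOdd 3 F))) : HU K := by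
  obtain ⟨F, _, _, h3, ⟨f⟩⟩ := h
  rw [← coe_oddForm] at f
  have hG : Good (oddForm 3 F) := by
    apply good_of_finite (nondeg_oddForm 3 F (two_ne h3))
    rw [Module.finrank_fintype_fun_eq_card, Fintype.card_sum, Fintype.card_sum, Fintype.card_fin,
      Fintype.card_unit]
    omega
  have W : Six (oddForm 3 F) := sixOf (wodd 3 F) le_rfl (Pi.single (Sum.inl ()) 1)
    (by rw [coe_oddForm, quadFormOdd_apply]; simp)
    (fun i => by
      show polar (oddForm 3 F) _ (Pi.single (Sum.inr (Sum.inl _)) 1) = 0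
      rw [polar_oddForm]; simp)
    (fun i => by
      show polar (oddForm 3 F) _ (Pi.single (Sum.inr (Sum.inr _)) 1) = 0
      rw [polar_oddForm]; simp)
  refine hasU_of_emb f hG (W.emb (three_zero h3) (two_ne h3)) h3 ?_
  rw [Fintype.card_sum, Fintype.card_sum, Fintype.card_fin, Fintype.card_unit]
  omega

theorem o8p (h : ∃ (F : Type) (_ : Field F) (_ : Fintype F), Fintype.card F = 3 ∧
    Nonempty (K ≃* Cfsg.POmega F (Cfsg.quadFormPlus 4 F))) : HU K := by
  obtain ⟨F, _, _, h3, ⟨f⟩⟩ := h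
  rw [← coe_plusForm] at f
  have hG : Good (plusForm 4 F) := by
    apply good_of_finite (nondeg_plusForm 4 F)
    rw [Module.finrank_fintype_fun_eq_card, Fintype.card_sum, Fintype.card_fin]
    omega
  have W : Six (plusForm 4 F) := sixOf (wplus 4 F) (by omega) ((wplus 4 F).e 3 + (wplus 4 F).f 3)
    (by
      have h1 := polar_self' (Q := plusForm 4 F) ((wplus 4 F).e 3 + (wplus 4 F).f 3)
      rw [polar_add_left, polar_add_right, polar_add_right, W_ee (wplus 4 F), W_ef (wplus 4 F), W_fe (wplus 4 F),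
        W_ff (wplus 4 F), if_pos rfl] at h1
      apply mul_left_cancel₀ (two_ne h3)
      rw [← h1]
      ring)
    (fun i => by
      rw [polar_add_left, W_ee (wplus 4 F), W_fe (wplus 4 F), if_neg, add_zero]
      intro hc
      have h7 : (3 : ℕ) = i.1 := congrArg Fin.val hc
      omega)
    (fun i => by
      rw [polar_add_left, W_ef (wplus 4 F), W_ff (wplus 4 F), if_neg, add_zero]
      intro hc
      have h7 : (3 : ℕ) = i.1 := congrArg Fin.val hc
      omega)
  refine hasU_of_emb f hG (W.emb (three_zero h3) (two_ne h3)) h3 ?_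
  rw [Fintype.card_sum, Fintype.card_fin]
  omega

theorem o8m (h : ∃ (F : Type) (_ : Field F) (_ : Fintype F) (b c : F), Fintype.card F = 3 ∧
    (∀ z₁ z₂ : F, z₁ ^ 2 + b * z₁ * z₂ + c * z₂ ^ 2 = 0 → z₁ = 0 ∧ z₂ = 0) ∧
    Nonempty (K ≃* Cfsg.POmega F (Cfsg.quadFormMinus 3 F b c))) : HU K := by
  obtain ⟨F, _, _, b, c, h3, hbc, ⟨f⟩⟩ := h
  rw [← coe_minusForm] at f
  have hG : Good (minusForm 3 F b c) := by
    apply good_of_finite (nondeg_minusForm 3 F b c hbc)
    rw [Module.finrank_fintype_fun_eq_card, Fintype.card_sum, Fintype.card_sum, Fintype.card_fin,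
      Fintype.card_fin]
    omega
  have W : Six (minusForm 3 F b c) := sixOf (wminus 3 F b c hbc) le_rfl (Pi.single (Sum.inr 0) 1)
    (by rw [coe_minusForm, quadFormMinus_apply]; simp)
    (fun i => by
      show polar (minusForm 3 F b c) _ (Pi.single (Sum.inl (Sum.inl _)) 1) = 0
      rw [polar_minusForm]; simp)
    (fun i => by
      show polar (minusForm 3 F b c) _ (Pi.single (Sum.inl (Sum.inr _)) 1) = 0
      rw [polar_minusForm]; simp)
  refine hasU_of_emb f hG (W.emb (three_zero h3) (two_ne h3)) h3 ?_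
  rw [Fintype.card_sum, Fintype.card_sum, Fintype.card_fin, Fintype.card_fin]
  omega

end Rows

end Cfsg.Agent.OddHalf.NI3.K.OrthU
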