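import Mathlib
import Cfsg.Agent.Nodes.Unique
import Cfsg.Agent.Nodes.PosPair
import Cfsg.Agent.Nodes.Sub
import Cfsg.Agent.Nodes.NormalForm
import Cfsg.Agent.Nodes.Block

/-!
# Root group data of the centralizer of a torus element (NI over `F_3`, rows F13; helper622)

* `cent_closed` : for a closed set `S` of positive roots the centralizer of `s ∈ T` in `Sup X S` is generated by the
  `C_{X x}(s)`, `x ∈ S`;
* `comm_cent` : commutators of elements of root groups centralised by `s ∈ T`;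
* `comm_of_cent`, `rgd_cent` : the root group datum of a subsystem `Φ'` such that `s` centralises `X x` for `x ∈ Φ'` and
  `C_{X x}(s) = 1` for the other roots;
* `cj_G1_of_cent` : the group of this subsystem is normal in `C(s)`.
-/

set_option autoImplicit false
set_option linter.unusedSectionVars false
set_option linter.dupNamespace false

namespace Cfsg.Agent.OddHalf.NI3.K.CentSub

open CoxeterSystem Cfsg.Agent.ChevalleyStructure.CoxeterGeom Cfsg.Agent.Tits.Roots Cfsg.Agent.Tits.Core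
  Cfsg.Agent.Tits.RootComb Cfsg.Agent.Nodes.Comb Cfsg.Agent.Nodes.Reps Cfsg.Agent.Nodes.BNOf
  Cfsg.Agent.Nodes.BNOf.RGD Cfsg.Agent.Nodes.Unique Cfsg.Agent.Nodes.RGDLib Cfsg.Agent.Nodes.SubComb
  Cfsg.Agent.Nodes.Sub Cfsg.Agent.Nodes.Bruhat
open scoped commutatorElement

section Closed

variable {I W Y : Type*} [Fintype I] [DecidableEq I] [Group W] [Group Y] {M : CoxeterMatrix I}
  {cs : CoxeterSystem M W} {A : I → I → ℤ} {h : IsCartan M A} {p : ℕ} {T : Subgroup Y} {n : I → Y}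
  {X : (I → ℤ) → Subgroup Y}

theorem mem_cen {s g : Y} : g ∈ Subgroup.centralizer ({s} : Set Y) ↔ s * g = g * s := by
  rw [Subgroup.mem_centralizer_iff]
  simp

theorem cent_fut [Finite W] (Rd : RGD cs h p T n X) {s : Y} (hs : s ∈ T) (w : W) {S : Set (I → ℤ)}
    (hS : S ⊆ Fut cs h w) (hc : Closed cs h S) {g : Y} (hg : g ∈ Sup X S) (hgs : s * g = g * s) :
    g ∈ Sup (fun x => X x ⊓ Subgroup.centralizer ({s} : Set Y)) S := by
  induction hn : (Fut cs h w).ncard generalizing w S g with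
  | zero =>
    have h1 := (Set.ncard_eq_zero (finite_fut w)).1 hn
    rw [h1, Set.subset_empty_iff] at hS
    subst hS
    have h2 : Sup X (∅ : Set (I → ℤ)) = ⊥ := by
      rw [eq_bot_iff]
      refine Sup_le fun z hz => ?_
      simp at hz
    rw [h2, Subgroup.mem_bot] at hg
    rw [hg]
    exact one_mem _
  | succ k ih =>
    have hne : (Fut cs h w).Nonempty := by
      rw [Set.nonempty_iff_ne_empty]
      intro h1
      rw [h1, Set.ncard_empty] at hn
      omega
    obtain ⟨y, hy⟩ := hne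
    obtain ⟨i, hi⟩ := exists_simple hy
    set x := rep cs h w (sr i) with hxdef
    have hcard : (Fut cs h (w * cs.simple i)).ncard = k := by
      rw [fut_mul hi, Set.ncard_sdiff_singleton_of_mem (mem_fut hi), hn]
      rfl
    have hsub : S \ {x} ⊆ Fut cs h (w * cs.simple i) := by
      rw [fut_mul hi]
      exact Set.sdiff_subset_sdiff_left hS
    have hcl := closed_diff hi hS hc
    by_cases hx : x ∈ S
    · obtain ⟨a, ha, b, hb, e⟩ := (mem_peel Rd (hS.trans (fut_subset_pos w)) hc hx).1 hg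
      have hxr : IsRoot cs h x := ⟨w, i, rfl⟩
      have h1 : s * a * s⁻¹ ∈ X x := by
        rw [← Rd.tor x hxr s hs]
        exact conj_mem_cj.2 ha
      have h2 : s * b * s⁻¹ ∈ Sup X (S \ {x}) :=
        (Subgroup.mem_normalizer_iff.1 (Rd.T_le_normalizer (S := S \ {x}) (fun z hz => (hS hz.1).1) hs) b).1 hb
      have h3 : a⁻¹ * (s * a * s⁻¹) = b * (s * b * s⁻¹)⁻¹ := by
        have h4 : s * a * s⁻¹ * (s * b * s⁻¹) = a * b := by
          have : s * a * s⁻¹ * (s * b * s⁻¹) = s * (a * b) * s⁻¹ := by group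
          rw [this, ← e, hgs]; group
        rw [eq_mul_inv_iff_mul_eq, mul_assoc, h4]; group
      have h4 : a⁻¹ * (s * a * s⁻¹) = 1 := by
        have h5 : a⁻¹ * (s * a * s⁻¹) ∈ X x ⊓ Sup X (Fut cs h (w * cs.simple i)) := by
          refine Subgroup.mem_inf.2 ⟨mul_mem (inv_mem ha) h1, ?_⟩
          rw [h3]
          exact Sup_mono hsub (mul_mem hb (inv_mem h2))
        rwa [hxdef, tail_inf Rd, Subgroup.mem_bot] at h5
      have ha' : s * a = a * s := by
        rw [inv_mul_eq_one] at h4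
        conv_rhs => rw [h4]
        group
      have hb' : s * b = b * s := by
        rw [h4] at h3
        have h5 := (mul_inv_eq_one.1 h3.symm)
        conv_rhs => rw [h5]
        group
      rw [e]
      refine mul_mem ?_ ?_
      · exact le_Sup (X := fun x => X x ⊓ Subgroup.centralizer ({s} : Set Y)) hx
          (Subgroup.mem_inf.2 ⟨ha, mem_cen.2 ha'⟩)
      · exact Sup_mono Set.sdiff_subset (ih (w * cs.simple i) hsub hcl hb hb' hcard)
    · have h1 : S \ {x} = S := Set.sdiff_singleton_eq_self hx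
      rw [h1] at hsub
      exact ih (w * cs.simple i) hsub hc hg hgs hcard

/-- **The centralizer of `s ∈ T` in `Sup X S`**, `S` a closed set of positive roots. -/
theorem cent_closed [Finite W] (Rd : RGD cs h p T n X) {s : Y} (hs : s ∈ T) {S : Set (I → ℤ)}
    (hS : S ⊆ Pos cs h) (hc : Closed cs h S) {g : Y} (hg : g ∈ Sup X S) (hgs : s * g = g * s) :
    g ∈ Sup (fun x => X x ⊓ Subgroup.centralizer ({s} : Set Y)) S := by
  rw [← fut_one] at hS
  exact cent_fut Rd hs 1 hS hc hg hgs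

theorem closed_btwn (x y : I → ℤ) : Closed cs h {z | Btwn cs h x y z} := by
  rintro u ⟨-, m₁, a₁, b₁, hm₁, ha₁, hb₁, e₁⟩ v ⟨-, m₂, a₂, b₂, hm₂, ha₂, hb₂, e₂⟩ z ⟨hz, m, a, b, hm, ha, hb, e⟩
  refine ⟨hz, m * m₁ * m₂, a * m₂ * a₁ + b * m₁ * a₂, a * m₂ * b₁ + b * m₁ * b₂, by positivity, by positivity,
    by positivity, ?_⟩
  have e3 : (m * m₁ * m₂) • z = (a * m₂) • (m₁ • u) + (b * m₁) • (m₂ • v) := by
    calc (m * m₁ * m₂) • z = (m₁ * m₂) • (m • z) := by rw [smul_smul]; congr 1; ring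
      _ = (a * m₂) • (m₁ • u) + (b * m₁) • (m₂ • v) := by
        rw [e, smul_add, smul_smul, smul_smul, smul_smul, smul_smul]
        congr 2 <;> ring
  rw [e3, e₁, e₂, smul_add, smul_add, smul_smul, smul_smul, smul_smul, smul_smul, add_smul, add_smul]
  abel

/-- **Commutators of elements of root groups centralised by `s ∈ T`.** -/
theorem comm_cent [Finite W] (Rd : RGD cs h p T n X) {s : Y} (hs : s ∈ T) {x y : I → ℤ} (hx : IsRoot cs h x)
    (hy : IsRoot cs h y) (hxy : x ≠ y) (hxy' : x ≠ -y) {a b : Y} (ha : a ∈ X x) (hb : b ∈ X y)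
    (has : s * a = a * s) (hbs : s * b = b * s) :
    ⁅a, b⁆ ∈ Sup (fun x => X x ⊓ Subgroup.centralizer ({s} : Set Y)) {z | Btwn cs h x y z} := by
  obtain ⟨w, hwx, hwy⟩ := Nodes.PosPair.exists_pos_pair cs h hx hy hxy'
  obtain ⟨g, hg⟩ := exists_rp cs Rd.nsys w
  have h1 := Rd.comm x y hx hy hxy hxy' a ha b hb
  have hsT : g * s * g⁻¹ ∈ T := (Subgroup.mem_normalizer_iff.1 hg.mem_normalizer s).1 hs
  -- the conjugate
  have h2 : g * ⁅a, b⁆ * g⁻¹ ∈ Sup X {z | Btwn cs h (rep cs h w x) (rep cs h w y) z} := by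
    have h3 : cj g (btw cs h X x y) ≤ Sup X {z | Btwn cs h (rep cs h w x) (rep cs h w y) z} := by
      unfold Nodes.Reps.btw
      rw [cj_iSup]
      refine iSup_le ?_
      rintro ⟨z, hz⟩
      rw [Rd.conj_rp hg hz.1]
      exact le_Sup (S := {z | Btwn cs h (rep cs h w x) (rep cs h w y) z}) (hz.act w)
    exact h3 (conj_mem_cj.2 h1)
  have h3 : g * s * g⁻¹ * (g * ⁅a, b⁆ * g⁻¹) = g * ⁅a, b⁆ * g⁻¹ * (g * s * g⁻¹) := by
    have h4 : s * ⁅a, b⁆ = ⁅a, b⁆ * s := by
      have h5 : ⁅a, b⁆ ∈ Subgroup.centralizer ({s} : Set Y) := by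
        have ha' := mem_cen.2 has
        have hb' := mem_cen.2 hbs
        rw [commutatorElement_def]
        exact mul_mem (mul_mem (mul_mem ha' hb') (inv_mem ha')) (inv_mem hb')
      exact mem_cen.1 h5
    calc g * s * g⁻¹ * (g * ⁅a, b⁆ * g⁻¹) = g * (s * ⁅a, b⁆) * g⁻¹ := by group
      _ = g * ⁅a, b⁆ * g⁻¹ * (g * s * g⁻¹) := by rw [h4]; group
  have h4 := cent_closed Rd hsT (S := {z | Btwn cs h (rep cs h w x) (rep cs h w y) z})
    (fun z hz => ⟨hz.1, nonneg_of_btwn hwx hwy hz⟩) (closed_btwn _ _) h2 h3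
  -- back
  have h5 : cj g⁻¹ (Sup (fun x => X x ⊓ Subgroup.centralizer ({g * s * g⁻¹} : Set Y))
      {z | Btwn cs h (rep cs h w x) (rep cs h w y) z}) ≤
      Sup (fun x => X x ⊓ Subgroup.centralizer ({s} : Set Y)) {z | Btwn cs h x y z} := by
    rw [cj_Sup]
    refine iSup_le ?_
    rintro ⟨z, hz⟩ u hu
    rw [mem_cj, inv_inv, Subgroup.mem_inf, mem_cen] at hu
    have hz' : Btwn cs h x y (rep cs h w⁻¹ z) := by
      have h6 := hz.act w⁻¹
      rwa [rep_inv_apply, rep_inv_apply] at h6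
    refine le_Sup (X := fun x => X x ⊓ Subgroup.centralizer ({s} : Set Y)) (S := {z | Btwn cs h x y z}) hz' ?_
    refine Subgroup.mem_inf.2 ⟨?_, mem_cen.2 ?_⟩
    · have h7 := Rd.conj_mem' hg hz.1 hu.1
      have e : g⁻¹ * (g * u * g⁻¹) * g = u := by group
      rwa [e] at h7
    · have h7 := hu.2
      have e1 : g * s * g⁻¹ * (g * u * g⁻¹) = g * (s * u) * g⁻¹ := by group
      have e2 : g * u * g⁻¹ * (g * s * g⁻¹) = g * (u * s) * g⁻¹ := by group
      rw [e1, e2] at h7
      exact mul_left_cancel (mul_right_cancel h7)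
  have h6 := h5 (conj_mem_cj.2 h4)
  have e : g⁻¹ * (g * ⁅a, b⁆ * g⁻¹) * g⁻¹⁻¹ = ⁅a, b⁆ := by group
  rwa [e] at h6

end Closed

section Sub

variable {I W J W' Y : Type*} [Fintype I] [DecidableEq I] [Group W] {M : CoxeterMatrix I}
  {cs : CoxeterSystem M W} {A : I → I → ℤ} {h : IsCartan M A}
  [Fintype J] [DecidableEq J] [Group W'] {M' : CoxeterMatrix J} {cs' : CoxeterSystem M' W'} {A' : J → J → ℤ}
  {h' : IsCartan M' A'} [Group Y] {p : ℕ} {T : Subgroup Y} {n : I → Y} {X : (I → ℤ) → Subgroup Y}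
  {β : J → I → ℤ} {w : J → W} {i : J → I}

/-- The commutator relations of the subsystem of the roots `x` with `X x ≤ C(s)`. -/
theorem comm_of_cent [Finite W] (Rd : RGD cs h p T n X) (S : SubSys cs h A' β w i) {s : Y} (hs : s ∈ T)
    (h1 : ∀ c, IsRoot cs' h' c → X (iota β c) ≤ Subgroup.centralizer ({s} : Set Y))
    (h2 : ∀ x, IsRoot cs h x → (∃ c, IsRoot cs' h' c ∧ x = iota β c) ∨
      X x ⊓ Subgroup.centralizer ({s} : Set Y) = ⊥) :
    ∀ c d, IsRoot cs' h' c → IsRoot cs' h' d → c ≠ d → c ≠ -d → ∀ a ∈ X (iota β c),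
      ∀ b ∈ X (iota β d), ⁅a, b⁆ ∈ btw cs' h' (fun e => X (iota β e)) c d := by
  intro c d hc hd hcd hcd' a ha b hb
  have h3 := comm_cent Rd hs (S.isRoot_iota hc) (S.isRoot_iota hd) (fun h0 => hcd (S.iota_injective h0))
    (fun h0 => hcd' (S.iota_injective (by rw [h0, map_neg]))) ha hb (mem_cen.1 (h1 c hc ha)) (mem_cen.1 (h1 d hd hb))
  refine (?_ : Sup _ _ ≤ _) h3
  refine Sup_le fun z hz => ?_
  rcases h2 z hz.1 with ⟨e, he, rfl⟩ | h4
  · refine inf_le_left.trans ?_
    obtain ⟨-, m, x, y, hm, hx, hy, e'⟩ := hz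
    have e2 : m • e = x • c + y • d := S.iota_injective (by rw [map_smul, e', map_add, map_smul, map_smul])
    exact le_iSup (fun e : {e : J → ℤ // Btwn cs' h' c d e} => X (iota β e.1)) ⟨e, he, m, x, y, hm, hx, hy, e2⟩
  · show X z ⊓ Subgroup.centralizer ({s} : Set Y) ≤ _
    rw [h4]
    exact bot_le

/-- **The group of the subsystem is normal in `C(s)`.** -/
theorem cj_G1_of_cent [Finite W] (Rd : RGD cs h p T n X) (S : SubSys cs h A' β w i) {s : Y} (hs : s ∈ T)
    (h1 : ∀ c, IsRoot cs' h' c → X (iota β c) ≤ Subgroup.centralizer ({s} : Set Y))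
    (h2 : ∀ x, IsRoot cs h x → (∃ c, IsRoot cs' h' c ∧ x = iota β c) ∨
      X x ⊓ Subgroup.centralizer ({s} : Set Y) = ⊥) {g : Y} (hg : g ∈ GG cs h T X)
    (hgs : g ∈ Subgroup.centralizer ({s} : Set Y)) :
    cj g (G1 cs' h' (fun c => X (iota β c))) = G1 cs' h' (fun c => X (iota β c)) := by
  have hle : ∀ x, IsRoot cs h x → X x ⊓ Subgroup.centralizer ({s} : Set Y) ≤ G1 cs' h' (fun c => X (iota β c)) := by
    intro x hx
    rcases h2 x hx with ⟨c, hc, rfl⟩ | h3
    · exact inf_le_left.trans (X_le_G1 (X := fun c => X (iota β c)) hc)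
    · rw [h3]; exact bot_le
  have hSup : Sup (fun x => X x ⊓ Subgroup.centralizer ({s} : Set Y)) (Pos cs h) ≤
      G1 cs' h' (fun c => X (iota β c)) := Sup_le fun x hx => hle x hx.1
  obtain ⟨u, hu, w₀, k, hk, hks, v, hv, rfl⟩ :=
    Nodes.NormalForm.mem_centralizer Rd (S := {s}) (by rintro _ rfl; exact hs) hg hgs
  -- `k` normalises
  have key : ∀ {w₀ : W} {k : Y}, Rp cs Rd.nsys w₀ k → k ∈ Subgroup.centralizer ({s} : Set Y) →
      cj k (G1 cs' h' (fun c => X (iota β c))) ≤ G1 cs' h' (fun c => X (iota β c)) := by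
    intro w₀ k hk hks
    unfold G1
    rw [cj_Sup]
    refine iSup_le ?_
    rintro ⟨c, hc⟩
    have h3 : cj k (X (iota β c)) = X (rep cs h w₀ (iota β c)) := Rd.conj_rp hk (S.isRoot_iota hc)
    have h4 : cj k (X (iota β c)) ≤ Subgroup.centralizer ({s} : Set Y) := by
      intro x hx
      rw [mem_cj] at hx
      have h5 := h1 c hc hx
      have h6 := mul_mem (mul_mem hks h5) (inv_mem hks)
      have e : k * (k⁻¹ * x * k) * k⁻¹ = x := by group
      rwa [e] at h6
    intro x hx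
    refine hle _ ((S.isRoot_iota hc).act w₀) (Subgroup.mem_inf.2 ⟨?_, h4 hx⟩)
    rw [← h3]
    exact hx
  have hk' : cj k (G1 cs' h' (fun c => X (iota β c))) = G1 cs' h' (fun c => X (iota β c)) := by
    refine le_antisymm (key hk hks) ?_
    have h3 := key hk.inv (inv_mem hks)
    intro x hx
    rw [mem_cj]
    have h4 := h3 (conj_mem_cj.2 hx)
    rwa [inv_inv] at h4
  rw [cj_mul, cj_mul, cj_eq_of_mem (hSup hv), hk', cj_eq_of_mem (hSup hu)]

end Sub

end Cfsg.Agent.OddHalf.NI3.K.CentSub
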