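import Mathlib
import Cfsg.Agent.Nodes.Unique
import Cfsg.Agent.Nodes.Perp

/-!
# The order of the group generated by the root groups of a closed set of positive roots

* `card_sup_fut`, `card_sup` : `|Sup X S| = q ^ |S|` for a closed set `S` of positive roots, `|X x| = q`.
-/

set_option autoImplicit false
set_option linter.unusedSectionVars false
set_option linter.dupNamespace false

namespace Cfsg.Agent.OddHalf.NI3.K.Count

open CoxeterSystem Cfsg.Agent.ChevalleyStructure.CoxeterGeom Cfsg.Agent.Tits.Roots Cfsg.Agent.Tits.Core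
  Cfsg.Agent.Tits.RootComb Cfsg.Agent.Nodes.Comb Cfsg.Agent.Nodes.Reps Cfsg.Agent.Nodes.BNOf
  Cfsg.Agent.Nodes.BNOf.RGD Cfsg.Agent.Nodes.Unique

variable {I W Y : Type*} [Fintype I] [DecidableEq I] [Group W] [Group Y] {M : CoxeterMatrix I}
  {cs : CoxeterSystem M W} {A : I → I → ℤ} {h : IsCartan M A} {p : ℕ} {T : Subgroup Y} {n : I → Y}
  {X : (I → ℤ) → Subgroup Y}

variable (Rd : RGD cs h p T n X)

include Rd

theorem card_sup_fut [Finite W] (q : ℕ) (w : W) {S : Set (I → ℤ)} (hS : S ⊆ Fut cs h w) (hc : Closed cs h S)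
    (hq : ∀ x ∈ S, Nat.card (X x) = q) : Nat.card ↥(Sup X S) = q ^ S.ncard := by
  induction hn : (Fut cs h w).ncard generalizing w S with
  | zero =>
    have h1 := (Set.ncard_eq_zero (finite_fut w)).1 hn
    rw [h1, Set.subset_empty_iff] at hS
    subst hS
    have h2 : Sup X (∅ : Set (I → ℤ)) = ⊥ := by
      rw [eq_bot_iff]
      exact Sup_le fun z hz => absurd hz (Set.notMem_empty z)
    rw [h2, Subgroup.card_bot, Set.ncard_empty, pow_zero]
  | succ k ih =>
    have hne : (Fut cs h w).Nonempty := by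
      rw [Set.nonempty_iff_ne_empty]
      intro h1
      rw [h1, Set.ncard_empty] at hn
      omega
    obtain ⟨y, hy⟩ := hne
    obtain ⟨i, hi⟩ := exists_simple hy
    have hcard : (Fut cs h (w * cs.simple i)).ncard = k := by
      rw [fut_mul hi, Set.ncard_sdiff_singleton_of_mem (mem_fut hi), hn]
      rfl
    have hsub : S \ {rep cs h w (sr i)} ⊆ Fut cs h (w * cs.simple i) := by
      rw [fut_mul hi]
      exact Set.sdiff_subset_sdiff_left hS
    have key := ih (w * cs.simple i) hsub (closed_diff hi hS hc) (fun x hx => hq x hx.1) hcard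
    have hpos : S ⊆ Pos cs h := hS.trans (fut_subset_pos w)
    have hfin : S.Finite := (finite_fut w).subset hS
    by_cases hx : rep cs h w (sr i) ∈ S
    · have h1 : Nat.card ↥(Sup X S) =
          Nat.card (↥(X (rep cs h w (sr i))) × ↥(Sup X (S \ {rep cs h w (sr i)}))) := by
        symm
        refine Nat.card_congr (Equiv.ofBijective (fun ab => (⟨(ab.1 : Y) * ab.2,
          (mem_peel Rd hpos hc hx).2 ⟨_, ab.1.2, _, ab.2.2, rfl⟩⟩ : ↥(Sup X S))) ⟨?_, ?_⟩)
        · rintro ⟨a, b⟩ ⟨a', b'⟩ he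
          have h2 : (a : Y) * b = a' * b' := congrArg Subtype.val he
          have h3 : (a' : Y)⁻¹ * a = b' * (b : Y)⁻¹ := by
            have h4 : (a' : Y)⁻¹ * a = (a' : Y)⁻¹ * (a * b) * (b : Y)⁻¹ := by group
            rw [h4, h2]; group
          have h4 : (a' : Y)⁻¹ * a ∈ X (rep cs h w (sr i)) ⊓ Sup X (Fut cs h (w * cs.simple i)) := by
            refine Subgroup.mem_inf.2 ⟨mul_mem (inv_mem a'.2) a.2, ?_⟩
            rw [h3]
            exact mul_mem (Sup_mono hsub b'.2) (inv_mem (Sup_mono hsub b.2))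
          rw [tail_inf Rd, Subgroup.mem_bot] at h4
          have h5 : (b' : Y) = b := by
            rw [h4] at h3
            exact mul_inv_eq_one.1 h3.symm
          have h6 : (a : Y) = a' := (inv_mul_eq_one.1 h4).symm
          exact Prod.ext (Subtype.ext h6) (Subtype.ext h5.symm)
        · rintro ⟨g, hg⟩
          obtain ⟨a, ha, b, hb, e⟩ := (mem_peel Rd hpos hc hx).1 hg
          exact ⟨(⟨a, ha⟩, ⟨b, hb⟩), Subtype.ext e.symm⟩
      rw [h1, Nat.card_prod, hq _ hx, key, ← Set.ncard_sdiff_singleton_add_one hx hfin, pow_succ, mul_comm]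
    · rw [Set.sdiff_singleton_eq_self hx] at key
      exact key

theorem card_sup [Finite W] (q : ℕ) {S : Set (I → ℤ)} (hS : S ⊆ Pos cs h) (hc : Closed cs h S)
    (hq : ∀ x ∈ S, Nat.card (X x) = q) : Nat.card ↥(Sup X S) = q ^ S.ncard := by
  rw [← fut_one] at hS
  exact card_sup_fut Rd q 1 hS hc hq

end Cfsg.Agent.OddHalf.NI3.K.Count
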