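import Mathlib
import Cfsg.Agent.S0319
import Cfsg.Agent.Nodes.Block
import Cfsg.Agent.Nodes.ZRel
import Cfsg.Agent.Nodes.StdConn
import Cfsg.Prelude.Def_CaseTheorems

/-!
# Groups with classical root groups are quasisimple (NI over `F_3`, rows F13)

* `le_or_top` : normal subgroups of a perfect group with an irreducible (B,N)-pair with solvable `B` lie in `B` or are
  the whole group;
* `le_center` : a normal subgroup in `B` is central;
* `quasisimple` : a group generated by the root groups of classical data, irreducible, is quasisimple, if every root is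
  not orthogonal to a classical root `≠ ± x`.
-/

set_option autoImplicit false
set_option linter.unusedSectionVars false
set_option linter.dupNamespace false

namespace Cfsg.Agent.OddHalf.NI3.K.QS

open CoxeterSystem Cfsg.Agent.ChevalleyStructure.CoxeterGeom Cfsg.Agent.Tits.Roots Cfsg.Agent.Tits.Core
  Cfsg.Agent.Tits.RootComb Cfsg.Agent.Nodes.Comb Cfsg.Agent.Nodes.Reps Cfsg.Agent.Nodes.BNOf
  Cfsg.Agent.Nodes.RGDLib Cfsg.Agent.Nodes.Chart Cfsg.Agent.Nodes.Bruhat Cfsg.Agent.Nodes.OppDec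
  Cfsg.Agent.Nodes.SubComb Cfsg.Agent.Nodes.Sub

open scoped commutatorElement

/-- Normal subgroups of a perfect group with an irreducible (B,N)-pair with solvable `B`. -/
theorem le_or_top {G : Type*} [Group G] (P : Cfsg.BNPair G) (hirr : P.Irreducible)
    (hsolv : Group.IsSolvable P.B) (hperf : commutator G = ⊤) (H : Subgroup G) [hH : H.Normal] :
    H ≤ P.B ∨ H = ⊤ := by
  obtain ⟨J, hJ, hHJ⟩ : ∃ J ⊆ P.S, H ⊔ P.B = P.parabolic J :=
    ⟨_, Set.inter_subset_left, LieExceptional.BNPairCore.eq_parabolic le_sup_right⟩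
  have hcomm : ∀ s ∈ J, ∀ s' ∈ P.S \ J, s * s' * s⁻¹ * s'⁻¹ ∈ P.B := fun s hs s' hs' =>
    S0319.commute_of_normal P H hJ hHJ hs hs'
  rcases J.eq_empty_or_nonempty with rfl | hJne
  · left
    have : P.parabolic ∅ = P.B := by
      show P.B ⊔ Subgroup.closure ∅ = P.B
      rw [Subgroup.closure_empty, sup_bot_eq]
    rw [← this, ← hHJ]
    exact le_sup_left
  · right
    rcases (P.S \ J).eq_empty_or_nonempty with hemp | hne
    · have hJS : J = P.S := Set.Subset.antisymm hJ (Set.sdiff_eq_empty.1 hemp)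
      have htop : H ⊔ P.B = ⊤ := by
        rw [hHJ, hJS, eq_top_iff, ← P.sup_eq_top]
        refine sup_le le_sup_left ?_
        rw [← P.closure_sup]
        refine sup_le le_sup_right (le_trans inf_le_left le_sup_left)
      have hsurj : Function.Surjective ((QuotientGroup.mk' H).comp P.B.subtype) := by
        intro q
        obtain ⟨g, rfl⟩ := QuotientGroup.mk'_surjective H q
        have hg : g ∈ H ⊔ P.B := by rw [htop]; trivial
        obtain ⟨h, hh, b, hb, hhb⟩ := (Subgroup.mem_sup_of_normal_left).1 hg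
        refine ⟨⟨b, hb⟩, ?_⟩
        have : (QuotientGroup.mk' H) g = (QuotientGroup.mk' H) h * (QuotientGroup.mk' H) b := by
          rw [← map_mul, hhb]
        rw [this]
        have h1 : (QuotientGroup.mk' H) h = 1 := (QuotientGroup.eq_one_iff h).2 hh
        rw [h1, one_mul]
        rfl
      have hsolvQ : Group.IsSolvable (G ⧸ H) := Group.isSolvable_of_surjective hsurj
      by_contra hne
      have hnt : Nontrivial (G ⧸ H) := by
        rw [← not_subsingleton_iff_nontrivial]
        intro hsub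
        exact hne (QuotientGroup.subgroup_eq_top_of_subsingleton H hsub)
      have hlt := Group.IsSolvable.commutator_lt_top_of_nontrivial (G := G ⧸ H)
      have hmap : commutator (G ⧸ H) = ⊤ := by
        have h1 : (commutator G).map (QuotientGroup.mk' H) = commutator (G ⧸ H) := by
          rw [commutator_def, Subgroup.map_commutator, commutator_def]
          rw [Subgroup.map_top_of_surjective _ (QuotientGroup.mk'_surjective H)]
        rw [← h1, hperf, Subgroup.map_top_of_surjective _ (QuotientGroup.mk'_surjective H)]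
      exact hlt.ne hmap
    · exfalso
      obtain ⟨s, hs, s', hs', h⟩ := hirr J hJ hJne hne
      exact h (hcomm s hs s' hs')

variable {I W Y : Type*} [Fintype I] [DecidableEq I] [Group W] [Group Y] {M : CoxeterMatrix I}
  {cs : CoxeterSystem M W} {A : I → I → ℤ} {h : IsCartan M A} {p : ℕ} {T : Subgroup Y} {n : I → Y}
  {X : (I → ℤ) → Subgroup Y} {R : Set (I → ℤ)} {Z : (I → ℤ) → Subgroup Y} {z : (I → ℤ) → Y}

/-- A normal subgroup contained in `B` is central. -/
theorem le_center [Finite W] (D : RGD cs h p T n X) (hG : G1 cs h X = ⊤) {H : Subgroup Y} [hH : H.Normal]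
    (hB : H ≤ RGD.B cs h T X) : H ≤ Subgroup.center Y := by
  have hT : H ≤ T := by
    obtain ⟨k, hk⟩ := exists_rp cs D.nsys (w0 cs)
    have h1 : H ≤ BN cs h T X := by
      rw [← cj_B D hk]
      intro x hx
      rw [mem_cj]
      apply hB
      have h2 := hH.conj_mem x hx k⁻¹
      rwa [inv_inv] at h2
    rw [← B_inf_BN D]
    exact le_inf hB h1
  have hX : ∀ x, IsRoot cs h x → ∀ a ∈ X x, ∀ t ∈ H, a * t = t * a := by
    intro x hx a ha t ht
    have h1 : t * a * t⁻¹ ∈ X x := by
      have h2 := D.tor x hx t (hT ht)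
      have h3 : t * a * t⁻¹ ∈ cj t (X x) := conj_mem_cj.2 ha
      rwa [h2] at h3
    have h5 : t * a * t⁻¹ * a⁻¹ ∈ T := by
      apply hT
      have h4 : t * a * t⁻¹ * a⁻¹ = t * (a * t⁻¹ * a⁻¹) := by group
      rw [h4]
      exact mul_mem ht (hH.conj_mem _ (H.inv_mem ht) a)
    have h3 : t * a * t⁻¹ * a⁻¹ ∈ X x ⊓ T := Subgroup.mem_inf.2 ⟨mul_mem h1 (inv_mem ha), h5⟩
    rw [X_inf_T D hx, Subgroup.mem_bot, mul_inv_eq_one, mul_inv_eq_iff_eq_mul] at h3
    exact h3.symm
  intro t ht
  rw [Subgroup.mem_center_iff]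
  have h1 : G1 cs h X ≤ Subgroup.centralizer ({t} : Set Y) := by
    refine RGD.Sup_le fun x hx a ha => ?_
    rw [Subgroup.mem_centralizer_iff]
    rintro _ rfl
    exact (hX x hx a ha _ ht).symm
  rw [hG] at h1
  intro g
  exact ((Subgroup.mem_centralizer_iff.1 (h1 (Subgroup.mem_top g))) t rfl).symm

/-- `B` is solvable if `T` is. -/
theorem isSolvable_B [hp : Fact p.Prime] [Finite Y] [Finite W] (D : RGD cs h p T n X) (hT : Group.IsSolvable T) :
    Group.IsSolvable (RGD.B cs h T X) := by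
  have hUB : RGD.Sup X (RGD.Pos cs h) ≤ RGD.B cs h T X := RGD.U_le_B
  have hnor : ((RGD.Sup X (RGD.Pos cs h)).subgroupOf (RGD.B cs h T X)).Normal := by
    constructor
    intro u hu b
    rw [Subgroup.mem_subgroupOf] at hu ⊢
    exact (Subgroup.mem_normalizer_iff.1 (D.B_le_normalizer_U b.2) u).1 hu
  have hUs : Group.IsSolvable ((RGD.Sup X (RGD.Pos cs h)).subgroupOf (RGD.B cs h T X)) := by
    have h1 : IsPGroup p ((RGD.Sup X (RGD.Pos cs h)).subgroupOf (RGD.B cs h T X)) :=
      D.isPGroup_Upos.comap_of_injective (RGD.B cs h T X).subtype (Subgroup.subtype_injective _)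
    have h2 := h1.isNilpotent
    infer_instance
  let f : T →* (RGD.B cs h T X) ⧸ ((RGD.Sup X (RGD.Pos cs h)).subgroupOf (RGD.B cs h T X)) :=
    (QuotientGroup.mk' _).comp (Subgroup.inclusion RGD.T_le_B)
  have hf : Function.Surjective f := by
    intro y
    induction y using QuotientGroup.induction_on with
    | _ b =>
    obtain ⟨t, ht, u, hu, e⟩ := D.mem_B.1 b.2
    refine ⟨⟨t, ht⟩, ?_⟩
    show QuotientGroup.mk (⟨t, RGD.T_le_B ht⟩ : RGD.B cs h T X) = QuotientGroup.mk b
    rw [QuotientGroup.eq, Subgroup.mem_subgroupOf]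
    show t⁻¹ * (b : Y) ∈ _
    rw [e, inv_mul_cancel_left]
    exact hu
  have hq : Group.IsSolvable ((RGD.B cs h T X) ⧸ ((RGD.Sup X (RGD.Pos cs h)).subgroupOf (RGD.B cs h T X))) :=
    Group.isSolvable_of_surjective hf
  exact Group.isSolvable_of_ker_le_range ((RGD.Sup X (RGD.Pos cs h)).subgroupOf (RGD.B cs h T X)).subtype
    (QuotientGroup.mk' ((RGD.Sup X (RGD.Pos cs h)).subgroupOf (RGD.B cs h T X)))
    (by rw [QuotientGroup.ker_mk', Subgroup.range_subtype])

/-- The group generated by the root groups is perfect, if every root is inverted by a classical involution. -/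
theorem perfect [Fintype W] (C : Cls cs h p T n X R Z z) (hp : p.Prime) (hodd : p ≠ 2) (hG : G1 cs h X = ⊤)
    (hR : ∀ x, IsRoot cs h x → ∃ r ∈ R, form cs h x r ≠ 0 ∧ x ≠ r ∧ x ≠ -r) : commutator Y = ⊤ := by
  rw [eq_top_iff, ← hG]
  refine RGD.Sup_le fun x hx a ha => ?_
  obtain ⟨r, hr, h0, h1, h2⟩ := hR x hx
  have h3 := C.z_inv r hr x hx h1 h2 h0 a ha
  have h4 : ⁅z r, a⁆ = (a * a)⁻¹ := by
    rw [commutatorElement_def, Cfsg.Agent.Nodes.ZRel.z_inv' C hr, h3]
    group
  have h5 : a * a ∈ commutator Y := by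
    have h6 : (a * a)⁻¹ ∈ commutator Y := by
      rw [← h4]
      exact Subgroup.commutator_mem_commutator (Subgroup.mem_top _) (Subgroup.mem_top _)
    exact (inv_mem_iff).1 h6
  obtain ⟨k, hk⟩ := C.rgd.pgrp' hx ⟨a, ha⟩
  have hk' : a ^ p ^ k = 1 := congrArg Subtype.val hk
  have hodd' : Odd (p ^ k) := (hp.odd_of_ne_two hodd).pow
  obtain ⟨m, hm⟩ := hodd'
  rw [hm, pow_succ, pow_mul, pow_two] at hk'
  have h7 : a = ((a * a) ^ m)⁻¹ := by
    rw [eq_inv_iff_mul_eq_one, mul_eq_one_iff_eq_inv]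
    have := eq_inv_of_mul_eq_one_left hk'
    rw [this, inv_inv]
  rw [h7]
  exact inv_mem (pow_mem h5 m)

/-- **Quasisimplicity.** -/
theorem quasisimple [Finite Y] [Fintype W] [Nonempty I] (C : Cls cs h p T n X R Z z) (hp : p.Prime) (hodd : p ≠ 2)
    (hG : G1 cs h X = ⊤) (hT : ∀ a ∈ T, ∀ b ∈ T, a * b = b * a)
    (hirr : ∀ J : Set I, J.Nonempty → J ≠ Set.univ → ∃ a ∈ J, ∃ b, b ∉ J ∧ M a b ≠ 2)
    (hR : ∀ x, IsRoot cs h x → ∃ r ∈ R, form cs h x r ≠ 0 ∧ x ≠ r ∧ x ≠ -r) : IsQuasisimple Y := by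
  have hperf := perfect C hp hodd hG hR
  have : Fact p.Prime := ⟨hp⟩
  have hgen := rgd_gen_of_G1 C.rgd hG
  have hTs : Group.IsSolvable T := by
    refine Group.isSolvable_of_comm ?_
    rintro ⟨a, ha⟩ ⟨b, hb⟩
    exact Subtype.ext (hT a ha b hb)
  have hB : Group.IsSolvable ↥(C.rgd.bnPair hgen).B := isSolvable_B C.rgd hTs
  refine ⟨⟨hperf⟩, ?_⟩
  obtain ⟨i⟩ := (inferInstance : Nonempty I)
  have hnt : Nontrivial (Y ⧸ Subgroup.center Y) := by
    rw [← not_subsingleton_iff_nontrivial]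
    intro hsub
    have h1 := QuotientGroup.subgroup_eq_top_of_subsingleton (Subgroup.center Y) hsub
    rw [← commutator_eq_bot_iff_center_eq_top, hperf] at h1
    apply Cfsg.Agent.Nodes.StdConn.X_ne_bot C (isRoot_sr cs h i)
    rw [eq_bot_iff]
    refine le_trans le_top ?_
    rw [← h1]
  refine ⟨fun H hH => ?_⟩
  have hn : (H.comap (QuotientGroup.mk' (Subgroup.center Y))).Normal := inferInstance
  rcases le_or_top (C.rgd.bnPair hgen) (C.rgd.bnPair_irreducible hgen hirr) hB hperf
    (H.comap (QuotientGroup.mk' (Subgroup.center Y))) with h1 | h1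
  · left
    have h2 := le_center C.rgd hG (H := H.comap (QuotientGroup.mk' (Subgroup.center Y))) h1
    rw [eq_bot_iff]
    intro q hq
    obtain ⟨g, rfl⟩ := QuotientGroup.mk'_surjective (Subgroup.center Y) q
    rw [Subgroup.mem_bot]
    exact (QuotientGroup.eq_one_iff g).2 (h2 hq)
  · right
    rw [eq_top_iff]
    intro q _
    obtain ⟨g, rfl⟩ := QuotientGroup.mk'_surjective (Subgroup.center Y) q
    have h2 : g ∈ H.comap (QuotientGroup.mk' (Subgroup.center Y)) := by rw [h1]; trivial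
    exact h2

end Cfsg.Agent.OddHalf.NI3.K.QS
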