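import Mathlib
import Cfsg.Agent.OddHalf.NI3.K.QS
import Cfsg.Agent.OddHalf.NI3.K.Count
import Cfsg.Agent.OddHalf.NI3.Fr.Core
import Cfsg.Agent.OddHalf.NI3.Props
import Cfsg.Agent.Nodes.ClsMap
import Cfsg.Agent.Nodes.LeviStd
import Cfsg.Agent.Nodes.NormalForm
import Cfsg.Agent.OddHalf.NI.ClsFrame

/-!
# The group of the roots orthogonal to a root `θ` is a component of `C(z θ)` (NI over `F_3`, rows E6, E7, E8 of F13)
-/

set_option autoImplicit false
set_option linter.unusedSectionVars false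
set_option linter.dupNamespace false

namespace Cfsg.Agent.OddHalf.NI3.K.PerpN

open CoxeterSystem Cfsg.Agent.ChevalleyStructure.CoxeterGeom Cfsg.Agent.Tits.Roots Cfsg.Agent.Tits.Core
  Cfsg.Agent.Tits.RootComb Cfsg.Agent.Nodes.Comb Cfsg.Agent.Nodes.Reps Cfsg.Agent.Nodes.BNOf
  Cfsg.Agent.Nodes.RGDLib Cfsg.Agent.Nodes.Chart Cfsg.Agent.Nodes.Bruhat Cfsg.Agent.Nodes.Coroot
  Cfsg.Agent.Nodes.Perp Cfsg.Agent.Nodes.StabComb Cfsg.Agent.Nodes.SubComb Cfsg.Agent.Nodes.Block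
open Cfsg.Agent.Cit.TypeDet (cm cm_symm cm_iff_le_centralizer cm_mono)

variable {I W Y : Type*} [Fintype I] [DecidableEq I] [Group W] [Fintype W] [Group Y] {M : CoxeterMatrix I}
  {cs : CoxeterSystem M W} {A : I → I → ℤ} {h : IsCartan M A} {p : ℕ} {T : Subgroup Y} {n : I → Y}
  {X : (I → ℤ) → Subgroup Y} {R : Set (I → ℤ)} {Z : (I → ℤ) → Subgroup Y} {z : (I → ℤ) → Y}

/-! ### Roots -/

section Roots

theorem form_sr_ne {a b : I} (hab : b ≠ a) (hM : M a b ≠ 2) : form cs h (sr a) (sr b) ≠ 0 := by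
  intro h0
  have h3 := two_form cs h b (sr a)
  rw [h0, mul_zero] at h3
  have h4 : pairing A b (sr a) = A b a := Cfsg.Agent.Nodes.OrthRoot.pairing_sr b a
  rw [h4] at h3
  have h5 := form_pos cs h (isRoot_sr cs h b).ne_zero
  have h6 : A b a ≠ 0 := by
    rcases h.rel b a hab with h7 | h7 | h7 | h7
    · exact absurd h7.1 (by rw [M.symmetric]; exact hM)
    all_goals omega
  rcases mul_eq_zero.1 h3.symm with h7 | h7
  · exact h6 h7
  · omega

/-- A root of `J` is not orthogonal to some simple root of `J`, different from it up to sign. -/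
theorem exists_neigh {J : Set I} (hJ : ∀ k ∈ J, ∃ j ∈ J, j ≠ k ∧ M k j ≠ 2) {x : I → ℤ}
    (hx : x ∈ RootsJ cs h J) : ∃ j ∈ J, form cs h x (sr j) ≠ 0 ∧ x ≠ sr j ∧ x ≠ -sr j := by
  obtain ⟨k, hk, hk0⟩ : ∃ k ∈ J, form cs h x (sr k) ≠ 0 := by
    by_contra h0
    push Not at h0
    have h2 := form_pos cs h hx.1.ne_zero
    rw [form_eq_sum] at h2
    refine h2.ne' (Finset.sum_eq_zero fun k _ => ?_)
    by_cases hk : k ∈ J
    · rw [h0 k hk, mul_zero]
    · rw [hx.2 k hk, zero_mul]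
  by_cases h1 : x = sr k ∨ x = -sr k
  · obtain ⟨j, hj, hjk, hM⟩ := hJ k hk
    have h2 := form_sr_ne (cs := cs) (h := h) hjk hM
    have hne : (sr k : I → ℤ) ≠ sr j := by
      intro e
      have := congrFun e k
      rw [sr_self, sr_ne hjk.symm] at this
      exact one_ne_zero this
    have hne' : (sr k : I → ℤ) ≠ -sr j := by
      intro e
      have := congrFun e k
      rw [sr_self, Pi.neg_apply, sr_ne hjk.symm, neg_zero] at this
      exact one_ne_zero this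
    refine ⟨j, hj, ?_, ?_, ?_⟩
    · rcases h1 with rfl | rfl
      · exact h2
      · rw [form_neg_left]
        exact neg_ne_zero.2 h2
    · rcases h1 with rfl | rfl
      · exact hne
      · exact fun e => hne' (by rw [← e, neg_neg])
    · rcases h1 with rfl | rfl
      · exact hne'
      · exact fun e => hne (neg_injective e)
  · push Not at h1
    exact ⟨k, hk, hk0, h1.1, h1.2⟩

/-- Simply laced and irreducible: the roots are conjugate. -/
theorem trans_of (h3 : ∀ i j, i ≠ j → M i j ≠ 2 → M i j = 3)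
    (hirr : ∀ J : Set I, J.Nonempty → J ≠ Set.univ → ∃ a ∈ J, ∃ b, b ∉ J ∧ M a b ≠ 2) {r s : I → ℤ}
    (hr : IsRoot cs h r) (hs : IsRoot cs h s) : ∃ w, s = rep cs h w r := by
  have key : ∀ i j : I, ∃ w, rep cs h w (sr i) = sr j := by
    intro i j
    by_contra hcon
    obtain ⟨a, ⟨w, ha⟩, b, hb, hab⟩ := hirr {k | ∃ w, rep cs h w (sr i) = sr k}
      ⟨i, 1, by rw [map_one, Module.End.one_apply]⟩ (by
        intro h0
        have : j ∈ {k | ∃ w, rep cs h w (sr i) = sr k} := by rw [h0]; trivial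
        exact hcon this)
    apply hb
    have hne : a ≠ b := by
      rintro rfl
      exact hb ⟨w, ha⟩
    have hM := h3 a b hne hab
    have h4 := h.rel a b hne
    have h5 : A a b = -1 ∧ A b a = -1 := by
      rcases h4 with h7 | h7 | h7 | h7 <;> omega
    refine ⟨cs.simple a * cs.simple b * w, ?_⟩
    have e1 : pairing A b (sr a) = A b a := Cfsg.Agent.Nodes.OrthRoot.pairing_sr b a
    have e2 : pairing A a (sr b) = A a b := Cfsg.Agent.Nodes.OrthRoot.pairing_sr a b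
    have e3 : rep cs h (cs.simple b) (sr a) = sr a + sr b := by
      rw [rep_simple_eq, e1, h5.2]
      module
    rw [rep_mul_apply, ha, rep_mul_apply, e3, map_add, rep_simple_sr, rep_simple_eq, e2, h5.1]
    module
  obtain ⟨v, i, rfl⟩ := hr
  obtain ⟨u, j, rfl⟩ := hs
  obtain ⟨w, hw⟩ := key i j
  refine ⟨u * w * v⁻¹, ?_⟩
  rw [rep_mul_apply, rep_inv_apply, rep_mul_apply, hw]

end Roots

/-! ### The normaliser -/

section Norm

variable (C : Cls cs h p T n X R Z z) (hp : p.Prime) (hodd : p ≠ 2)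

include C hp hodd

theorem eq_one_of_comm {θ x : I → ℤ} (hθ : θ ∈ R) (hx : IsRoot cs h x) (h1 : x ≠ θ) (h2 : x ≠ -θ)
    (h0 : form cs h x θ ≠ 0) {a : Y} (ha : a ∈ X x) (hc : a * z θ = z θ * a) : a = 1 := by
  have h3 := C.z_inv θ hθ x hx h1 h2 h0 a ha
  rw [← hc, mul_assoc, C.z_sq θ hθ, mul_one] at h3
  exact Cfsg.Agent.Nodes.ZRel.eq_one_of_inv C hp hodd hx ha h3

/-- `z r` determines `± r`. -/
theorem eq_of_z_eq {θ s : I → ℤ} (hθ : θ ∈ R) (hs : s ∈ R)
    (hP : form cs h s θ = 0 → ∃ x, IsRoot cs h x ∧ form cs h x θ = 0 ∧ form cs h x s ≠ 0 ∧ x ≠ s ∧ x ≠ -s)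
    (e : z s = z θ) : s = θ ∨ s = -θ := by
  by_contra hcon
  push Not at hcon
  by_cases h0 : form cs h s θ = 0
  · obtain ⟨x, hx, h1, h2, h3, h4⟩ := hP h0
    exact Cfsg.Agent.Nodes.ZRel.z_ne C hp hodd hs hθ hx h1 h2 h3 h4 e
  · apply C.ne_bot s hs
    rw [Subgroup.eq_bot_iff_forall]
    intro a ha
    refine eq_one_of_comm C hp hodd hθ (C.root s hs) hcon.1 hcon.2 h0 (C.le s hs ha) ?_
    rw [← e]
    exact (C.z_cent s hs a ha).symm

theorem rep_theta {θ : I → ℤ} (hθ : θ ∈ R)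
    (hP : ∀ s ∈ R, form cs h s θ = 0 → ∃ x, IsRoot cs h x ∧ form cs h x θ = 0 ∧ form cs h x s ≠ 0 ∧ x ≠ s ∧ x ≠ -s)
    {w : W} {k : Y} (hk : Rp cs C.rgd.nsys w k) (hkz : k * z θ = z θ * k) :
    rep cs h w θ = θ ∨ rep cs h w θ = -θ := by
  refine eq_of_z_eq C hp hodd hθ (C.act θ hθ w) (hP _ (C.act θ hθ w)) ?_
  rw [← Cfsg.Agent.Nodes.ClsNorm.conj_z C hk hθ, hkz, mul_inv_cancel_right]

/-- **`⟨X x : x ⟂ θ⟩` is normalised by `C(z θ)`.** -/
theorem centralizer_le_normalizer_DD (hG : G1 cs h X = ⊤) {θ : I → ℤ} (hθ : θ ∈ R) (hXZ : ∀ r ∈ R, X r = Z r)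
    (hP : ∀ s ∈ R, form cs h s θ = 0 → ∃ x, IsRoot cs h x ∧ form cs h x θ = 0 ∧ form cs h x s ≠ 0 ∧ x ≠ s ∧
      x ≠ -s) :
    Subgroup.centralizer ({z θ} : Set Y) ≤ Subgroup.normalizer (DD cs h X {θ} : Set Y) := by
  have hfin : Finite W := inferInstance
  intro g hg
  have hT : ({z θ} : Set Y) ⊆ T := by rintro _ rfl; exact C.z_torus θ hθ
  have hg' : g ∈ GG cs h T X := by
    have : G1 cs h X ≤ GG cs h T X := le_sup_right
    exact this (by rw [hG]; trivial)
  obtain ⟨u, hu, w, k, hk, hkz, v, hv, rfl⟩ := Cfsg.Agent.Nodes.NormalForm.mem_centralizer C.rgd hT hg' hg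
  have hsup : RGD.Sup (fun x => X x ⊓ Subgroup.centralizer ({z θ} : Set Y)) (RGD.Pos cs h) ≤
      Subgroup.normalizer (DD cs h X {θ} : Set Y) := by
    refine RGD.Sup_le fun x hx => ?_
    intro a ha
    obtain ⟨ha1, ha2⟩ := Subgroup.mem_inf.1 ha
    have hc : a * z θ = z θ * a := (Subgroup.mem_centralizer_iff.1 ha2 _ rfl).symm
    have hcen : ∀ r ∈ R, r = θ ∨ r = -θ → X r ≤ Subgroup.normalizer (DD cs h X {θ} : Set Y) := by
      intro r hr hrθ
      have h1 : X r ≤ KK Z θ := by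
        rw [hXZ r hr]
        rcases hrθ with rfl | rfl
        · exact le_sup_left
        · exact le_sup_right
      refine h1.trans ?_
      refine le_trans ?_ (Cfsg.Agent.Nodes.ClsNorm.centralizer_le_normalizer' _)
      exact cm_iff_le_centralizer.1 (cm_symm (DD_cm C hθ rfl))
    by_cases h1 : x = θ
    · exact hcen x (h1 ▸ hθ) (Or.inl h1) ha1
    by_cases h2 : x = -θ
    · exact hcen x (by rw [h2]; exact Cfsg.Agent.Nodes.Perp.neg_mem C hθ) (Or.inr h2) ha1
    by_cases h3 : form cs h x θ = 0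
    · have h4 : x ∈ Perp cs h {θ} := ⟨hx.1, by rintro _ rfl; exact h3⟩
      exact Subgroup.le_normalizer (X_le_DD h4 ha1)
    · rw [eq_one_of_comm C hp hodd hθ hx.1 h1 h2 h3 ha1 hc]
      exact one_mem _
  have hmap : ∀ {w : W} {k : Y}, Rp cs C.rgd.nsys w k → k * z θ = z θ * k →
      cj k (DD cs h X {θ}) ≤ DD cs h X {θ} := by
    intro w k hk hkz
    refine cj_Sup_le C.rgd hk (fun x hx => hx.1) fun x hx => ⟨hx.1.act w, ?_⟩
    intro f hf
    rw [Set.mem_singleton_iff.1 hf]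
    have h1 : form cs h (rep cs h w x) (rep cs h w θ) = 0 := by rw [form_rep]; exact hx.2 θ rfl
    rcases rep_theta C hp hodd hθ hP hk hkz with h2 | h2
    · rwa [h2] at h1
    · rwa [h2, form_neg_right, neg_eq_zero] at h1
  have hkz' : k * z θ = z θ * k := (Subgroup.mem_centralizer_iff.1 hkz _ rfl).symm
  have hk2 : k ∈ Subgroup.normalizer (DD cs h X {θ} : Set Y) := by
    rw [mem_normalizer_iff_cj]
    apply le_antisymm (hmap hk hkz')
    have h1 := hmap hk.inv (by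
      rw [inv_mul_eq_iff_eq_mul, ← mul_assoc, hkz', mul_inv_cancel_right])
    have h2 := cj_mono k h1
    rwa [cj_cj_inv] at h2
  exact mul_mem (mul_mem (hsup hu) hk2) (hsup hv)

end Norm

/-! ### The Levi subgroup -/

section Levi

variable {J W' : Type*} [Fintype J] [DecidableEq J] [Group W'] [Fintype W'] {M' : CoxeterMatrix J}
  {A' : J → J → ℤ} {cs' : CoxeterSystem M' W'} {h' : IsCartan M' A'}

/-- `G1` of the restriction to the group generated by the root groups. -/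
theorem G1_restrict (cs : CoxeterSystem M W) (h : IsCartan M A) (X : (I → ℤ) → Subgroup Y) :
    G1 cs h (fun x => (X x).subgroupOf (G1 cs h X)) = ⊤ := by
  have h1 : (G1 cs h X).subgroupOf (G1 cs h X) =
      ⨆ x : {x | IsRoot cs h x}, (X x.1).subgroupOf (G1 cs h X) :=
    iSup_subgroupOf (K := G1 cs h X) (fun x : {x | IsRoot cs h x} => X x.1) fun x => X_le_G1 x.2
  rw [Subgroup.subgroupOf_self] at h1
  exact h1.symm

/-- Classical data on the group generated by the root groups. -/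
theorem exists_cls_G1 (C : Cls cs h p T n X R Z z) (hT : ∀ a ∈ T, ∀ b ∈ T, a * b = b * a) :
    ∃ (T' : Subgroup ↥(G1 cs h X)) (n' : I → ↥(G1 cs h X)) (z' : (I → ℤ) → ↥(G1 cs h X)),
      Cls cs h p T' n' (fun x => (X x).subgroupOf (G1 cs h X)) R (fun x => (Z x).subgroupOf (G1 cs h X)) z' ∧
      (∀ r ∈ R, (z' r : Y) = z r) ∧ (∀ a ∈ T', ∀ b ∈ T', a * b = b * a) := by
  classical
  choose t ht hL using fun i => exists_mul_mem C.rgd i
  have C1 := cls_shrink C ht hL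
  have hz : ∀ r ∈ R, z r ∈ G1 cs h X := fun r hr => (C1.z_torus r hr).2
  refine ⟨_, _, fun c => if h0 : z c ∈ G1 cs h X then ⟨z c, h0⟩ else 1,
    Cfsg.Agent.Nodes.ClsMap.cls_restrict C1 (G1 cs h X) (fun x hx => X_le_G1 hx) hL _ ?_, ?_, ?_⟩
  · intro r hr
    simp only [dif_pos (hz r hr)]
  · intro r hr
    simp only [dif_pos (hz r hr)]
  · intro a ha b hb
    exact Subtype.ext (hT _ (Subgroup.mem_inf.1 (Subgroup.mem_subgroupOf.1 ha)).1 _
      (Subgroup.mem_inf.1 (Subgroup.mem_subgroupOf.1 hb)).1)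

/-- `DD {θ}` for dominant `θ` is the group of a standard Levi subsystem. -/
theorem DD_eq (X : (I → ℤ) → Subgroup Y) {θ : I → ℤ} (hθ : Dom A θ) (f : J ↪ I) (hS : orth cs h θ = Set.range f)
    (hM : ∀ i j, M (f i) (f j) = M' i j) (hA : ∀ i j, A (f i) (f j) = A' i j) :
    DD cs h X {θ} = G1 cs' h' (fun c => X (iota (fun j => sr (f j)) c)) := by
  unfold DD
  rw [Perp_singleton hθ, hS]
  refine Cfsg.Agent.Nodes.ClsSub.Sup_eq_of_forall (fun x hx => ?_) (fun c hc => ?_)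
  · obtain ⟨c, hc, rfl⟩ := (Cfsg.Agent.Nodes.LeviStd.mem_RootsJ_range_iff' f hM hA cs' h').1 hx
    exact ⟨c, hc, rfl⟩
  · exact ⟨_, (Cfsg.Agent.Nodes.LeviStd.mem_RootsJ_range_iff' f hM hA cs' h').2 ⟨c, hc, rfl⟩, rfl⟩

end Levi

/-! ### The theorem -/

open Subgroup (center centralizer) in
open Cfsg.Agent.OddHalf.NI (CompIn) in
open Cfsg.Agent.Nodes.Sub in
/-- **`HasYF` from the highest root.** -/
theorem hasYF_of [Finite Y] (C : Cls cs h p T n X R Z z) (hp : p.Prime) (hodd : p ≠ 2) (hG : G1 cs h X = ⊤)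
    (hT : ∀ a ∈ T, ∀ b ∈ T, a * b = b * a) (hall : ∀ x, IsRoot cs h x → x ∈ R) (hXZ : ∀ r ∈ R, X r = Z r)
    {F : Type} [Field F] [Fintype F] (hc : Fintype.card F = 3) (hcard : ∀ x, IsRoot cs h x → Nat.card (X x) = 3)
    (sl : ∀ r ∈ R, Nonempty (Matrix.SpecialLinearGroup (Fin 2) F ≃* ↥(Z r ⊔ Z (-r))))
    {θ : I → ℤ} (hθ : θ ∈ R) (hdom : Dom A θ) {m : ℕ} (hm : 0 < m) (f : Fin m ↪ I)
    (hS : orth cs h θ = Set.range f) (h3 : ∀ i j, i ≠ j → M i j ≠ 2 → M i j = 3)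
    (hirrI : ∀ K : Set I, K.Nonempty → K ≠ Set.univ → ∃ a ∈ K, ∃ b, b ∉ K ∧ M a b ≠ 2)
    (hirr : ∀ K : Set (Fin m), K.Nonempty → K ≠ Set.univ → ∃ a ∈ K, ∃ b, b ∉ K ∧ M (f a) (f b) ≠ 2)
    (hnbI : ∀ k : I, ∃ j, j ≠ k ∧ M k j ≠ 2) (hnb : ∀ k : Fin m, ∃ j, j ≠ k ∧ M (f k) (f j) ≠ 2)
    (a b c : Fin m) (hab : A (f a) (f b) = 0) (hac : A (f a) (f c) = 0) (hbc : A (f b) (f c) = 0)
    {u : I → ℤ} (hu : IsRoot cs h u) (h2 : (2 : ℤ) • u = θ + -sr (f a) + -sr (f b) + -sr (f c))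
    (hcount : 14 ≤ {x | IsRoot cs h x ∧ 0 ≤ x ∧ form cs h x θ = 0}.ncard) : HasYF Y := by
  have ho : Odd (Fintype.card F) := by rw [hc]; decide
  have hθr := C.root θ hθ
  have tr : ∀ r ∈ R, ∀ s ∈ R, ∃ w, s = rep cs h w r := fun r hr s hs =>
    trans_of h3 hirrI (C.root r hr) (C.root s hs)
  -- the involutions are not trivial
  have hzθ : z θ ≠ 1 := by
    obtain ⟨j, -, h4, h5, h6⟩ := exists_neigh (cs := cs) (h := h) (J := Set.univ)
      (fun k _ => by obtain ⟨j, h4, h5⟩ := hnbI k; exact ⟨j, trivial, h4, h5⟩)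
      (x := θ) ⟨hθr, fun k hk => absurd trivial hk⟩
    intro h7
    obtain ⟨w, hw, hw1⟩ : ∃ w ∈ X (sr j), w ≠ 1 := by
      by_contra hcon
      push Not at hcon
      exact Cfsg.Agent.Nodes.StdConn.X_ne_bot C (isRoot_sr cs h j) ((Subgroup.eq_bot_iff_forall _).2 hcon)
    apply hw1
    refine eq_one_of_comm C hp hodd hθ (isRoot_sr cs h j) h5.symm (fun e => h6 (by rw [e, neg_neg]))
      (by rw [form_comm]; exact h4) hw ?_
    rw [h7, one_mul, mul_one]
  have hz1 : ∀ r ∈ R, z r ≠ 1 := fun r hr => NI.ClsFrame.z_ne C tr hθ hzθ hr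
  have huniq := NI.ClsFrame.uniq C ho sl hz1
  have hlen := NI.ClsFrame.len C tr
  -- orthogonality
  have horth : ∀ k : Fin m, form cs h θ (sr (f k)) = 0 := by
    intro k
    have h4 : f k ∈ orth cs h θ := by rw [hS]; exact ⟨k, rfl⟩
    exact form_eq_zero_of_pairing (mem_orth.1 h4)
  have hsr : ∀ k : Fin m, sr (f k) ∈ R := fun k => hall _ (isRoot_sr cs h (f k))
  have hf0 : ∀ j k : Fin m, A (f j) (f k) = 0 → form cs h (sr (f j)) (sr (f k)) = 0 := by
    intro j k h0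
    rw [form_comm]
    refine form_eq_zero_of_pairing ?_
    rw [Cfsg.Agent.Nodes.OrthRoot.pairing_sr]
    exact h0
  have hprod : z θ * z (sr (f a)) * z (sr (f b)) * z (sr (f c)) = 1 := by
    have h4 := Cfsg.Agent.Nodes.ZRel.prod4 C hp hodd huniq hlen (hall u hu) hθ
      (Cfsg.Agent.Nodes.Perp.neg_mem C (hsr a)) (Cfsg.Agent.Nodes.Perp.neg_mem C (hsr b))
      (Cfsg.Agent.Nodes.Perp.neg_mem C (hsr c))
      (by rw [form_neg_right, horth, neg_zero]) (by rw [form_neg_right, horth, neg_zero])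
      (by rw [form_neg_right, horth, neg_zero])
      (by rw [form_neg_right, form_neg_left, hf0 a b hab, neg_zero, neg_zero])
      (by rw [form_neg_right, form_neg_left, hf0 a c hac, neg_zero, neg_zero])
      (by rw [form_neg_right, form_neg_left, hf0 b c hbc, neg_zero, neg_zero]) h2
    rwa [C.z_neg _ (hsr a), C.z_neg _ (hsr b), C.z_neg _ (hsr c)] at h4
  have hzeq : z θ = (z (sr (f a)) * z (sr (f b)) * z (sr (f c)))⁻¹ := by
    rw [eq_inv_iff_mul_eq_one, ← mul_assoc, ← mul_assoc]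
    exact hprod
  -- the Levi subgroup
  have hfin : Finite (leviMatrix f M).Group := (levi_subSys (cs := cs) (h := h) f).finite
    (leviMatrix f M).toCoxeterSystem (levi_isCartan f h)
  let _ : Fintype (leviMatrix f M).Group := Fintype.ofFinite _
  have C0 := Cfsg.Agent.Nodes.ClsSub.cls_levi C f (leviMatrix f M).toCoxeterSystem
  obtain ⟨T', n', z', C2, hz2, hT2⟩ := exists_cls_G1 C0 hT
  have hG2 := G1_restrict (leviMatrix f M).toCoxeterSystem (levi_isCartan f h)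
    (fun c => X (iota (fun j => sr (f j)) c))
  have hDD := DD_eq (cs := cs) (cs' := (leviMatrix f M).toCoxeterSystem) (h' := levi_isCartan f h) X hdom f hS
    (fun _ _ => rfl) (fun _ _ => rfl)
  have : Nonempty (Fin m) := ⟨⟨0, hm⟩⟩
  have hR' : ∀ x, IsRoot (leviMatrix f M).toCoxeterSystem (levi_isCartan f h) x →
      x ∈ {c | IsRoot (leviMatrix f M).toCoxeterSystem (levi_isCartan f h) c ∧
        iota (fun j => sr (f j)) c ∈ R} := fun x hx =>
    ⟨hx, hall _ ((levi_subSys (cs := cs) (h := h) f).isRoot_iota hx)⟩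
  have hq : IsQuasisimple ↥(G1 (leviMatrix f M).toCoxeterSystem (levi_isCartan f h)
      (fun c => X (iota (fun j => sr (f j)) c))) := by
    refine QS.quasisimple C2 hp hodd hG2 hT2 hirr fun x hx => ?_
    obtain ⟨j, -, h4, h5, h6⟩ := exists_neigh (cs := (leviMatrix f M).toCoxeterSystem)
      (h := levi_isCartan f h) (J := Set.univ)
      (fun k _ => by obtain ⟨j, h4, h5⟩ := hnb k; exact ⟨j, trivial, h4, h5⟩)
      (x := x) ⟨hx, fun k hk => absurd trivial hk⟩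
    exact ⟨sr j, hR' _ (isRoot_sr _ _ j), h4, h5, h6⟩
  -- the condition for `eq_of_z_eq`
  have hP : ∀ s ∈ R, form cs h s θ = 0 → ∃ x, IsRoot cs h x ∧ form cs h x θ = 0 ∧ form cs h x s ≠ 0 ∧ x ≠ s ∧
      x ≠ -s := by
    intro s hs h0
    have h4 : s ∈ RootsJ cs h (orth cs h θ) := by
      rw [← Perp_singleton hdom]
      exact ⟨C.root s hs, by intro g hg; rw [Set.mem_singleton_iff.1 hg]; exact h0⟩
    obtain ⟨j, hj, h5, h6, h7⟩ := exists_neigh (cs := cs) (h := h) (J := orth cs h θ) (by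
      rw [hS]
      rintro _ ⟨k, rfl⟩
      obtain ⟨j, h8, h9⟩ := hnb k
      exact ⟨f j, ⟨j, rfl⟩, fun e => h8 (f.injective e), h9⟩) h4
    rw [hS] at hj
    obtain ⟨k, rfl⟩ := hj
    exact ⟨sr (f k), isRoot_sr cs h _, by rw [form_comm]; exact horth k, by rw [form_comm]; exact h5, h6.symm,
      fun e => h7 (by rw [e, neg_neg])⟩
  have hnorm := centralizer_le_normalizer_DD C hp hodd hG hθ hXZ hP
  have hle : DD cs h X {θ} ≤ centralizer ({z θ} : Set Y) := by
    refine RGD.Sup_le fun x hx w hw => ?_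
    rw [Subgroup.mem_centralizer_iff]
    rintro _ rfl
    exact (Cfsg.Agent.Nodes.ZRel.z_cent_of_orth C hθ hx.1 (hx.2 θ rfl) hw).symm
  rw [hDD] at hnorm hle
  have hzL : ∀ k : Fin m, (z' (sr k) : Y) = z (sr (f k)) := by
    intro k
    rw [hz2 (sr k) (hR' _ (isRoot_sr _ _ k)), iota_sr]
  have hy : z θ ∈ G1 (leviMatrix f M).toCoxeterSystem (levi_isCartan f h)
      (fun c => X (iota (fun j => sr (f j)) c)) := by
    rw [hzeq, ← hzL a, ← hzL b, ← hzL c]
    exact inv_mem (mul_mem (mul_mem (z' (sr a)).2 (z' (sr b)).2) (z' (sr c)).2)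
  refine ⟨z θ, _, hy, ?_, ⟨hle, ?_, ?_⟩, Or.inr (Or.inl ⟨?_, ?_⟩)⟩
  · refine orderOf_eq_prime ?_ hzθ
    rw [pow_two]
    exact C.z_sq θ hθ
  · exact ((Subgroup.normal_subgroupOf_iff_le_normalizer hle).2 hnorm).isSubnormal
  · exact Cfsg.Agent.SignalizersComponents.Components.isQuasisimple_of_mulEquiv (Subgroup.subgroupOfEquivOfLe hle).symm hq
  · have hSub : {x | IsRoot cs h x ∧ 0 ≤ x ∧ form cs h x θ = 0} ⊆ RGD.Pos cs h := fun x hx => ⟨hx.1, hx.2.1⟩
    have hclosed : Cfsg.Agent.Nodes.Unique.Closed cs h {x | IsRoot cs h x ∧ 0 ≤ x ∧ form cs h x θ = 0} := by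
      intro x hx y hy w hw
      refine ⟨hw.1, RGD.nonneg_of_btwn hx.2.1 hy.2.1 hw, ?_⟩
      have h4 : w ∈ Perp cs h {θ} := Perp.btwn
        ⟨hx.1, by intro g hg; rw [Set.mem_singleton_iff.1 hg]; exact hx.2.2⟩
        ⟨hy.1, by intro g hg; rw [Set.mem_singleton_iff.1 hg]; exact hy.2.2⟩ hw
      exact h4.2 θ rfl
    have h4 := Count.card_sup C.rgd 3 hSub hclosed fun x hx => hcard x hx.1
    have h5 : RGD.Sup X {x | IsRoot cs h x ∧ 0 ≤ x ∧ form cs h x θ = 0} ≤ DD cs h X {θ} :=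
      RGD.Sup_mono fun x hx => ⟨hx.1, by intro g hg; rw [Set.mem_singleton_iff.1 hg]; exact hx.2.2⟩
    rw [hDD] at h5
    have h6 := Subgroup.card_dvd_of_le h5
    rw [h4] at h6
    exact (pow_dvd_pow 3 hcount).trans h6
  · have tr2 : ∀ r ∈ {c | IsRoot (leviMatrix f M).toCoxeterSystem (levi_isCartan f h) c ∧
        iota (fun j => sr (f j)) c ∈ R}, ∀ s ∈ {c | IsRoot (leviMatrix f M).toCoxeterSystem (levi_isCartan f h) c ∧
        iota (fun j => sr (f j)) c ∈ R}, ∃ w, s = rep (leviMatrix f M).toCoxeterSystem (levi_isCartan f h) w r :=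
      fun r hr s hs => trans_of (fun i j hij => h3 (f i) (f j) (fun e => hij (f.injective e))) hirr hr.1 hs.1
    refine Fr.frame_of_cls C2 tr2 hp hodd hG2 ho hc ?_ ?_ ?_
    · intro r hr
      obtain ⟨φ⟩ := sl _ hr.2
      have hZle : ∀ s ∈ {c | IsRoot (leviMatrix f M).toCoxeterSystem (levi_isCartan f h) c ∧
        iota (fun j => sr (f j)) c ∈ R}, Z (iota (fun j => sr (f j)) s) ≤
          G1 (leviMatrix f M).toCoxeterSystem (levi_isCartan f h) (fun c => X (iota (fun j => sr (f j)) c)) :=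
        fun s hs => (C.le _ hs.2).trans (X_le_G1 (cs := (leviMatrix f M).toCoxeterSystem)
          (h := levi_isCartan f h) (X := fun c => X (iota (fun j => sr (f j)) c)) hs.1)
      have hneg : -r ∈ {c | IsRoot (leviMatrix f M).toCoxeterSystem (levi_isCartan f h) c ∧
        iota (fun j => sr (f j)) c ∈ R} := Cfsg.Agent.Nodes.Perp.neg_mem C2 hr
      have e1 : Z (iota (fun j => sr (f j)) r) ⊔ Z (-iota (fun j => sr (f j)) r) =
          Z (iota (fun j => sr (f j)) r) ⊔ Z (iota (fun j => sr (f j)) (-r)) := by rw [map_neg]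
      have e2 := Subgroup.subgroupOf_sup (hZle r hr) (hZle (-r) hneg)
      have e3 := Subgroup.subgroupOfEquivOfLe (sup_le (hZle r hr) (hZle (-r) hneg))
      exact ⟨(φ.trans (MulEquiv.subgroupCongr e1)).trans (e3.symm.trans (MulEquiv.subgroupCongr e2))⟩
    · have h4 : (⟨z θ, hy⟩ : ↥(G1 (leviMatrix f M).toCoxeterSystem (levi_isCartan f h)
          (fun c => X (iota (fun j => sr (f j)) c)))) = (z' (sr a) * z' (sr b) * z' (sr c))⁻¹ := by
        apply Subtype.ext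
        push_cast
        rw [hzL a, hzL b, hzL c]
        exact hzeq
      rw [h4]
      exact inv_mem (mul_mem (mul_mem (Subgroup.subset_closure ⟨_, hR' _ (isRoot_sr _ _ a), rfl⟩)
        (Subgroup.subset_closure ⟨_, hR' _ (isRoot_sr _ _ b), rfl⟩))
        (Subgroup.subset_closure ⟨_, hR' _ (isRoot_sr _ _ c), rfl⟩))
    · intro h4
      exact hzθ (congrArg Subtype.val h4)

end Cfsg.Agent.OddHalf.NI3.K.PerpN
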