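import Mathlib
import Cfsg.Agent.OddHalf.NI3.K.PerpN
import Cfsg.Agent.OddHalf.NI3.K.CentSub
import Cfsg.Agent.Nodes.CardSup
import Cfsg.Agent.Nodes.ClsSub

/-!
# `HasYF` from the product of two involutions `z a`, `z b` (NI over `F_3`, rows F13: `F4(3)`, `²E6(3)`; helper622)

`C : Cls ...` (`p = 3`), `a`, `b ∈ R`, `s = z a * z b`; the roots `x` with `⟨x, a^∨⟩ + ⟨x, b^∨⟩` even are the roots of a
subsystem: the group of this subsystem is a component of `C(s)`.

* `rep_link` : `s_a s_b` maps `α_a` to `α_b` for a simple bond; `tr_sub` : transitivity of the subsystem;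
* `hasYF_of_sub` : the theorem.
-/

set_option autoImplicit false
set_option linter.unusedSectionVars false
set_option linter.dupNamespace false

namespace Cfsg.Agent.OddHalf.NI3.K.BFour

open CoxeterSystem Cfsg.Agent.ChevalleyStructure.CoxeterGeom Cfsg.Agent.Tits.Roots Cfsg.Agent.Tits.Core
  Cfsg.Agent.Tits.RootComb Cfsg.Agent.Nodes.Comb Cfsg.Agent.Nodes.Reps Cfsg.Agent.Nodes.BNOf
  Cfsg.Agent.Nodes.RGDLib Cfsg.Agent.Nodes.Chart Cfsg.Agent.Nodes.Bruhat Cfsg.Agent.Nodes.Coroot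
  Cfsg.Agent.Nodes.Perp Cfsg.Agent.Nodes.StabComb Cfsg.Agent.Nodes.SubComb Cfsg.Agent.Nodes.Block
open Cfsg.Agent.OddHalf.NI3.K.PerpN Cfsg.Agent.OddHalf.NI3.K.CentSub

section Roots

variable {I W : Type*} [Fintype I] [DecidableEq I] [Group W] {M : CoxeterMatrix I}
  {cs : CoxeterSystem M W} {A : I → I → ℤ} {h : IsCartan M A}

/-- Simple roots joined by a simple bond are conjugate. -/
theorem rep_link {a b : I} (hab : A a b = -1) (hba : A b a = -1) :
    rep cs h (cs.simple a * cs.simple b) (sr a) = sr b := by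
  have e1 : pairing A b (sr a) = A b a := Cfsg.Agent.Nodes.OrthRoot.pairing_sr b a
  have e2 : pairing A a (sr b) = A a b := Cfsg.Agent.Nodes.OrthRoot.pairing_sr a b
  have e3 : rep cs h (cs.simple b) (sr a) = sr a + sr b := by
    rw [rep_simple_eq, e1, hba]
    module
  rw [rep_mul_apply, e3, map_add, rep_simple_sr, rep_simple_eq, e2, hab]
  module

end Roots

variable {I W Y : Type*} [Fintype I] [DecidableEq I] [Group W] [Fintype W] [Group Y] {M : CoxeterMatrix I}
  {cs : CoxeterSystem M W} {A : I → I → ℤ} {h : IsCartan M A} {p : ℕ} {T : Subgroup Y} {n : I → Y}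
  {X : (I → ℤ) → Subgroup Y} {R : Set (I → ℤ)} {Z : (I → ℤ) → Subgroup Y} {z : (I → ℤ) → Y}

section Act

variable (C : Cls cs h p T n X R Z z) (hXZ : ∀ r ∈ R, X r = Z r)
  (le_one : ∀ r ∈ R, ∀ x, IsRoot cs h x → x ≠ r → x ≠ -r → |cpr cs h x r| ≤ 1)

include C hXZ le_one

theorem z_even {r x : I → ℤ} (hr : r ∈ R) (hx : IsRoot cs h x) (he : Even (cpr cs h x r)) {u : Y} (hu : u ∈ X x) :
    z r * u = u * z r := by
  by_cases h1 : x = r
  · subst h1
    rw [hXZ x hr] at hu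
    exact C.z_cent x hr u hu
  by_cases h2 : x = -r
  · have hnr := Cfsg.Agent.Nodes.Perp.neg_mem C hr
    rw [h2, hXZ _ hnr] at hu
    rw [← C.z_neg r hr]
    exact C.z_cent _ hnr u hu
  · have h3 := abs_le.1 (le_one r hr x hx h1 h2)
    have h4 : cpr cs h x r = 0 := by
      obtain ⟨k, hk⟩ := he
      omega
    exact (Cfsg.Agent.Nodes.ZRel.z_cent_of_orth C hr hx ((cpr_zero_iff cs h x (C.root r hr)).1 h4) hu).symm

theorem z_odd {r x : I → ℤ} (hr : r ∈ R) (hx : IsRoot cs h x) (he : Odd (cpr cs h x r)) {u : Y} (hu : u ∈ X x) :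
    z r * u * z r = u⁻¹ := by
  have hrr := C.root r hr
  refine C.z_inv r hr x hx ?_ ?_ ?_ u hu
  · rintro rfl
    rw [cpr_self cs h hrr] at he
    exact absurd he (by decide)
  · rintro rfl
    rw [cpr_neg cs h _ hrr, cpr_self cs h hrr] at he
    exact absurd he (by decide)
  · intro h0
    rw [(cpr_zero_iff cs h x hrr).2 h0] at he
    exact absurd he (by decide)

/-- The action of `z a * z b`. -/
theorem s_even {a b x : I → ℤ} (ha : a ∈ R) (hb : b ∈ R) (hx : IsRoot cs h x)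
    (he : Even (cpr cs h x a + cpr cs h x b)) {u : Y} (hu : u ∈ X x) : z a * z b * u = u * (z a * z b) := by
  rcases Int.even_or_odd (cpr cs h x a) with h1 | h1
  · have h2 : Even (cpr cs h x b) := (Int.even_add.1 he).1 h1
    rw [mul_assoc, z_even C hXZ le_one hb hx h2 hu, ← mul_assoc, z_even C hXZ le_one ha hx h1 hu, mul_assoc]
  · have h2 : Odd (cpr cs h x b) := by
      rw [← Int.not_even_iff_odd] at h1 ⊢
      exact fun h3 => h1 ((Int.even_add.1 he).2 h3)
    have e1 := z_odd C hXZ le_one ha hx h1 hu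
    have e2 := z_odd C hXZ le_one hb hx h2 hu
    have e3 : z b * u = u⁻¹ * z b := by
      rw [← e2, mul_assoc, C.z_sq b hb, mul_one]
    have e4 : z a * u⁻¹ = u * z a := by
      have e5 : z a * u⁻¹ * z a = u := by
        rw [← e1]
        calc z a * (z a * u * z a) * z a = (z a * z a) * u * (z a * z a) := by group
          _ = u := by rw [C.z_sq a ha]; group
      rw [← e5, mul_assoc (z a * u⁻¹), C.z_sq a ha, mul_one, e5]
    rw [mul_assoc, e3, ← mul_assoc, e4, mul_assoc]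

theorem s_odd {a b x : I → ℤ} (ha : a ∈ R) (hb : b ∈ R) (hx : IsRoot cs h x)
    (he : ¬ Even (cpr cs h x a + cpr cs h x b)) {u : Y} (hu : u ∈ X x) :
    z a * z b * u = u⁻¹ * (z a * z b) := by
  rcases Int.even_or_odd (cpr cs h x a) with h1 | h1
  · have h2 : Odd (cpr cs h x b) := by
      rw [← Int.not_even_iff_odd]
      exact fun h3 => he (Int.even_add.2 ⟨fun _ => h3, fun _ => h1⟩)
    have e2 := z_odd C hXZ le_one hb hx h2 hu
    have e3 : z b * u = u⁻¹ * z b := by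
      rw [← e2, mul_assoc, C.z_sq b hb, mul_one]
    rw [mul_assoc, e3, ← mul_assoc, z_even C hXZ le_one ha hx h1 (inv_mem hu), mul_assoc]
  · have h2 : Even (cpr cs h x b) := by
      by_contra h3
      apply he
      rw [Int.not_even_iff_odd] at h3
      exact h1.add_odd h3
    have e1 := z_odd C hXZ le_one ha hx h1 hu
    have e3 : z a * u = u⁻¹ * z a := by
      rw [← e1, mul_assoc, C.z_sq a ha, mul_one]
    rw [mul_assoc, z_even C hXZ le_one hb hx h2 hu, ← mul_assoc, e3, mul_assoc]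

theorem inf_eq_bot (hp : p.Prime) (hodd : p ≠ 2) {a b x : I → ℤ} (ha : a ∈ R) (hb : b ∈ R) (hx : IsRoot cs h x)
    (he : ¬ Even (cpr cs h x a + cpr cs h x b)) :
    X x ⊓ Subgroup.centralizer ({z a * z b} : Set Y) = ⊥ := by
  rw [Subgroup.eq_bot_iff_forall]
  intro u hu
  obtain ⟨hu1, hu2⟩ := Subgroup.mem_inf.1 hu
  have h1 := s_odd C hXZ le_one ha hb hx he hu1
  rw [CentSub.mem_cen.1 hu2] at h1
  exact Cfsg.Agent.Nodes.ZRel.eq_one_of_inv C hp hodd hx hu1 (mul_right_cancel h1)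

end Act

/-! ### The theorem -/

section Main

variable {J W' : Type*} [Fintype J] [DecidableEq J] [Group W'] [Fintype W'] {M' : CoxeterMatrix J}
  {A' : J → J → ℤ} {cs' : CoxeterSystem M' W'} {h' : IsCartan M' A'} {β : J → I → ℤ} {w : J → W} {i : J → I}

/-- Transitivity of the subsystem on its classical roots. -/
theorem tr_sub (C : Cls cs h p T n X R Z z) (S : SubSys cs h A' β w i) (k₀ : J)
    (hk : ∀ k, β k ∈ R → ∃ v, sr k = rep cs' h' v (sr k₀)) :
    ∀ r ∈ {c | IsRoot cs' h' c ∧ iota β c ∈ R}, ∀ s ∈ {c | IsRoot cs' h' c ∧ iota β c ∈ R},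
      ∃ v, s = rep cs' h' v r := by
  have key : ∀ r ∈ {c | IsRoot cs' h' c ∧ iota β c ∈ R}, ∃ v, r = rep cs' h' v (sr k₀) := by
    rintro _ ⟨⟨v, k, rfl⟩, hr⟩
    have h1 : β k ∈ R := by
      rw [← S.rep_phi cs' h', iota_sr] at hr
      have h2 := C.act _ hr (S.phi cs' h' v)⁻¹
      rwa [rep_inv_apply] at h2
    obtain ⟨u, hu⟩ := hk k h1
    exact ⟨v * u, by rw [rep_mul_apply, ← hu]⟩
  intro r hr s hs
  obtain ⟨u, rfl⟩ := key r hr
  obtain ⟨v, rfl⟩ := key s hs
  exact ⟨v * u⁻¹, by rw [rep_mul_apply, rep_inv_apply]⟩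

open Subgroup (center centralizer) in
open Cfsg.Agent.OddHalf.NI (CompIn) in
/-- **`HasYF` from a subsystem.** -/
theorem hasYF_of_sub [Finite Y] (C : Cls cs h 3 T n X R Z z) (hG : G1 cs h X = ⊤)
    (hT : ∀ a ∈ T, ∀ b ∈ T, a * b = b * a) (hXZ : ∀ r ∈ R, X r = Z r)
    (le_one : ∀ r ∈ R, ∀ x, IsRoot cs h x → x ≠ r → x ≠ -r → |cpr cs h x r| ≤ 1)
    {F : Type} [Field F] [Fintype F] (hc : Fintype.card F = 3)
    (sl : ∀ r ∈ R, Nonempty (Matrix.SpecialLinearGroup (Fin 2) F ≃* ↥(Z r ⊔ Z (-r))))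
    {a b : I → ℤ} (ha : a ∈ R) (hb : b ∈ R) (S : SubSys cs h A' β w i)
    (him : ∀ x, IsRoot cs h x → (Even (cpr cs h x a + cpr cs h x b) ↔ ∃ c, IsRoot cs' h' c ∧ x = iota β c))
    (hne : ∃ x, IsRoot cs h x ∧ ¬ Even (cpr cs h x a + cpr cs h x b))
    (hab : cpr cs h a b = 0) (hba : cpr cs h b a = 0)
    [Nonempty J] (hirr : ∀ K : Set J, K.Nonempty → K ≠ Set.univ → ∃ a ∈ K, ∃ b, b ∉ K ∧ M' a b ≠ 2)
    (hnb : ∀ k : J, ∃ j, j ≠ k ∧ M' k j ≠ 2 ∧ β j ∈ R) (k₀ : J)
    (hk : ∀ k, β k ∈ R → ∃ v, sr k = rep cs' h' v (sr k₀))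
    (hcount : 14 ≤ {c | IsRoot cs' h' c ∧ 0 ≤ c}.ncard) : HasYF Y := by
  classical
  have hp : Nat.Prime 3 := Nat.prime_three
  have hodd : 3 ≠ 2 := by norm_num
  have : Fact (Nat.Prime 3) := ⟨hp⟩
  have ho : Odd (Fintype.card F) := by rw [hc]; decide
  have hG' : ∀ g : Y, g ∈ GG cs h T X := by
    intro g
    have : G1 cs h X ≤ GG cs h T X := le_sup_right
    exact this (by rw [hG]; trivial)
  set s : Y := z a * z b with hs
  have hsT : s ∈ T := mul_mem (C.z_torus a ha) (C.z_torus b hb)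
  -- the two kinds of roots
  have h1 : ∀ c, IsRoot cs' h' c → X (iota β c) ≤ centralizer ({s} : Set Y) := by
    intro c hc' u hu
    have hx := S.isRoot_iota hc'
    exact CentSub.mem_cen.2 (s_even C hXZ le_one ha hb hx ((him _ hx).2 ⟨c, hc', rfl⟩) hu)
  have h2 : ∀ x, IsRoot cs h x → (∃ c, IsRoot cs' h' c ∧ x = iota β c) ∨
      X x ⊓ centralizer ({s} : Set Y) = ⊥ := by
    intro x hx
    by_cases he : Even (cpr cs h x a + cpr cs h x b)
    · exact Or.inl ((him x hx).1 he)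
    · exact Or.inr (inf_eq_bot C hXZ le_one hp hodd ha hb hx he)
  -- the classical data of the subsystem
  choose g hg using fun j => exists_rp cs C.rgd.nsys (w j)
  have D0 := Cfsg.Agent.Nodes.Sub.rgd_sub C.rgd S (comm_of_cent (cs' := cs') (h' := h') C.rgd S hsT h1 h2) hg
  have C0 := Cfsg.Agent.Nodes.ClsSub.cls_sub C S hg D0
  obtain ⟨T', n', z', C2, hz2, hT2⟩ := exists_cls_G1 C0 hT
  have hG2 := G1_restrict cs' h' (fun c => X (iota β c))
  have hq : IsQuasisimple ↥(G1 cs' h' (fun c => X (iota β c))) := by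
    refine QS.quasisimple C2 hp hodd hG2 hT2 hirr fun x hx => ?_
    obtain ⟨v, k, rfl⟩ := hx
    obtain ⟨j, hj, hM, hjR⟩ := hnb k
    have hne : (sr k : J → ℤ) ≠ sr j := by
      intro e
      have := congrFun e k
      rw [sr_self, sr_ne hj.symm] at this
      exact one_ne_zero this
    have hne' : (sr k : J → ℤ) ≠ -sr j := by
      intro e
      have := congrFun e k
      rw [sr_self, Pi.neg_apply, sr_ne hj.symm, neg_zero] at this
      exact one_ne_zero this
    refine ⟨rep cs' h' v (sr j), ⟨⟨v, j, rfl⟩, ?_⟩, ?_, ?_, ?_⟩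
    · rw [← S.rep_phi cs' h', iota_sr]
      exact C.act _ hjR _
    · rw [form_rep]
      exact form_sr_ne hj hM
    · exact fun e => hne (rep_injective_apply cs' h' v e)
    · intro e
      rw [← map_neg] at e
      exact hne' (rep_injective_apply cs' h' v e)
  have hle : G1 cs' h' (fun c => X (iota β c)) ≤ centralizer ({s} : Set Y) := RGD.Sup_le fun c hc' => h1 c hc'
  have hnorm : centralizer ({s} : Set Y) ≤ Subgroup.normalizer (G1 cs' h' (fun c => X (iota β c)) : Set Y) := by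
    intro g hg
    rw [mem_normalizer_iff_cj]
    exact cj_G1_of_cent C.rgd S hsT h1 h2 (hG' g) hg
  -- `s` in the group of the subsystem
  obtain ⟨ca, hca, ea⟩ := (him a (C.root a ha)).1 (by
    rw [cpr_self cs h (C.root a ha), hab]; decide)
  obtain ⟨cb, hcb, eb⟩ := (him b (C.root b hb)).1 (by
    rw [cpr_self cs h (C.root b hb), hba]; decide)
  have hcaR : ca ∈ {c | IsRoot cs' h' c ∧ iota β c ∈ R} := ⟨hca, ea ▸ ha⟩
  have hcbR : cb ∈ {c | IsRoot cs' h' c ∧ iota β c ∈ R} := ⟨hcb, eb ▸ hb⟩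
  have hza : (z' ca : Y) = z a := by rw [hz2 ca hcaR, ← ea]
  have hzb : (z' cb : Y) = z b := by rw [hz2 cb hcbR, ← eb]
  have hy : s ∈ G1 cs' h' (fun c => X (iota β c)) := by
    rw [hs, ← hza, ← hzb]
    exact mul_mem (z' ca).2 (z' cb).2
  have hs1 : s ≠ 1 := by
    obtain ⟨x, hx, he⟩ := hne
    intro e
    apply Cfsg.Agent.Nodes.StdConn.X_ne_bot C hx
    have h3 := inf_eq_bot C hXZ le_one hp hodd ha hb hx he
    rw [← hs, e] at h3
    rw [← h3, eq_comm, inf_eq_left]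
    intro u _
    exact CentSub.mem_cen.2 (by rw [one_mul, mul_one])
  refine ⟨s, _, hy, ?_, ⟨hle, ?_, ?_⟩, Or.inr (Or.inl ⟨?_, ?_⟩)⟩
  · refine orderOf_eq_prime ?_ hs1
    rw [pow_two, hs]
    calc z a * z b * (z a * z b) = (z a * z b) * (z b * z a) := by
          rw [Cfsg.Agent.Nodes.ZRel.z_comm C ha hb]
      _ = z a * (z b * z b) * z a := by group
      _ = 1 := by rw [C.z_sq b hb, mul_one, C.z_sq a ha]
  · exact ((Subgroup.normal_subgroupOf_iff_le_normalizer hle).2 hnorm).isSubnormal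
  · exact Cfsg.Agent.SignalizersComponents.Components.isQuasisimple_of_mulEquiv
      (Subgroup.subgroupOfEquivOfLe hle).symm hq
  · have hfin : (RGD.Pos cs' h').Finite := Cfsg.Agent.Nodes.Unique.finite_pos
    have h4 := Cfsg.Agent.Nodes.CardSup.card_sup D0 (s := hfin.toFinset) (by rw [hfin.coe_toFinset])
      (by rw [hfin.coe_toFinset]; exact Cfsg.Agent.Nodes.Unique.closed_pos)
    rw [hfin.coe_toFinset] at h4
    have h5 : RGD.Sup (fun c => X (iota β c)) (RGD.Pos cs' h') ≤ G1 cs' h' (fun c => X (iota β c)) :=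
      RGD.Sup_mono fun x hx => hx.1
    have h6 := Subgroup.card_dvd_of_le h5
    rw [h4] at h6
    have h7 : (3 : ℕ) ^ hfin.toFinset.card ∣ ∏ c ∈ hfin.toFinset, Nat.card ↥(X (iota β c)) := by
      rw [← Finset.prod_const]
      refine Finset.prod_dvd_prod_of_dvd _ _ fun c hc' => ?_
      have hx := S.isRoot_iota ((hfin.mem_toFinset.1 hc').1)
      have h8 : IsPGroup 3 ↥(X (iota β c)) := C.rgd.pgrp' hx
      obtain ⟨k, hk⟩ := IsPGroup.iff_card.1 h8
      rw [hk]
      refine dvd_pow_self 3 ?_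
      rintro rfl
      rw [pow_zero, Subgroup.card_eq_one] at hk
      exact Cfsg.Agent.Nodes.StdConn.X_ne_bot C hx hk
    have h8 : 14 ≤ hfin.toFinset.card := by
      rw [← Set.ncard_eq_toFinset_card _ hfin]
      exact hcount
    exact (pow_dvd_pow 3 h8).trans (h7.trans h6)
  · refine Fr.frame_of_cls C2 (tr_sub C S k₀ hk) hp hodd hG2 ho hc ?_ ?_ ?_
    · intro r hr
      obtain ⟨φ⟩ := sl _ hr.2
      have hZle : ∀ s ∈ {c | IsRoot cs' h' c ∧ iota β c ∈ R}, Z (iota β s) ≤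
          G1 cs' h' (fun c => X (iota β c)) :=
        fun s hs => (C.le _ hs.2).trans (X_le_G1 (cs := cs') (h := h') (X := fun c => X (iota β c)) hs.1)
      have hneg : -r ∈ {c | IsRoot cs' h' c ∧ iota β c ∈ R} := Cfsg.Agent.Nodes.Perp.neg_mem C2 hr
      have e1 : Z (iota β r) ⊔ Z (-iota β r) = Z (iota β r) ⊔ Z (iota β (-r)) := by rw [map_neg]
      have e2 := Subgroup.subgroupOf_sup (hZle r hr) (hZle (-r) hneg)
      have e3 := Subgroup.subgroupOfEquivOfLe (sup_le (hZle r hr) (hZle (-r) hneg))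
      exact ⟨(φ.trans (MulEquiv.subgroupCongr e1)).trans (e3.symm.trans (MulEquiv.subgroupCongr e2))⟩
    · have h4 : (⟨s, hy⟩ : ↥(G1 cs' h' (fun c => X (iota β c)))) = z' ca * z' cb := by
        apply Subtype.ext
        push_cast
        rw [hza, hzb]
      rw [h4]
      exact mul_mem (Subgroup.subset_closure ⟨_, hcaR, rfl⟩) (Subgroup.subset_closure ⟨_, hcbR, rfl⟩)
    · intro h4
      exact hs1 (congrArg Subtype.val h4)

end Main

end Cfsg.Agent.OddHalf.NI3.K.BFour
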