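import Cfsg.Agent.OddHalf.NI3.Props

/-!
# `HasY` from a block (NI over F_3, F13 rows R1, R2, R3; bb ODD #14361)

`hasY_of_block`: `φ : X → K` surjective with central kernel, `e : H → X` with `H` quasisimple, `z ∈ Z(H)` an even
involution, `e(H)` normalised by the elements commuting with `e z`, and `φ ∘ e` injective: then `φ (e z)` and the image
of `H` give `HasY K`.
-/

set_option autoImplicit false

namespace Cfsg.Agent.OddHalf.NI3.K

open Subgroup Cfsg Cfsg.Agent.SignalizersComponents Cfsg.Agent.OddHalf.LieOddFam Cfsg.Agent.OddHalf.NI3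
open Cfsg.Agent.OddHalf.NI (CompIn Even8 IsSL)
open scoped commutatorElement

universe u v w

/-- the quotients by the centres of isomorphic groups -/
noncomputable def qCongr {A : Type u} {B : Type v} [Group A] [Group B] (e : A ≃* B) :
    A ⧸ center A ≃* B ⧸ center B :=
  QuotientGroup.congr (center A) (center B) e (by
    ext x
    constructor
    · rintro ⟨y, hy, rfl⟩
      rw [mem_center_iff]
      intro g
      have h1 := mem_center_iff.mp hy (e.symm g)
      have h2 := congrArg e h1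
      simpa using h2
    · intro hx
      refine ⟨e.symm x, ?_, by simp⟩
      rw [SetLike.mem_coe, mem_center_iff]
      intro g
      apply e.injective
      simpa using mem_center_iff.mp hx (e g))

section Block

variable {X : Type u} {H : Type v} {K : Type w} [Group X] [Group H] [Group K]

/-- a block is subnormal in the centralizer of its involution modulo a central subgroup -/
theorem subnormal_block (φ : X →* K) (hs : Function.Surjective φ) (hk : φ.ker ≤ center X) (e : H →* X) {z : H}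
    (hz : z ∈ center H) (hn : ∀ g : X, g * e z = e z * g → ∀ a, g * e a * g⁻¹ ∈ e.range) :
    ((φ.comp e).range.subgroupOf (centralizer {φ (e z)})).IsSubnormal := by
  set y := e z with hy
  set C := centralizer {φ y} with hC
  set D := (centralizer {y}).map φ with hD
  have hDC : D ≤ C := by
    rintro _ ⟨g, hg, rfl⟩
    rw [SetLike.mem_coe, mem_centralizer_singleton_iff] at hg
    rw [hC, mem_centralizer_singleton_iff, ← map_mul, ← map_mul, hg]
  have hJD : (φ.comp e).range ≤ D := by
    rintro _ ⟨a, rfl⟩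
    refine ⟨e a, ?_, rfl⟩
    rw [SetLike.mem_coe, mem_centralizer_singleton_iff, hy, ← map_mul, ← map_mul]
    congr 1
    exact mem_center_iff.mp hz a
  have hlift : ∀ g : X, φ g ∈ C → g * y * g⁻¹ * y⁻¹ ∈ φ.ker := by
    intro g hg
    rw [hC, mem_centralizer_singleton_iff] at hg
    rw [MonoidHom.mem_ker, map_mul, map_mul, map_mul, map_inv, map_inv]
    rw [hg]
    group
  have hnorm1 : ((φ.comp e).range.subgroupOf D).Normal := by
    constructor
    rintro ⟨x, hx⟩ hxJ ⟨g, hg⟩
    obtain ⟨g', hg', rfl⟩ := hg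
    rw [mem_subgroupOf] at hxJ ⊢
    obtain ⟨a, ha⟩ := hxJ
    simp only at ha
    rw [SetLike.mem_coe, mem_centralizer_singleton_iff] at hg'
    obtain ⟨b, hb⟩ := hn g' hg' a
    refine ⟨b, ?_⟩
    simp only [MonoidHom.comp_apply] at ha ⊢
    rw [hb, map_mul, map_mul, map_inv, ha]
    rfl
  have hnorm2 : (D.subgroupOf C).Normal := by
    constructor
    rintro ⟨x, hx⟩ hxD ⟨g, hg⟩
    rw [mem_subgroupOf] at hxD ⊢
    obtain ⟨x', hx', hxx⟩ := hxD
    obtain ⟨g', rfl⟩ := hs g
    simp only at hxx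
    subst hxx
    refine ⟨g' * x' * g'⁻¹, ?_, by simp⟩
    rw [SetLike.mem_coe, mem_centralizer_singleton_iff] at hx' ⊢
    have h1 := hk (hlift g' hg)
    set k := g' * y * g'⁻¹ * y⁻¹ with hkd
    have hkc : ∀ w, w * k⁻¹ = k⁻¹ * w := fun w => mem_center_iff.mp (inv_mem h1) w
    have h2 : g'⁻¹ * y * g' = y * k⁻¹ := by
      calc g'⁻¹ * y * g' = g'⁻¹ * (y * k⁻¹) * k * g' := by group
        _ = g'⁻¹ * (k⁻¹ * y) * k * g' := by rw [hkc]
        _ = g'⁻¹ * k⁻¹ * (y * k) * g' := by group
        _ = g'⁻¹ * k⁻¹ * (k * y) * g' := by rw [mem_center_iff.mp h1 y]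
        _ = g'⁻¹ * k⁻¹ * (g' * y * g'⁻¹) * g' := by rw [hkd]; group
        _ = g'⁻¹ * (k⁻¹ * g') * y := by group
        _ = g'⁻¹ * (g' * k⁻¹) * y := by rw [hkc]
        _ = k⁻¹ * y := by group
        _ = y * k⁻¹ := by rw [hkc]
    calc g' * x' * g'⁻¹ * y = g' * x' * (g'⁻¹ * y * g') * g'⁻¹ := by group
      _ = g' * x' * (y * k⁻¹) * g'⁻¹ := by rw [h2]
      _ = g' * (x' * y) * k⁻¹ * g'⁻¹ := by group
      _ = g' * (y * x') * k⁻¹ * g'⁻¹ := by rw [hx']
      _ = g' * y * (x' * k⁻¹) * g'⁻¹ := by group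
      _ = g' * y * (k⁻¹ * x') * g'⁻¹ := by rw [hkc]
      _ = g' * (y * k⁻¹) * x' * g'⁻¹ := by group
      _ = g' * (g'⁻¹ * y * g') * x' * g'⁻¹ := by rw [h2]
      _ = y * (g' * x' * g'⁻¹) := by group
  refine IsSubnormal.step _ (D.subgroupOf C) ?_ hnorm2.isSubnormal ?_
  · intro x hx
    exact hJD hx
  · constructor
    rintro ⟨⟨x, hxC⟩, hxD⟩ hxJ ⟨⟨g, hgC⟩, hgD⟩
    have := hnorm1.conj_mem ⟨x, hxD⟩ hxJ ⟨g, hgD⟩
    exact this

/-- **a block gives a component of the centralizer of its involution** -/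
theorem compIn_block (φ : X →* K) (hs : Function.Surjective φ) (hk : φ.ker ≤ center X) (e : H →* X) {z : H}
    (hH : IsQuasisimple H) (hz : z ∈ center H)
    (hn : ∀ g : X, g * e z = e z * g → ∀ a, g * e a * g⁻¹ ∈ e.range)
    (hi : Function.Injective (φ.comp e)) :
    CompIn (centralizer ({φ (e z)} : Set K)) (φ.comp e).range := by
  have hle : (φ.comp e).range ≤ centralizer ({φ (e z)} : Set K) := by
    rintro _ ⟨a, rfl⟩
    rw [mem_centralizer_singleton_iff]
    simp only [MonoidHom.comp_apply]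
    rw [← map_mul, ← map_mul, ← map_mul, ← map_mul, mem_center_iff.mp hz a]
  refine ⟨hle, subnormal_block φ hs hk e hz hn, ?_⟩
  exact Components.isQuasisimple_of_mulEquiv
    ((MonoidHom.ofInjective hi).trans (Subgroup.subgroupOfEquivOfLe hle).symm) hH

/-- **`HasY` from a block** -/
theorem hasY_of_block (φ : X →* K) (hs : Function.Surjective φ) (hk : φ.ker ≤ center X) (e : H →* X) {z : H}
    (hH : IsQuasisimple H) (hz : z ∈ center H) (h8 : Even8 z) (hr : Rk (H ⧸ center H) 3)
    (hn : ∀ g : X, g * e z = e z * g → ∀ a, g * e a * g⁻¹ ∈ e.range)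
    (hi : Function.Injective (φ.comp e)) : HasY K := by
  set E : H ≃* ↥(φ.comp e).range := MonoidHom.ofInjective hi with hE
  have hEz : E z = ⟨φ (e z), ⟨z, rfl⟩⟩ := rfl
  have h1 : (E z) ≠ 1 := by
    intro h
    have h2 : z = 1 := E.injective (h.trans (map_one E).symm)
    have h3 := h8.1
    rw [h2, orderOf_one] at h3
    exact absurd h3 (by decide)
  refine ⟨φ (e z), (φ.comp e).range, ⟨z, rfl⟩, ?_, compIn_block φ hs hk e hH hz hn hi, Or.inl ⟨?_, ?_⟩⟩
  · have h2 := orderOf_injective (φ.comp e) hi z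
    rw [h8.1] at h2
    exact h2
  · exact rk_congr (qCongr E) hr
  · exact h8.map E.toMonoidHom h1

/-- **`HasYF` from a block** -/
theorem hasYF_of_block (φ : X →* K) (hs : Function.Surjective φ) (hk : φ.ker ≤ center X) (e : H →* X) {z : H}
    (hH : IsQuasisimple H) (hz : z ∈ center H) (h8 : Even8 z) (hr : Rk (H ⧸ center H) 3)
    (hp : IsPGroup 2 ↥(center H))
    (hn : ∀ g : X, g * e z = e z * g → ∀ a, g * e a * g⁻¹ ∈ e.range)
    (hi : Function.Injective (φ.comp e)) : HasYF K := by
  set E : H ≃* ↥(φ.comp e).range := MonoidHom.ofInjective hi with hE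
  have h1 : (E z) ≠ 1 := by
    intro h
    have h2 : z = 1 := E.injective (h.trans (map_one E).symm)
    have h3 := h8.1
    rw [h2, orderOf_one] at h3
    exact absurd h3 (by decide)
  refine ⟨φ (e z), (φ.comp e).range, ⟨z, rfl⟩, ?_, compIn_block φ hs hk e hH hz hn hi, Or.inl ⟨?_, ?_, ?_⟩⟩
  · have h2 := orderOf_injective (φ.comp e) hi z
    rw [h8.1] at h2
    exact h2
  · exact rk_congr (qCongr E) hr
  · exact h8.map E.toMonoidHom h1
  · rintro ⟨x, hx⟩
    have hx' : E.symm x ∈ center H := by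
      rw [mem_center_iff]
      intro g
      apply E.injective
      rw [map_mul, map_mul, E.apply_symm_apply]
      exact mem_center_iff.mp hx (E g)
    obtain ⟨k, hk⟩ := hp ⟨E.symm x, hx'⟩
    refine ⟨k, Subtype.ext ?_⟩
    apply E.symm.injective
    have h2 := congrArg Subtype.val hk
    rw [Subgroup.coe_pow, map_pow, Subgroup.coe_one, map_one]
    exact h2

end Block

end Cfsg.Agent.OddHalf.NI3.K
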