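import Cfsg.Agent.OddHalf.NI3.K.EvenSheet
import Cfsg.Agent.OddHalf.NI3.K.Blk
import Cfsg.Agent.OddHalf.NI.OmegaPlusRow
import Cfsg.Agent.Nodes.Coroot

/-!
# Even central involutions of the covers of `PΩ⁺_{2m}(q)`, `m` even (NI over `F_3`, F13c; helper643)

* `commute_orth` : in a sheet with `Z = X` the groups `s i`, `s j` of orthogonal nodes commute;
* `even_plus` : `K` finite, perfect, `Z(K)` a 2-group, `q` odd, `K / Z(K) ≅ PΩ⁺_{2m}(q)`, `m ≥ 4` even: all
  `1 ≠ z ∈ Z(K)` are `Even8`;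
* `row_plus` : the row of (F1_3c).
-/

set_option autoImplicit false
set_option linter.unusedSectionVars false

namespace Cfsg.Agent.OddHalf.NI3.K.PlusEven

open CoxeterSystem Cfsg.Agent.ChevalleyStructure.CoxeterGeom Cfsg.Agent.Tits.Roots Cfsg.Agent.Tits.Core
  Cfsg.Agent.Tits.RootComb Cfsg.Agent.Nodes.Comb Cfsg.Agent.Nodes.Reps Cfsg.Agent.Nodes.BNOf
  Cfsg.Agent.Nodes.RGDLib Cfsg.Agent.Nodes.Chart Cfsg.Agent.Nodes.Coroot
open QuadraticMap
open Matrix (SpecialLinearGroup)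
open Cfsg.Agent.LieClassical Cfsg.Agent.LieClassical.OrthCore Cfsg.Agent.LieClassical.OrthTrans
open Cfsg.Agent.LieClassical.OrthSimple Cfsg.Agent.LieClassical.OrthFinite Cfsg.Agent.LieClassical.OrthForms
open Cfsg.Agent.TitsThree Cfsg.Agent.TitsThree.Siegel Cfsg.Agent.TitsThree.SiegelGen
  Cfsg.Agent.TitsThree.WittFrame Cfsg.Agent.TitsThree.WittWeyl Cfsg.Agent.TitsThree.WBridge
  Cfsg.Agent.TitsThree.KSideO
open Cfsg.Agent.Nodes
open Cfsg.Agent.Nodes.RGDOrth
open Cfsg.Agent.OddHalf.LongSL.OrthPhi Cfsg.Agent.OddHalf.LongSL.Orth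
open Cfsg.Agent.OddHalf.NI
open Cfsg.Agent.OddHalf.NI.OmegaSheet (Sheet)
open EvenSheet (OkT)
open Subgroup (center)

universe u

theorem units_sq {K : Type*} [Field K] {x : Kˣ} (h : x ^ 2 = 1) : x = 1 ∨ x = -1 := by
  have h1 : ((x : K) - 1) * ((x : K) + 1) = 0 := by
    have h2 := congrArg (fun u : Kˣ => (u : K)) h
    simp only [Units.val_pow_eq_pow_val, Units.val_one] at h2
    linear_combination h2
  rcases mul_eq_zero.1 h1 with h1 | h1
  · left
    apply Units.ext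
    rw [Units.val_one]
    linear_combination h1
  · right
    apply Units.ext
    rw [Units.val_neg, Units.val_one]
    linear_combination h1

/-- a subgroup condition on two groups `SL₂` -/
theorem commute_of_gens {Y : Type*} [Group Y] {K K' : Type*} [Field K] [Field K']
    (s : SpecialLinearGroup (Fin 2) K →* Y) (s' : SpecialLinearGroup (Fin 2) K' →* Y)
    (h1 : ∀ x y, Commute (s (Mult.up x)) (s' (Mult.up y))) (h2 : ∀ x y, Commute (s (Mult.up x)) (s' (Mult.lo y)))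
    (h3 : ∀ x y, Commute (s (Mult.lo x)) (s' (Mult.up y))) (h4 : ∀ x y, Commute (s (Mult.lo x)) (s' (Mult.lo y)))
    (a : SpecialLinearGroup (Fin 2) K) (b : SpecialLinearGroup (Fin 2) K') : Commute (s a) (s' b) := by
  have step : ∀ g : Y, (∀ y, Commute g (s' (Mult.up y))) → (∀ y, Commute g (s' (Mult.lo y))) →
      ∀ b, Commute g (s' b) := by
    intro g hu hl b
    have h5 : (Subgroup.centralizer ({g} : Set Y)).comap s' = ⊤ := by
      apply Mult.mem_of_up_lo
      · intro y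
        rw [Subgroup.mem_comap, Subgroup.mem_centralizer_singleton_iff]
        exact (hu y).symm
      · intro y
        rw [Subgroup.mem_comap, Subgroup.mem_centralizer_singleton_iff]
        exact (hl y).symm
    have h6 : b ∈ (Subgroup.centralizer ({g} : Set Y)).comap s' := h5 ▸ Subgroup.mem_top b
    rw [Subgroup.mem_comap, Subgroup.mem_centralizer_singleton_iff] at h6
    exact Commute.symm h6
  have h5 : (Subgroup.centralizer ({s' b} : Set Y)).comap s = ⊤ := by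
    apply Mult.mem_of_up_lo
    · intro x
      rw [Subgroup.mem_comap, Subgroup.mem_centralizer_singleton_iff]
      exact step _ (h1 x) (h2 x) b
    · intro x
      rw [Subgroup.mem_comap, Subgroup.mem_centralizer_singleton_iff]
      exact step _ (h3 x) (h4 x) b
  have h6 : a ∈ (Subgroup.centralizer ({s' b} : Set Y)).comap s := h5 ▸ Subgroup.mem_top a
  rw [Subgroup.mem_comap, Subgroup.mem_centralizer_singleton_iff] at h6
  exact h6

/-- the groups of orthogonal nodes commute -/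
theorem commute_orth {L : Type*} [Group L] {p : ℕ} {F : Type} [Field F] (S : Sheet L p F) (hZ : S.Z = S.X)
    (hR : ∀ x, IsRoot S.cs S.h x → x ∈ S.R) {i j : S.I} (hij : i ≠ j) (hA : S.A i j = 0)
    (a : SpecialLinearGroup (Fin 2) (S.Fi i)) (b : SpecialLinearGroup (Fin 2) (S.Fi j)) :
    Commute (S.s i a) (S.s j b) := by
  have hi := isRoot_sr S.cs S.h i
  have hj := isRoot_sr S.cs S.h j
  have h0 : form S.cs S.h (sr j) (sr i) = 0 := by
    have h1 := two_form_cpr S.cs S.h (sr j) hi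
    rw [cpr_sr] at h1
    have h2 : pairing S.A i (sr j) = 0 := by
      rw [sr, pairing_single, mul_one]
      exact hA
    rw [h2, zero_mul] at h1
    omega
  have key : ∀ x y, IsRoot S.cs S.h x → IsRoot S.cs S.h y → form S.cs S.h y x = 0 → ∀ g ∈ S.X x, ∀ k ∈ S.X y,
      Commute g k := by
    intro x y hx hy h1 g hg k hk
    have h2 := S.cls.cent x (hR x hx) y hy h1.ge k hk g (by rw [hZ]; exact hg)
    exact h2.symm
  have mu : ∀ k c, S.s k (Mult.up c) ∈ S.X (sr k) := fun k c => S.coord.mem_up k c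
  have ml : ∀ k c, S.s k (Mult.lo c) ∈ S.X (-sr k) := fun k c => S.coord.mem_lo k c
  refine commute_of_gens _ _ (fun x y => key _ _ hi hj h0 _ (mu _ _) _ (mu _ _))
    (fun x y => key _ _ hi hj.neg ?_ _ (mu _ _) _ (ml _ _)) (fun x y => key _ _ hi.neg hj ?_ _ (ml _ _) _ (mu _ _))
    (fun x y => key _ _ hi.neg hj.neg ?_ _ (ml _ _) _ (ml _ _)) a b
  · rw [form_neg_left, h0, neg_zero]
  · rw [form_neg_right, h0, neg_zero]
  · rw [form_neg_left, form_neg_right, h0, neg_zero, neg_zero]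

section Torus

variable {F V : Type*} [Field F] [AddCommGroup V] [Module F V] {Q : QuadraticForm F V} {n : ℕ}
  (W : WFrame (PO Q) (n + 2))

/-- central elements of the torus: the nodes with `t i ≠ 1` are pairwise not adjacent -/
theorem okP (hG : Good Q) (hn : Even n) (h2 : (2 : F) ≠ 0) {t : Fin (n + 2) → Fˣ}
    (ht : OmegaPlus.th W t ∈ center (E Q)) :
    t ^ 2 = 1 ∧ ∀ i j : Fin (n + 2), t i ≠ 1 → t j ≠ 1 → i ≠ j → TypeD.A n i j = 0 := by
  have hsq := OmegaPlus.k2 W hG hn ht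
  refine ⟨hsq, ?_⟩
  obtain ⟨c, hc⟩ := scalar_of_center hG ht
  have h1 : ∀ z, ((OmegaPlus.chi z t : Fˣ) : F) = c := by
    intro z
    have h1 := OmegaPlus.th_apply W z t
    rw [hc] at h1
    have h2 : (c - ((OmegaPlus.chi z t : Fˣ) : F)) • (toFrame W).b z = 0 := by rw [sub_smul, h1, sub_self]
    exact (sub_eq_zero.1 ((smul_eq_zero.1 h2).resolve_right (WittRGD.b_ne_zero _))).symm
  obtain ⟨c', rfl⟩ : ∃ c' : Fˣ, (c' : F) = c := ⟨OmegaPlus.chi (0, true) t, h1 _⟩
  have h2 : ∀ z, OmegaPlus.chi z t = c' := fun z => Units.ext (h1 z)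
  have hc2 : c' ^ 2 = 1 := by
    have h1 := OmegaPlus.chi_false (0 : Fin (n + 2)) t
    rw [h2, h2, eq_inv_iff_mul_eq_one] at h1
    rw [pow_two, h1]
  -- the odd nodes `< n` are trivial
  have h3 : ∀ m : Fin (n + 2), (m : ℕ) < n → Odd (m : ℕ) → t m = 1 := by
    intro m hm hmo
    have h3 := OmegaPlus.prod_chi t m
    rw [Finset.prod_congr rfl fun k _ => h2 (k, true), Finset.prod_const, Fin.card_Iic, if_pos hm] at h3
    obtain ⟨k, hk⟩ := hmo
    rw [← h3, hk, show 2 * k + 1 + 1 = 2 * (k + 1) by ring, pow_mul, hc2, one_pow]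
  intro i j hi hj hij
  have hi' : ¬ ((i : ℕ) < n ∧ Odd (i : ℕ)) := fun h => hi (h3 i h.1 h.2)
  have hj' : ¬ ((j : ℕ) < n ∧ Odd (j : ℕ)) := fun h => hj (h3 j h.1 h.2)
  rw [TypeD.A_apply, if_neg hij, if_neg]
  have hne : (i : ℕ) ≠ j := fun h => hij (Fin.ext h)
  have := i.2
  have := j.2
  rw [Nat.even_iff] at hn
  rw [Nat.odd_iff] at hi' hj'
  unfold TypeD.Adj
  omega

end Torus

/-- the central parameters of the sheet -/
theorem ok_sheet (F : Type) [Field F] [Fintype F] {p : ℕ} [Fact p.Prime] [CharP F p] (hp2 : Odd p) {n : ℕ}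
    (hn1 : 1 ≤ n) (hn : Even n) (hG : Good (plusForm (n + 2) F)) (t : ∀ i, ((OmegaPlusRow.sheet F hp2 hn1).Fi i)ˣ)
    (ht : (OmegaPlusRow.sheet F hp2 hn1).θ t ∈ center ↥(E (plusForm (n + 2) F))) :
    OkT (OmegaPlusRow.sheet F hp2 hn1) t := by
  have hcom : ∀ i j : Fin (n + 2), i ≠ j → TypeD.A n i j = 0 → ∀ a b,
      Commute (OmegaPlus.s (RGDOrth.wplus (n + 2) F) i a) (OmegaPlus.s (RGDOrth.wplus (n + 2) F) j b) :=
    fun i j hij hA a b => commute_orth (OmegaPlusRow.sheet F hp2 hn1) rfl (fun x hx => hx) hij hA a b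
  have h0 : ∀ t : Fin (n + 2) → Fˣ, OmegaPlus.th (RGDOrth.wplus (n + 2) F) t ∈ center (E (plusForm (n + 2) F)) →
      ∃ J : Set (Fin (n + 2)), (∀ i ∈ J, t i = -1) ∧ (∀ i ∉ J, t i = 1) ∧ ∀ i ∈ J, ∀ j ∈ J, i ≠ j → ∀ a b,
        Commute (OmegaPlus.s (RGDOrth.wplus (n + 2) F) i a) (OmegaPlus.s (RGDOrth.wplus (n + 2) F) j b) := by
    intro t ht
    obtain ⟨hsq, h1⟩ := okP (RGDOrth.wplus (n + 2) F) hG hn (LongSL.Orth.two_ne hp2) ht
    have h2 : ∀ i : Fin (n + 2), t i ≠ 1 → t i = -1 := fun i hi => (units_sq (congrFun hsq i)).resolve_left hi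
    refine ⟨{i | t i ≠ 1}, h2, fun i hi => not_not.1 hi, ?_⟩
    intro i hi j hj hij a b
    exact hcom i j hij (h1 i j hi hj hij) a b
  exact h0 t ht

/-- **Even involutions for `PΩ⁺_{2m}(q)`, `m` even.** -/
theorem even_plus (F : Type) [Field F] [Fintype F] (ho : Odd (Fintype.card F)) {m : ℕ} (hm : 4 ≤ m)
    (hme : Even m) (N : Type u) [Group N] [Finite N]
    (hN : commutator N = ⊤) (hZ : IsPGroup 2 ↥(center N))
    (e : Nonempty (N ⧸ center N ≃* Cfsg.POmega F (Cfsg.quadFormPlus m F))) (z : N) (hz : z ∈ center N)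
    (hz1 : z ≠ 1) : Even8 z := by
  obtain ⟨p, hpc⟩ := CharP.exists F
  have hp : Fact p.Prime := ⟨CharP.char_is_prime F p⟩
  have hpo : Odd p := by
    rcases hp.out.eq_two_or_odd' with h | h
    · subst h
      exfalso
      obtain ⟨k, -, hk⟩ := FiniteField.card F 2
      rw [hk, Nat.odd_pow_iff k.ne_zero] at ho
      exact absurd ho (by decide)
    · exact h
  have hp2 : p ≠ 2 := by rintro rfl; exact absurd hpo (by decide)
  obtain ⟨n, rfl⟩ : ∃ n, m = n + 2 := ⟨m - 2, by omega⟩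
  obtain ⟨e⟩ := e
  rw [← coe_plusForm] at e
  have hG : Good (plusForm (n + 2) F) := OmegaPlusRow.good_plus F (by omega)
  exact EvenSheet.even_POmega hG hp.out hp2 (OmegaPlusRow.sheet F hpo (n := n) (by omega))
    (ok_sheet F hpo (by omega) (by rw [Nat.even_iff] at hme ⊢; omega) hG) hN hZ e hz hz1

/-- **(F1_3c) for `PΩ⁺_{2m}(3)`, `m` even.** -/
theorem row_plus {K : Type u} [Group K] [Finite K] (hq : IsQuasisimple K) (h2 : IsPGroup 2 ↥(center K))
    (hZ : center K ≠ ⊥) {F : Type} [Field F] [Fintype F] (hF : Fintype.card F = 3) {m : ℕ} (hm : 4 ≤ m)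
    (hme : Even m) (e : Nonempty (K ⧸ center K ≃* POmega F (quadFormPlus m F))) : HasYF K := by
  have hr : LieOddFam.Rk (K ⧸ center K) 3 := Or.inr (Or.inr (Or.inr (Or.inr (Or.inl ⟨F, _, _, m, hF, hm, e⟩))))
  obtain ⟨⟨z, hz⟩, hz1⟩ := (Subgroup.ne_bot_iff_exists_ne_one (H := center K)).1 hZ
  exact hasYF_of_block (MonoidHom.id K) (fun x => ⟨x, rfl⟩) (by rw [MonoidHom.ker_id]; exact bot_le)
    (MonoidHom.id K) hq hz (even_plus F (by rw [hF]; decide) hm hme K hq.1.commutator_eq_top h2 e z hz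
      fun h => hz1 (Subtype.ext h)) hr h2 (fun g _ a => ⟨g * a * g⁻¹, rfl⟩) (fun _ _ h => h)

end Cfsg.Agent.OddHalf.NI3.K.PlusEven
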