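import Cfsg.Agent.OddHalf.NI3.K.EvenSheet
import Cfsg.Agent.OddHalf.NI.OmegaRows

/-!
# Even central involutions of the covers of orthogonal groups (NI over `F_3`, F13 (R8); helper643)

`K` finite, perfect, `Z(K)` a 2-group, `q` odd:
* `even_odd` : `K / Z(K) ≅ PΩ_{2m+1}(q)`, `m ≥ 3`: all `1 ≠ z ∈ Z(K)` are `Even8`;
* `even_minus` : `K / Z(K) ≅ PΩ⁻_{2m+2}(q)`, `m ≥ 3` odd: the same.
-/

set_option autoImplicit false
set_option linter.unusedSectionVars false
set_option linter.dupNamespace false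

namespace Cfsg.Agent.OddHalf.NI3.K.SmallOrth

open CoxeterSystem Cfsg.Agent.ChevalleyStructure.CoxeterGeom Cfsg.Agent.Tits.Roots Cfsg.Agent.Tits.Core
  Cfsg.Agent.Tits.RootComb Cfsg.Agent.Nodes.Comb Cfsg.Agent.Nodes.Reps Cfsg.Agent.Nodes.BNOf
  Cfsg.Agent.Nodes.RGDLib Cfsg.Agent.Nodes.Chart
open QuadraticMap
open Matrix (SpecialLinearGroup)
open Cfsg.Agent.LieClassical Cfsg.Agent.LieClassical.OrthCore Cfsg.Agent.LieClassical.OrthTrans
open Cfsg.Agent.LieClassical.OrthSimple Cfsg.Agent.LieClassical.OrthFinite Cfsg.Agent.LieClassical.OrthForms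
open Cfsg.Agent.TitsThree Cfsg.Agent.TitsThree.Siegel Cfsg.Agent.TitsThree.SiegelGen
  Cfsg.Agent.TitsThree.WittFrame Cfsg.Agent.TitsThree.WittWeyl Cfsg.Agent.TitsThree.WBridge
  Cfsg.Agent.TitsThree.KSideO
open Cfsg.Agent.Nodes
open Cfsg.Agent.Nodes.WittRoot (Amb XG ZG PG PG_ne PG_self Mono XG_swap rg rg_eq)
open Cfsg.Agent.Nodes.WittRGD (Tor mem_Tor nn nn_mem)
open Cfsg.Agent.Nodes.TypeC Cfsg.Agent.Nodes.TypeCForm Cfsg.Agent.Nodes.KindBC
open Cfsg.Agent.OddHalf.LongSL.OrthPhi Cfsg.Agent.OddHalf.LongSL.Orth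
open Cfsg.Agent.OddHalf.NI Cfsg.Agent.OddHalf.NI.OmegaSheet Cfsg.Agent.OddHalf.NI.OmegaNodes
  Cfsg.Agent.OddHalf.NI.OmegaLast Cfsg.Agent.OddHalf.NI.OmegaTorus Cfsg.Agent.OddHalf.NI.OmegaRows
open EvenSheet (OkT)

universe u

theorem units_sq {K : Type*} [Field K] {x : Kˣ} (h : x ^ 2 = 1) : x = 1 ∨ x = -1 := by
  have h1 : ((x : K) - 1) * ((x : K) + 1) = 0 := by
    have h2 := congrArg (fun u : Kˣ => (u : K)) h
    simp only [Units.val_pow_eq_pow_val, Units.val_one] at h2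
    linear_combination h2
  rcases mul_eq_zero.1 h1 with h1 | h1
  · left
    apply Units.ext
    rw [Units.val_one]
    linear_combination h1
  · right
    apply Units.ext
    rw [Units.val_neg, Units.val_one]
    linear_combination h1

section Nodes

variable {F V : Type} [Field F] [AddCommGroup V] [Module F V] {Q : QuadraticForm F V} {m : ℕ}
  {W : WFrame (PO Q) m} {B : Type} [CommGroup B] {D : (Fin m → Fˣ) × B →* (V ≃ₗ[F] V)} {emb : Fˣ → B}
  {P : Fˣ → Prop} (N : ∀ i, Node W D emb P i) (hA : Amb (toFrame W) (E Q))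

/-- the coordinates of a central element of the torus -/
theorem coordsT (hG : Good Q) (hm : 0 < m) (hD : Scal D emb) {t : ∀ i, ((N i).K)ˣ}
    (ht : theta N hA t ∈ Subgroup.center ↥(E Q)) : ∃ ε : Fˣ, ε ^ 2 = 1 ∧ (∀ i, (N i).e (t i) = ε ^ ((i : ℕ) + 1)) ∧
      (∀ i : Fin m, ¬ (i : ℕ) + 1 < m → (N i).w (t i) = emb ε) ∧
      ∀ v, ((theta N hA t : ↥(E Q)) : V ≃ₗ[F] V) v = (ε : F) • v := by
  obtain ⟨c, hc⟩ := scalar_of_center hG ht
  have hb := WittRGD.b_ne_zero (Fr := toFrame W) (⟨0, hm⟩, true)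
  have hc0 : c ≠ 0 := by
    rintro rfl
    have h1 := hc ((toFrame W).b (⟨0, hm⟩, true))
    rw [zero_smul] at h1
    exact hb (((theta N hA t : ↥(E Q)) : V ≃ₗ[F] V).map_eq_zero_iff.1 h1)
  obtain ⟨ε, rfl⟩ : ∃ ε : Fˣ, (ε : F) = c := ⟨Units.mk0 c hc0, rfl⟩
  have h := hc
  rw [coe_theta] at h
  obtain ⟨h2, hcj, hw⟩ := hD _ _ ε h
  refine ⟨ε, h2, coords (x := fun i => (N i).e (t i)) hcj, ?_, hc⟩
  intro i hi
  rw [← hw]
  change _ = ∏ j, (N j).w (t j)
  rw [Finset.prod_eq_single i]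
  · intro j _ hj
    refine (N j).w1 ?_ _
    have h4 : (j : ℕ) ≠ i := fun h => hj (Fin.ext h)
    have := i.2
    have := j.2
    omega
  · intro h
    exact absurd (Finset.mem_univ _) h

end Nodes

/-! ### The odd form -/

section Odd

variable {F : Type} [Field F] [Finite F] (m : ℕ)

theorem nodeO_e {i : Fin m} (h : (i : ℕ) + 1 < m) (t : ((nodeO (F := F) m i).K)ˣ)
    (ht : (nodeO (F := F) m i).e t = 1) : t = 1 := by
  revert t ht
  have h1 : nodeO (F := F) m i = inner h fun t => Phi_dgO m (fun e => by simp [Fin.ext_iff] at e) t := dif_pos h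
  rw [h1]
  exact fun t ht => ht

theorem nodeO_w {i : Fin m} (h : ¬ (i : ℕ) + 1 < m) (t : ((nodeO (F := F) m i).K)ˣ) :
    (nodeO (F := F) m i).w t = 1 := by
  revert t
  have h1 : nodeO (F := F) m i = lastO m i h := dif_neg h
  rw [h1]
  exact fun t => rfl

end Odd

section Minus

variable {F : Type} [Field F] [Finite F] (m : ℕ) (a b : F)
  (hab : ∀ z₁ z₂ : F, z₁ ^ 2 + a * z₁ * z₂ + b * z₂ ^ 2 = 0 → z₁ = 0 ∧ z₂ = 0)

theorem nodeM_e {i : Fin m} (h : (i : ℕ) + 1 < m) (t : ((nodeM m a b hab i).K)ˣ)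
    (ht : (nodeM m a b hab i).e t = 1) : t = 1 := by
  revert t ht
  have h1 : nodeM m a b hab i = inner h fun t => Phi_dgM m a b (fun e => by simp [Fin.ext_iff] at e) hab t :=
    dif_pos h
  rw [h1]
  exact fun t ht => ht

theorem nrm_sq (t : (EE a b)ˣ) (ht : t = 1 ∨ t = -1) : nrm a b t = 1 := by
  rcases ht with rfl | rfl
  · exact map_one _
  · apply Units.ext
    show QuadraticAlgebra.norm ((-1 : (EE a b)ˣ) : EE a b) = 1
    have hre : (-(1 : EE a b)).re = -1 := rfl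
    have him : (-(1 : EE a b)).im = 0 := neg_zero
    rw [Units.val_neg, Units.val_one, QuadraticAlgebra.norm_def, hre, him]
    ring

theorem nodeM_last {i : Fin m} (h : ¬ (i : ℕ) + 1 < m) (t : ((nodeM m a b hab i).K)ˣ) (ht : t ^ 2 = 1) :
    (nodeM m a b hab i).e t = 1 := by
  revert t ht
  have h1 : nodeM m a b hab i = lastM m a b hab i h := dif_neg h
  rw [h1]
  intro t ht
  exact nrm_sq a b t (units_sq ht)

end Minus

theorem okO {F : Type} [Field F] [Finite F] {m : ℕ} (hA : Amb (toFrame (wodd m F)) (E (oddForm m F)))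
    (hG : Good (oddForm m F)) (hm0 : 0 < m) {t : ∀ i, ((nodeO (F := F) m i).K)ˣ}
    (ht : theta (nodeO m) hA t ∈ Subgroup.center ↥(E (oddForm m F))) :
    t ^ 2 = 1 ∧ ∀ i : Fin m, (i : ℕ) + 1 < m → t i = 1 := by
  obtain ⟨ε, -, he, hw, -⟩ := coordsT (nodeO m) hA hG hm0 (scalO m hm0) ht
  have hε : ε = 1 := by
    have h3 : ¬ ((⟨m - 1, by omega⟩ : Fin m) : ℕ) + 1 < m := by simp only; omega
    have h4 := hw ⟨m - 1, by omega⟩ h3
    rw [nodeO_w m h3] at h4
    exact h4.symm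
  refine ⟨k2_of (nodeO m) hA hG hm0 (scalO m hm0) (fun _ => trivial) t ht, fun i hi => ?_⟩
  exact nodeO_e m hi (t i) ((he i).trans (by rw [hε, one_pow]))

theorem okM {F : Type} [Field F] [Finite F] {m : ℕ} {a b : F}
    {hab : ∀ z₁ z₂ : F, z₁ ^ 2 + a * z₁ * z₂ + b * z₂ ^ 2 = 0 → z₁ = 0 ∧ z₂ = 0}
    (hA : Amb (toFrame (wminus m F a b hab)) (E (minusForm m F a b)))
    (hG : Good (minusForm m F a b)) (hm0 : 0 < m) (hmo : Odd m) {t : ∀ i, ((nodeM m a b hab i).K)ˣ}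
    (ht : theta (nodeM m a b hab) hA t ∈ Subgroup.center ↥(E (minusForm m F a b))) :
    t ^ 2 = 1 ∧ ∀ i : Fin m, (i : ℕ) + 1 < m → t i = 1 := by
  have hsq : t ^ 2 = 1 := k2_of (nodeM m a b hab) hA hG hm0 (scalM m a b hm0) (fun _ => Or.inr hmo) t ht
  obtain ⟨ε, h3, he, -, -⟩ := coordsT (nodeM m a b hab) hA hG hm0 (scalM m a b hm0) ht
  have hε : ε = 1 := by
    have h4 : ¬ ((⟨m - 1, by omega⟩ : Fin m) : ℕ) + 1 < m := by simp only; omega
    have h5 := he ⟨m - 1, by omega⟩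
    rw [nodeM_last m a b hab h4 _ (congrFun hsq _)] at h5
    have h6 : ((⟨m - 1, by omega⟩ : Fin m) : ℕ) + 1 = m := by simp only; omega
    rw [h6] at h5
    obtain ⟨k, hk⟩ := hmo
    rw [hk, pow_succ, pow_mul, h3, one_pow, one_mul] at h5
    exact h5.symm
  exact ⟨hsq, fun i hi => nodeM_e m a b hab hi (t i) ((he i).trans (by rw [hε, one_pow]))⟩

/-! ### The rows -/

section Rows

open Subgroup

/-- only the last node occurs -/
theorem okT_last {L : Type*} [Group L] {p : ℕ} {F : Type} [Field F] {S : Sheet L p F}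
    {t : ∀ i, (S.Fi i)ˣ} (l : S.I → Prop) (hl : ∀ i j, l i → l j → i = j) (h1 : ∀ i, ¬ l i → t i = 1)
    (h2 : t ^ 2 = 1) : OkT S t := by
  refine ⟨{i | t i ≠ 1}, fun i hi => ?_, fun i hi => ?_, fun i hi j hj hij => ?_⟩
  · have h3 : t i ^ 2 = 1 := congrFun h2 i
    exact (units_sq h3).resolve_left hi
  · by_contra h
    exact hi h
  · exfalso
    apply hij
    refine hl i j ?_ ?_
    · by_contra h
      exact hi (h1 i h)
    · by_contra h
      exact hj (h1 j h)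

/-- **Even involutions for `PΩ_{2m+1}(q)`.** -/
theorem even_odd (F : Type) [Field F] [Fintype F] (m : ℕ) (ho : Odd (Fintype.card F))
    (hm : 3 ≤ m) (N : Type u) [Group N] [Finite N] (hN : commutator N = ⊤) (hZ : IsPGroup 2 ↥(center N))
    (e : Nonempty (N ⧸ center N ≃* Cfsg.POmega F (Cfsg.quadFormOdd m F))) (z : N) (hz : z ∈ center N)
    (hz1 : z ≠ 1) : Even8 z := by
  obtain ⟨p, hp, hc, hp2⟩ := exists_char ho
  have : Fact p.Prime := ⟨hp⟩
  obtain ⟨e⟩ := e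
  rw [← coe_oddForm] at e
  have h2 : (2 : F) ≠ 0 := two_ne hp2
  have hG : Good (oddForm m F) := by
    apply good_of_finite (nondeg_oddForm m F h2)
    rw [Module.finrank_fintype_fun_eq_card, Fintype.card_sum, Fintype.card_sum, Fintype.card_fin,
      Fintype.card_unit]
    omega
  have hA := RGDOrth.amb (wodd m F) h2
  obtain ⟨p0, hp0⟩ : ∃ p0 : (toFrame (wodd m F)).Adm, p0.c ≠ 0 := by
    refine ⟨(embOdd m F).ngt ⟨1, -1 ^ 2, rfl⟩, ?_⟩
    change (1 : F)⁻¹ * (-1 ^ 2) ≠ 0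
    simp
  have hm0 : 0 < m := by omega
  refine EvenSheet.even_POmega hG hp (fun h => by rw [h] at hp2; exact absurd hp2 (by decide))
    (sheet (nodeO m) hA hp2 hm hp0 (scalO m hm0) trivial) ?_ hN hZ e hz hz1
  intro t ht
  change theta (nodeO m) hA t ∈ Subgroup.center _ at ht
  obtain ⟨hsq, key⟩ := okO hA hG hm0 ht
  have key2 : ∀ i j : Fin m, ¬ (i : ℕ) + 1 < m → ¬ (j : ℕ) + 1 < m → i = j := fun i j hi hj => by
    have := i.2
    have := j.2
    exact Fin.ext (by omega)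
  exact okT_last (fun i : Fin m => ¬ (i : ℕ) + 1 < m) key2 (fun i hi => key i (not_not.1 hi)) hsq

/-- **Even involutions for `PΩ⁻_{2m+2}(q)`**, `m` odd. -/
theorem even_minus (F : Type) [Field F] [Fintype F] (m : ℕ) (a b : F) (ho : Odd (Fintype.card F))
    (hm : 3 ≤ m) (hmo : Odd m)
    (hab : ∀ z₁ z₂ : F, z₁ ^ 2 + a * z₁ * z₂ + b * z₂ ^ 2 = 0 → z₁ = 0 ∧ z₂ = 0)
    (N : Type u) [Group N] [Finite N] (hN : commutator N = ⊤) (hZ : IsPGroup 2 ↥(center N))
    (e : Nonempty (N ⧸ center N ≃* Cfsg.POmega F (Cfsg.quadFormMinus m F a b))) (z : N) (hz : z ∈ center N)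
    (hz1 : z ≠ 1) : Even8 z := by
  obtain ⟨p, hp, hc, hp2⟩ := exists_char ho
  have : Fact p.Prime := ⟨hp⟩
  obtain ⟨e⟩ := e
  rw [← coe_minusForm] at e
  have h2 : (2 : F) ≠ 0 := two_ne hp2
  have hcard : Fintype.card ((Fin m ⊕ Fin m) ⊕ Fin 2) = 2 * m + 2 := by
    rw [Fintype.card_sum, Fintype.card_sum, Fintype.card_fin, Fintype.card_fin]
    omega
  have hG : Good (minusForm m F a b) := by
    apply good_of_finite (nondeg_minusForm m F a b hab)
    rw [Module.finrank_fintype_fun_eq_card, hcard]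
    omega
  have hA := RGDOrth.amb (wminus m F a b hab) h2
  obtain ⟨p0, hp0⟩ : ∃ p0 : (toFrame (wminus m F a b hab)).Adm, p0.c ≠ 0 := by
    refine ⟨(embMinus m F a b hab).ngt ⟨(1, 0), -StdData.nf a b (1, 0), rfl⟩, ?_⟩
    change (1 : F)⁻¹ * (-StdData.nf a b (1, 0)) ≠ 0
    simp [StdData.nf]
  have hm0 : 0 < m := by omega
  refine EvenSheet.even_POmega hG hp (fun h => by rw [h] at hp2; exact absurd hp2 (by decide))
    (sheet (nodeM m a b hab) hA hp2 hm hp0 (scalM m a b hm0) (Or.inl rfl)) ?_ hN hZ e hz hz1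
  intro t ht
  change theta (nodeM m a b hab) hA t ∈ Subgroup.center _ at ht
  obtain ⟨hsq, key⟩ := okM hA hG hm0 hmo ht
  have key2 : ∀ i j : Fin m, ¬ (i : ℕ) + 1 < m → ¬ (j : ℕ) + 1 < m → i = j := fun i j hi hj => by
    have := i.2
    have := j.2
    exact Fin.ext (by omega)
  exact okT_last (fun i : Fin m => ¬ (i : ℕ) + 1 < m) key2 (fun i hi => key i (not_not.1 hi)) hsq

end Rows

end Cfsg.Agent.OddHalf.NI3.K.SmallOrth
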