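import Cfsg.Agent.OddHalf.NI3.K.OrthY
import Cfsg.Agent.OddHalf.NI3.K.Blk
import Cfsg.Agent.OddHalf.NI3.K.SmallOrth
import Cfsg.Agent.OddHalf.NI3.K.PlusEven
import Cfsg.Agent.OddHalf.NI.OmegaPlusRow

/-!
# The covers of the orthogonal groups over `F_3` have `(y, M)` (NI over `F_3`, F13c; helper596)

`K` quasisimple, `Z(K)` a nontrivial 2-group, `K / Z(K) ≅ PΩ(V)`, `|F| = 3`:
* `hasY_of_center` : an even central involution gives `HasY K` (`M = K`);
* `hasYF_of_pi` : a surjection `Ω(V) → K` with central kernel, `V` containing a hyperbolic subspace of dimension 8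
  properly, gives `HasYF K` (`y = -1_8`, `M = Ω₈⁺(3)`);
* `hasY_of_sheet` : one of the two holds;
* `row_odd`, `row_plus`, `row_minus` : the rows of `F13c`.
-/

set_option autoImplicit false
set_option linter.unusedSectionVars false

namespace Cfsg.Agent.OddHalf.NI3.K.CovOrth

open QuadraticMap Cfsg
open Matrix (SpecialLinearGroup)
open Cfsg.Agent.LieClassical Cfsg.Agent.LieClassical.OrthCore Cfsg.Agent.LieClassical.OrthForms
  Cfsg.Agent.LieClassical.OrthTrans Cfsg.Agent.LieClassical.OrthSimple Cfsg.Agent.LieClassical.OrthFinite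
open Cfsg.Agent.TitsThree Cfsg.Agent.TitsThree.Siegel Cfsg.Agent.TitsThree.SiegelGen
  Cfsg.Agent.TitsThree.WittFrame Cfsg.Agent.TitsThree.KSideO Cfsg.Agent.TitsThree.WBridge
open Cfsg.Agent.Nodes Cfsg.Agent.Nodes.RGDOrth
open Cfsg.Agent.SignalizersComponents
open Cfsg.Agent.OddHalf.NI3.K.OrthEmb Cfsg.Agent.OddHalf.NI3.K.OrthEmb.Emb Cfsg.Agent.OddHalf.NI3.K.OrthFrame
open Cfsg.Agent.OddHalf.NI3.K.OrthY (hE isQuasisimple_E center_two compIn_of)
open Cfsg.Agent.OddHalf.NI (Even8 CompIn)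
open Cfsg.Agent.OddHalf.NI
open Cfsg.Agent.OddHalf.NI.OmegaSheet (Sheet ker_two center_le_T)
open Cfsg.Agent.OddHalf.NI3.K.EvenSheet (OkT)
open Cfsg.Agent.OddHalf.LieOddFam (Rk FPlus FOdd FMinus rk_congr)

universe u

/-! ### An even central involution -/

/-- **`M = K`.** -/
theorem hasY_of_center {K : Type*} [Group K] (hq : IsQuasisimple K) (hr : Rk (K ⧸ Subgroup.center K) 3) {z : K}
    (hz : z ∈ Subgroup.center K) (h8 : Even8 z) : HasY K := by
  have hle : (⊤ : Subgroup K) ≤ Subgroup.centralizer ({z} : Set K) := by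
    intro g _
    rw [Subgroup.mem_centralizer_singleton_iff]
    exact Subgroup.mem_center_iff.1 hz g
  let e : K ≃* ↥(⊤ : Subgroup K) := Subgroup.topEquiv.symm
  have hz1 : z ≠ 1 := by
    intro h
    have h1 := h8.1
    rw [h, orderOf_one] at h1
    omega
  refine ⟨z, ⊤, trivial, h8.1, ⟨hle, ?_, ?_⟩, Or.inl ⟨rk_congr (qCongr e) hr, ?_⟩⟩
  · have h1 : (⊤ : Subgroup K).subgroupOf (Subgroup.centralizer ({z} : Set K)) = ⊤ := Subgroup.subgroupOf_eq_top.2 le_top
    rw [h1]
    exact (inferInstance : (⊤ : Subgroup ↥(Subgroup.centralizer ({z} : Set K))).Normal).isSubnormal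
  · exact Components.isQuasisimple_of_mulEquiv (e.trans (Subgroup.subgroupOfEquivOfLe hle).symm) hq
  · exact h8.map e.toMonoidHom (fun h => hz1 (congrArg Subtype.val h))

/-! ### A surjection from `Ω(V)` -/

section Pi

variable {ι : Type} [Fintype ι] [DecidableEq ι] {F : Type} [Field F] [Fintype F] {Q : QuadraticForm F (ι → F)}

omit [Fintype F] in
theorem eq_one_of_center (hG : Good Q) {Q₁ : QuadraticForm F (Fin 4 ⊕ Fin 4 → F)} (e : Emb Q₁ Q)
    (hd : 8 < Fintype.card ι) {g : ↥(E Q₁)} (hg : hE e g ∈ Subgroup.center ↥(E Q)) : g = 1 := by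
  obtain ⟨c, hc⟩ := scalar_of_center hG hg
  have h1 : Module.finrank F (Fin 4 ⊕ Fin 4 → F) < Module.finrank F (ι → F) := by
    rw [Module.finrank_fintype_fun_eq_card, Module.finrank_fintype_fun_eq_card, Fintype.card_sum, Fintype.card_fin]
    omega
  obtain ⟨v, hv, hv0⟩ := (Submodule.ne_bot_iff _).1 (LinearMap.ker_ne_bot_of_finrank_lt (f := e.c) h1)
  have hcv : e.c v = 0 := hv
  have h2 : e.hom g.1 v = c • v := hc v
  rw [hom_apply, hcv, map_zero, sub_zero, map_zero, add_zero] at h2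
  have h3 : c = 1 := by
    have h4 : (1 - c) • v = 0 := by rw [sub_smul, one_smul, ← h2, sub_self]
    have h5 := (smul_eq_zero.1 h4).resolve_right hv0
    exact (sub_eq_zero.1 h5).symm
  apply Subtype.ext
  apply e.hom_injective
  rw [Subgroup.coe_one, map_one]
  ext1 w
  have h6 : e.hom g.1 w = c • w := hc w
  rw [h6, h3, one_smul]
  rfl

/-- **`y = -1_8`, `M = Ω₈⁺(3)` for the central quotients of `Ω(V)`.** -/
theorem hasYF_of_pi {K : Type*} [Group K] (π : ↥(E Q) →* K) (hπs : Function.Surjective π)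
    (hπk : ∀ h, π h = 1 → h ∈ Subgroup.center ↥(E Q)) (hG : Good Q) (e : Emb (plusForm 4 F) Q)
    (h3 : Fintype.card F = 3) (hd : 8 < Fintype.card ι) : HasYF K := by
  have h2 : (2 : F) ≠ 0 := OrthY.two_ne h3
  have hG₁ : Good (plusForm 4 F) := by
    apply good_of_finite (nondeg_plusForm 4 F)
    rw [Module.finrank_fintype_fun_eq_card, Fintype.card_sum, Fintype.card_fin]
    omega
  have hinj : Function.Injective (π.comp (hE e)) := by
    rw [injective_iff_map_eq_one]
    intro g hg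
    exact eq_one_of_center hG e hd (hπk _ hg)
  have hn : nE F ∈ Subgroup.center ↥(E (plusForm 4 F)) := by
    rw [Subgroup.mem_center_iff]
    exact fun g => (nE_comm F g).symm
  refine hasYF_of_block π hπs (fun h hh => hπk h hh) (hE e) (isQuasisimple_E hG₁) hn (even8 F h3) ?_ (center_two hG₁ h3)
    ?_ hinj
  · have e2 : (↥(E (plusForm 4 F)) ⧸ Subgroup.center ↥(E (plusForm 4 F))) ≃* Cfsg.POmega F ⇑(plusForm 4 F) :=
      qCongr (toOmega hG₁)
    have hp : FPlus (↥(E (plusForm 4 F)) ⧸ Subgroup.center ↥(E (plusForm 4 F))) 3 :=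
      ⟨F, inferInstance, inferInstance, 4, h3, le_rfl, ⟨e2.trans (by rw [coe_plusForm])⟩⟩
    unfold Rk
    tauto
  · intro h hh a
    obtain ⟨g₁, hg₁, hc⟩ := e.exists_conj h2 (E_le_O h.2) (congrArg Subtype.val hh)
    exact ⟨⟨g₁ * a.1 * g₁⁻¹, conj_mem_E hg₁ a.2⟩, (Subtype.ext (hc a.1)).symm⟩

/-! ### The dichotomy -/

/-- **The rows of `F13c`** for `V` containing a hyperbolic subspace of dimension 8 properly. -/
theorem hasY_of_sheet (hG : Good Q) {p : ℕ} (hp : p.Prime) (hp2 : p ≠ 2) (S : Sheet ↥(E Q) p F)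
    (k1 : ∀ t, S.θ t = 1 → OkT S t) (em : Emb (plusForm 4 F) Q) (h3 : Fintype.card F = 3)
    (hd : 8 < Fintype.card ι) {K : Type*} [Group K] [Finite K] (hq : IsQuasisimple K)
    (hZ : IsPGroup 2 ↥(Subgroup.center K)) (hr : Rk (K ⧸ Subgroup.center K) 3)
    (e : K ⧸ Subgroup.center K ≃* Cfsg.POmega F ⇑Q) : HasY K := by
  -- the two maps to `PΩ`
  obtain ⟨f, hf⟩ : ∃ f : K →* Cfsg.POmega F ⇑Q, f = e.toMonoidHom.comp (QuotientGroup.mk' _) := ⟨_, rfl⟩
  have fs : Function.Surjective f := by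
    rw [hf]
    exact e.surjective.comp (QuotientGroup.mk'_surjective _)
  have fk : f.ker = Subgroup.center K := by
    rw [hf]
    ext x
    rw [MonoidHom.mem_ker]
    change e (QuotientGroup.mk x) = 1 ↔ _
    rw [map_eq_one_iff e e.injective, QuotientGroup.eq_one_iff]
  have gs := toPOmega_surjective hG
  have gk : (toPOmega hG).ker ≤ Subgroup.center ↥(E Q) := fun x hx => center_of_toPOmega hG hx
  have hN := hq.1.commutator_eq_top
  have hE' : commutator ↥(E Q) = ⊤ := by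
    apply Subgroup.map_injective (E Q).subtype_injective
    rw [commutator_def, Subgroup.map_commutator, ← MonoidHom.range_eq_map, Subgroup.range_subtype]
    exact hG.E_perfect
  have hfin : Finite ((ι → F) ≃ₗ[F] (ι → F)) :=
    Finite.of_injective (fun g : (ι → F) ≃ₗ[F] (ι → F) => (g : (ι → F) → (ι → F))) DFunLike.coe_injective
  have hM := Fibre.perfect (f := f) (g := toPOmega hG) fs gs fk.le gk hN
  have hφ := Fibre.toN_surjective (f := f) (g := toPOmega hG) gs hN
  have hα := Fibre.toL_surjective (f := f) (g := toPOmega hG) fs hE'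
  have hαc := Fibre.ker_toL (f := f) (g := toPOmega hG) fk.le gk
  have hφc := Fibre.ker_toN (f := f) (g := toPOmega hG) fk.le gk
  have hk2 : IsPGroup 2 (Fibre.toX f (toPOmega hG)).ker := Fibre.isPGroup_ker (by rw [fk]; exact hZ) (ker_two hG)
  have hα2 : IsPGroup 2 (Fibre.toL f (toPOmega hG)).ker := by
    refine hk2.to_le fun m hm => ?_
    rw [MonoidHom.mem_ker]
    change f (Fibre.toN f (toPOmega hG) m) = 1
    rw [Fibre.comm, MonoidHom.mem_ker.1 hm, map_one]
  by_cases h : ∀ m, Fibre.toL f (toPOmega hG) m = 1 → Fibre.toN f (toPOmega hG) m = 1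
  · -- `Ω(V) → K`
    refine (hasYF_of_pi ((Fibre.toL f (toPOmega hG)).liftOfSurjective hα
      ⟨Fibre.toN f (toPOmega hG), fun m hm => MonoidHom.mem_ker.2 (h m (MonoidHom.mem_ker.1 hm))⟩) ?_ ?_ hG em h3
      hd).hasY
    · intro k
      obtain ⟨m, rfl⟩ := hφ k
      exact ⟨Fibre.toL f (toPOmega hG) m, MonoidHom.liftOfRightInverse_comp_apply _ _ _ _ _⟩
    · intro x hx
      obtain ⟨m, rfl⟩ := hα x
      have h1 : Fibre.toN f (toPOmega hG) m = 1 := by
        refine Eq.trans (Eq.symm ?_) hx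
        exact MonoidHom.liftOfRightInverse_comp_apply _ _ _ _ _
      rw [Subgroup.mem_center_iff]
      intro y
      obtain ⟨w, rfl⟩ := hα y
      rw [← map_mul, ← map_mul, Subgroup.mem_center_iff.1 (hφc (MonoidHom.mem_ker.2 h1)) w]
  · -- an even central involution
    push Not at h
    obtain ⟨m, hm, h1⟩ := h
    have h8 := EvenSheet.even_of_T S hp hp2 hα hαc hα2 hM (Fibre.toN f (toPOmega hG)) (m := m)
      (by rw [hm]; exact one_mem _) (fun t ht => k1 t (ht.trans hm)) h1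
    refine hasY_of_center hq hr ?_ h8
    rw [Subgroup.mem_center_iff]
    intro y
    obtain ⟨w, rfl⟩ := hφ y
    rw [← map_mul, ← map_mul, Subgroup.mem_center_iff.1 (hαc (MonoidHom.mem_ker.2 hm)) w]

end Pi

/-! ### The two end nodes of type `D` commute -/

section Comm

variable {F V : Type*} [Field F] [AddCommGroup V] [Module F V] {Q : QuadraticForm F V} {m : ℕ}
  (W : WFrame (PO Q) m) {x y : Fin m × Bool}

open LongSL.OrthPhi LongSL.Orth in
theorem Phi_comm_neg (hxy : x.1 ≠ y.1) (hyx : (neg y).1 ≠ x.1) (a b : SpecialLinearGroup (Fin 2) F) :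
    Commute (Phi (toFrame W) hxy a) (Phi (toFrame W) hyx b) := by
  have key : ∀ u : V ≃ₗ[F] V, (∀ s, Commute ((toFrame W).X x (neg y) s) u) →
      (∀ s, Commute ((toFrame W).X (neg x) y s) u) → Commute u (Phi (toFrame W) hyx b) := by
    intro u h1 h2
    have h3 : (Subgroup.centralizer ({u} : Set (V ≃ₗ[F] V))).comap (Phi (toFrame W) hyx) = ⊤ := by
      apply NI.Mult.mem_of_up_lo
      · intro t
        rw [Subgroup.mem_comap, Subgroup.mem_centralizer_singleton_iff]
        have h4 : Phi (toFrame W) hyx (NI.Mult.up t) = (toFrame W).X (neg y) x t := Phi_u (toFrame W) hyx t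
        rw [h4, Frame.X_swap (toFrame W) hyx]
        exact h1 _
      · intro t
        rw [Subgroup.mem_comap, Subgroup.mem_centralizer_singleton_iff]
        have h4 : Phi (toFrame W) hyx (NI.Mult.lo t) = (toFrame W).X (neg x) (neg (neg y)) t :=
          Phi_l (toFrame W) hyx t
        rw [h4, neg_neg]
        exact h2 _
    have h5 : b ∈ (Subgroup.centralizer ({u} : Set (V ≃ₗ[F] V))).comap (Phi (toFrame W) hyx) := h3 ▸ Subgroup.mem_top b
    rw [Subgroup.mem_comap, Subgroup.mem_centralizer_singleton_iff] at h5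
    exact h5.symm
  have h3 : (Subgroup.centralizer ({Phi (toFrame W) hyx b} : Set (V ≃ₗ[F] V))).comap (Phi (toFrame W) hxy) = ⊤ := by
    apply NI.Mult.mem_of_up_lo
    · intro t
      rw [Subgroup.mem_comap, Subgroup.mem_centralizer_singleton_iff]
      have h4 : Phi (toFrame W) hxy (NI.Mult.up t) = (toFrame W).X x y t := Phi_u (toFrame W) hxy t
      rw [h4]
      exact key _ (fun s => (comm_X_ny W hxy s).1 t) fun s => (comm_X_nx W hxy s).1 t
    · intro t
      rw [Subgroup.mem_comap, Subgroup.mem_centralizer_singleton_iff]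
      have h4 : Phi (toFrame W) hxy (NI.Mult.lo t) = (toFrame W).X (neg y) (neg x) t := Phi_l (toFrame W) hxy t
      rw [h4]
      exact key _ (fun s => (comm_X_ny W hxy s).2 t) fun s => (comm_X_nx W hxy s).2 t
  have h5 : a ∈ (Subgroup.centralizer ({Phi (toFrame W) hyx b} : Set (V ≃ₗ[F] V))).comap (Phi (toFrame W) hxy) :=
    h3 ▸ Subgroup.mem_top a
  rw [Subgroup.mem_comap, Subgroup.mem_centralizer_singleton_iff] at h5
  exact h5

end Comm

/-! ### The rows -/

section Rows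

variable {K : Type*} [Group K] [Finite K]

/-- **the row `PΩ_{2m+1}(3)`, `m ≥ 3`** -/
theorem row_odd (hq : IsQuasisimple K) (hZ : IsPGroup 2 ↥(Subgroup.center K)) (h1 : Subgroup.center K ≠ ⊥)
    (h : FOdd (K ⧸ Subgroup.center K) 3) : HasY K := by
  have hr : Rk (K ⧸ Subgroup.center K) 3 := by unfold Rk; tauto
  obtain ⟨F, _, _, m, h3, hm, e⟩ := h
  obtain ⟨z, hz, hz1⟩ := (Subgroup.ne_bot_iff_exists_ne_one.1 h1 : _).elim fun z hz =>
    (⟨z.1, z.2, fun h => hz (Subtype.ext h)⟩ : ∃ z : K, z ∈ Subgroup.center K ∧ z ≠ 1)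
  exact hasY_of_center hq hr hz
    (SmallOrth.even_odd F m (by rw [h3]; decide) hm K hq.1.commutator_eq_top hZ e z hz hz1)

theorem ker_plus {F V : Type} [Field F] [AddCommGroup V] [Module F V] {Q : QuadraticForm F V} {n : ℕ}
    (W : WFrame (PO Q) (n + 2)) {t : Fin (n + 2) → Fˣ} (ht : NI.OmegaPlus.th W t = 1) :
    (∀ i : Fin (n + 2), (i : ℕ) < n → t i = 1) ∧ (∀ i : Fin (n + 2), n ≤ (i : ℕ) → t i = t (Fin.last (n + 1))) ∧
      (t (Fin.last (n + 1)) = 1 ∨ t (Fin.last (n + 1)) = -1) := by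
  have hchi : ∀ z, NI.OmegaPlus.chi z t = 1 := by
    intro z
    have h1 := NI.OmegaPlus.th_apply W z t
    rw [ht] at h1
    have h2 : (1 - ((NI.OmegaPlus.chi z t : Fˣ) : F)) • (toFrame W).b z = 0 := by
      rw [sub_smul, one_smul, ← h1]
      exact sub_self _
    have h3 := (smul_eq_zero.1 h2).resolve_right (WittRGD.b_ne_zero _)
    exact Units.ext (sub_eq_zero.1 h3).symm
  have h1 : ∀ m : Fin (n + 2), ∏ k ∈ Finset.Iic m, NI.OmegaPlus.chi (k, true) t = 1 := fun m =>
    Finset.prod_eq_one fun k _ => hchi _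
  have hl : t (Fin.last (n + 1)) ^ 2 = 1 := by
    have h2 := NI.OmegaPlus.prod_chi t (Fin.last (n + 1))
    rw [h1, if_neg (by simp only [Fin.val_last]; omega), if_neg (by simp only [Fin.val_last]; omega)] at h2
    exact h2.symm
  refine ⟨fun i hi => ?_, fun i hi => ?_, SmallOrth.units_sq hl⟩
  · have h2 := NI.OmegaPlus.prod_chi t i
    rw [h1, if_pos hi] at h2
    exact h2.symm
  · rcases Nat.eq_or_lt_of_le hi with h3 | h3
    · have h2 := NI.OmegaPlus.prod_chi t i
      rw [h1, if_neg (by omega), if_pos h3.symm] at h2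
      rw [pow_two] at hl
      exact mul_right_cancel (h2.symm.trans hl.symm)
    · have h4 : i = Fin.last (n + 1) := Fin.ext (by have := i.2; simp only [Fin.val_last]; omega)
      rw [h4]

theorem s_eq {F V : Type} [Field F] [AddCommGroup V] [Module F V] {Q : QuadraticForm F V} {n : ℕ}
    (W : WFrame (PO Q) (n + 2)) (i : Fin (n + 2)) {y : Fin (n + 2) × Bool} (h : TypeD.nx i = y)
    (hy : ((i, true) : Fin (n + 2) × Bool).1 ≠ y.1) (a : SpecialLinearGroup (Fin 2) F) :
    ((NI.OmegaPlus.s W i a : ↥(E Q)) : V ≃ₗ[F] V) = LongSL.OrthPhi.Phi (toFrame W) hy a := by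
  subst h
  rfl

theorem okT_plus (F : Type) [Field F] [Fintype F] {p : ℕ} [Fact p.Prime] [CharP F p] (hp2 : Odd p)
    {n : ℕ} (hn : 1 ≤ n) (t : ∀ i, ((OmegaPlusRow.sheet F hp2 hn).Fi i)ˣ)
    (ht : (OmegaPlusRow.sheet F hp2 hn).θ t = 1) : OkT (OmegaPlusRow.sheet F hp2 hn) t := by
  obtain ⟨h1, h2, h3⟩ := ker_plus (wplus (n + 2) F) (t := t) ht
  refine ⟨{i : Fin (n + 2) | n ≤ (i : ℕ) ∧ t i ≠ 1}, ?_, ?_, ?_⟩
  · rintro i ⟨hi, hi1⟩
    rw [h2 i hi] at hi1 ⊢
    exact h3.resolve_left hi1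
  · intro (i : Fin (n + 2)) hi
    by_cases h4 : (i : ℕ) < n
    · exact h1 i h4
    · by_contra h5
      exact hi ⟨not_lt.1 h4, h5⟩
  · -- the two end nodes commute
    have key : ∀ i j : Fin (n + 2), (i : ℕ) = n → (j : ℕ) = n + 1 → ∀ a b : SpecialLinearGroup (Fin 2) F,
        Commute (NI.OmegaPlus.s (wplus (n + 2) F) i a) (NI.OmegaPlus.s (wplus (n + 2) F) j b) := by
      intro i j hi hj a b
      have e1 : TypeD.nx i = (j, false) := by
        unfold TypeD.nx
        rw [dif_pos (by omega)]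
        exact congrArg (fun k => (k, false)) (Fin.ext (by simp only; omega))
      have e2 : TypeD.nx j = (i, true) := by
        unfold TypeD.nx
        rw [dif_neg (by omega)]
        exact congrArg (fun k => (k, true)) (Fin.ext (by simp only [TypeD.pd]; omega))
      have hij : ((i, true) : Fin (n + 2) × Bool).1 ≠ ((j, false) : Fin (n + 2) × Bool).1 := by
        intro h
        have : (i : ℕ) = j := congrArg Fin.val h
        omega
      have h4 := Phi_comm_neg (wplus (n + 2) F) (x := (i, true)) (y := (j, false)) hij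
        (by exact fun h => hij h.symm) a b
      apply Subtype.ext
      have e3 := s_eq (wplus (n + 2) F) i e1 hij a
      have e4 := s_eq (wplus (n + 2) F) j e2 (fun h => hij h.symm) b
      rw [Subgroup.coe_mul, Subgroup.coe_mul, e3, e4]
      exact h4
    intro (i : Fin (n + 2)) hi' (j : Fin (n + 2)) hj' hij a b
    have hi : n ≤ (i : ℕ) := hi'.1
    have hj : n ≤ (j : ℕ) := hj'.1
    have h5 := i.2
    have h6 := j.2
    have h7 : (i : ℕ) ≠ j := fun h => hij (Fin.ext h)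
    rcases Nat.lt_or_ge (i : ℕ) j with h8 | h8
    · exact key i j (by omega) (by omega) a b
    · exact (key j i (by omega) (by omega) b a).symm

/-- **the row `PΩ⁺_{2m}(3)`, `m ≥ 5`** -/
theorem row_plus' (hq : IsQuasisimple K) (hZ : IsPGroup 2 ↥(Subgroup.center K)) {F : Type} [Field F] [Fintype F]
    {m : ℕ} (h3 : Fintype.card F = 3) (hm : 5 ≤ m)
    (e : (K ⧸ Subgroup.center K) ≃* Cfsg.POmega F (Cfsg.quadFormPlus m F)) : HasY K := by
  have hr : Rk (K ⧸ Subgroup.center K) 3 := by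
    have h : FPlus (K ⧸ Subgroup.center K) 3 := ⟨F, _, _, m, h3, by omega, ⟨e⟩⟩
    unfold Rk; tauto
  obtain ⟨p, hp, hc, hp2⟩ := NI.OmegaRows.exists_char (F := F) (by rw [h3]; decide)
  have : Fact p.Prime := ⟨hp⟩
  obtain ⟨n, rfl⟩ : ∃ n, m = n + 2 := ⟨m - 2, by omega⟩
  rw [← coe_plusForm] at e
  have hG : Good (plusForm (n + 2) F) := OmegaPlusRow.good_plus F (by omega)
  refine hasY_of_sheet hG hp (fun h => by rw [h] at hp2; exact absurd hp2 (by decide))
    (OmegaPlusRow.sheet F hp2 (n := n) (by omega)) (okT_plus F hp2 (by omega))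
    (ofW (wplus (n + 2) F) (by omega) (OrthY.two_ne h3)) h3 ?_ hq hZ hr e
  rw [Fintype.card_sum, Fintype.card_fin]
  omega

/-- **the row `PΩ⁺_{2m}(3)`, `m ≥ 4`** -/
theorem row_plus (hq : IsQuasisimple K) (hZ : IsPGroup 2 ↥(Subgroup.center K)) (h1 : Subgroup.center K ≠ ⊥)
    (h : FPlus (K ⧸ Subgroup.center K) 3) : HasY K := by
  have hr : Rk (K ⧸ Subgroup.center K) 3 := by
    unfold Rk; tauto
  obtain ⟨F, _, _, m, h3, hm, ⟨e⟩⟩ := h
  rcases Nat.lt_or_ge m 5 with h4 | h4
  · obtain ⟨⟨z, hz⟩, hz1⟩ := (Subgroup.ne_bot_iff_exists_ne_one (H := Subgroup.center K)).1 h1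
    exact hasY_of_center hq hr hz
      (PlusEven.even_plus F (by rw [h3]; decide) hm (by rw [show m = 4 by omega]; decide) K hq.1.commutator_eq_top hZ
        ⟨e⟩ z hz (fun h => hz1 (Subtype.ext h)))
  · exact row_plus' hq hZ h3 h4 e

/-- **the row `PΩ⁻_{2m+2}(3)`, `m ≥ 3`** -/
theorem row_minus' (hq : IsQuasisimple K) (hZ : IsPGroup 2 ↥(Subgroup.center K)) (h1 : Subgroup.center K ≠ ⊥)
    {F : Type} [Field F] [Fintype F] {m : ℕ} (h3 : Fintype.card F = 3) (hm : 3 ≤ m) {a b : F}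
    (hab : ∀ z₁ z₂ : F, z₁ ^ 2 + a * z₁ * z₂ + b * z₂ ^ 2 = 0 → z₁ = 0 ∧ z₂ = 0)
    (e : (K ⧸ Subgroup.center K) ≃* Cfsg.POmega F (Cfsg.quadFormMinus m F a b)) : HasY K := by
  have hr : Rk (K ⧸ Subgroup.center K) 3 := by
    have h : FMinus (K ⧸ Subgroup.center K) 3 := ⟨F, _, _, m + 1, a, b, h3, by omega, hab, ⟨e⟩⟩
    unfold Rk; tauto
  rcases Nat.even_or_odd m with hme | hmo
  · obtain ⟨p, hp, hc, hp2⟩ := NI.OmegaRows.exists_char (F := F) (by rw [h3]; decide)
    have : Fact p.Prime := ⟨hp⟩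
    have h2 : (2 : F) ≠ 0 := OrthY.two_ne h3
    have hm4 : 4 ≤ m := by
      obtain ⟨k, hk⟩ := hme
      omega
    rw [← coe_minusForm] at e
    have hG : Good (minusForm m F a b) := by
      apply good_of_finite (nondeg_minusForm m F a b hab)
      rw [Module.finrank_fintype_fun_eq_card, Fintype.card_sum, Fintype.card_sum, Fintype.card_fin, Fintype.card_fin]
      omega
    have hA := RGDOrth.amb (wminus m F a b hab) h2
    obtain ⟨p0, hp0⟩ : ∃ p0 : (toFrame (wminus m F a b hab)).Adm, p0.c ≠ 0 := by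
      refine ⟨(embMinus m F a b hab).ngt ⟨(1, 0), -StdData.nf a b (1, 0), rfl⟩, ?_⟩
      change (1 : F)⁻¹ * (-StdData.nf a b (1, 0)) ≠ 0
      simp [StdData.nf]
    have hm0 : 0 < m := by omega
    refine hasY_of_sheet hG hp (fun h => by rw [h] at hp2; exact absurd hp2 (by decide))
      (NI.OmegaNodes.sheet (NI.OmegaRows.nodeM m a b hab) hA hp2 hm hp0 (NI.OmegaRows.scalM m a b hm0) (Or.inl rfl)) ?_
      (ofW (wminus m F a b hab) hm4 h2) h3 ?_ hq hZ hr e
    · intro t ht
      have hsq : t ^ 2 = 1 := (NI.OmegaNodes.sheet (NI.OmegaRows.nodeM m a b hab) hA hp2 hm hp0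
        (NI.OmegaRows.scalM m a b hm0) (Or.inl rfl)).k1 t ht
      change NI.OmegaNodes.theta (NI.OmegaRows.nodeM m a b hab) hA t = 1 at ht
      obtain ⟨ε, -, he, -, hv⟩ := SmallOrth.coordsT (NI.OmegaRows.nodeM m a b hab) hA hG hm0
        (NI.OmegaRows.scalM m a b hm0) (t := t) (by rw [ht]; exact one_mem _)
      have hε : ε = 1 := by
        have h4 := hv ((toFrame (wminus m F a b hab)).b (⟨0, hm0⟩, true))
        rw [ht] at h4
        have h5 : (1 - (ε : F)) • (toFrame (wminus m F a b hab)).b (⟨0, hm0⟩, true) = 0 := by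
          rw [sub_smul, one_smul, ← h4]
          exact sub_self _
        have h6 := (smul_eq_zero.1 h5).resolve_right (WittRGD.b_ne_zero _)
        exact Units.ext (sub_eq_zero.1 h6).symm
      have key : ∀ i : Fin m, (i : ℕ) + 1 < m → t i = 1 := fun i hi =>
        SmallOrth.nodeM_e m a b hab hi (t i) ((he i).trans (by rw [hε, one_pow]))
      have key2 : ∀ i j : Fin m, ¬ (i : ℕ) + 1 < m → ¬ (j : ℕ) + 1 < m → i = j := fun i j hi hj => by
        have := i.2
        have := j.2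
        exact Fin.ext (by omega)
      exact SmallOrth.okT_last (fun i : Fin m => ¬ (i : ℕ) + 1 < m) key2 (fun i hi => key i (not_not.1 hi)) hsq
    · rw [Fintype.card_sum, Fintype.card_sum, Fintype.card_fin, Fintype.card_fin]
      omega
  · obtain ⟨z, hz, hz1⟩ := (Subgroup.ne_bot_iff_exists_ne_one.1 h1 : _).elim fun z hz =>
      (⟨z.1, z.2, fun h => hz (Subtype.ext h)⟩ : ∃ z : K, z ∈ Subgroup.center K ∧ z ≠ 1)
    exact hasY_of_center hq hr hz
      (SmallOrth.even_minus F m a b (by rw [h3]; decide) hm hmo hab K hq.1.commutator_eq_top hZ ⟨e⟩ z hz hz1)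

/-- **the row `PΩ⁻_{2m}(3)`, `m ≥ 4`** -/
theorem row_minus (hq : IsQuasisimple K) (hZ : IsPGroup 2 ↥(Subgroup.center K)) (h1 : Subgroup.center K ≠ ⊥)
    (h : FMinus (K ⧸ Subgroup.center K) 3) : HasY K := by
  obtain ⟨F, _, _, m, a, b, h3, hm, hab, ⟨e⟩⟩ := h
  exact row_minus' hq hZ h1 h3 (by omega) hab e

end Rows

end Cfsg.Agent.OddHalf.NI3.K.CovOrth
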