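import Mathlib
import Cfsg.Agent.OddHalf.NI3.K.PerpN
import Cfsg.Agent.OddHalf.NI.ModelChev
import Cfsg.Agent.Nodes.ChevChart
import Cfsg.Agent.Nodes.KindE
import Cfsg.Agent.OddHalf.NI3.K.Congr

/-!
# `HasYF` for `E6(3)`, `E7(3)`, `E8(3)` (NI over `F_3`, (F1_3))

`y = z θ`, `θ` the highest root, `M = ⟨X x : x ⟂ θ⟩` of type `A5`, `D6`, `E7`.
-/

set_option autoImplicit false
set_option linter.unusedSectionVars false
set_option linter.dupNamespace false

namespace Cfsg.Agent.OddHalf.NI3.K.En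

open CoxeterSystem Cfsg.Agent.ChevalleyStructure.CoxeterGeom Cfsg.Agent.Tits.Roots Cfsg.Agent.Tits.Core
  Cfsg.Agent.Tits.RootComb Cfsg.Agent.Nodes.Comb Cfsg.Agent.Nodes.Reps Cfsg.Agent.Nodes.BNOf
  Cfsg.Agent.Nodes.RGDLib Cfsg.Agent.Nodes.Chart Cfsg.Agent.Nodes.Coroot Cfsg.Agent.Nodes.StabComb
  Cfsg.Agent.Nodes.KindBase Cfsg.Agent.Nodes.KindChev Cfsg.Agent.Nodes.ChevCls Cfsg.Agent.Nodes.ChevChart
open Cfsg.Lie Cfsg.Agent.ChevalleyStructure Cfsg.Agent.ChevalleyStructure.Elts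
  Cfsg.Agent.ChevalleyStructure.NPerm Cfsg.Agent.ChevalleyStructure.CoxeterGeomTypes Cfsg.Agent.Nodes.RGDChev
  Cfsg.Agent.KFacts.RgdChevCoord Cfsg.Agent.OddHalf.NI.ModelChev

universe u

/-- Root groups have the order of the field. -/
theorem card_XX {D : ChevalleyDatum} {l : ℕ} {M : CoxeterMatrix (Fin l)} (hp : IsType D l M) {K : Type u} [Field K]
    [Fintype K] (cs : CoxeterSystem M M.Group) {x : Fin l → ℤ} (hx : IsRoot cs hp.isCartan x) :
    Nat.card (XX D l K x) = Fintype.card K := by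
  obtain ⟨r, hr, rfl⟩ := (isRoot_iff hp cs x).1 hx
  rw [← Nat.card_eq_fintype_card]
  symm
  refine Nat.card_congr (Equiv.ofBijective
    (fun a => (⟨xc hp (vec D l r) a, (mem_XX hp hr _).2 ⟨a, rfl⟩⟩ : ↥(XX D l K (vec D l r)))) ⟨?_, ?_⟩)
  · intro a b hab
    exact xc_inj hp hr (congrArg Subtype.val hab)
  · rintro ⟨y, hy⟩
    obtain ⟨a, rfl⟩ := (mem_XX hp hr y).1 hy
    exact ⟨a, rfl⟩

section General

variable {D : ChevalleyDatum} {l : ℕ} {M : CoxeterMatrix (Fin l)} (hp : IsType D l M)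
  {f : ℕ} {fr cf : Fin f → Fin l → ℤ} {idx : Fin f → ℕ} (T : KD D l f 2 (fun _ => 1) fr cf idx) (k₀ : Fin f)

include hp T in
/-- Counting the positive roots orthogonal to the highest root. -/
theorem count_of [Fintype M.Group] (cs : CoxeterSystem M M.Group) {N : ℕ}
    (hN : N ≤ ((Finset.range D.nroots).filter fun r => (∀ i, 0 ≤ vec D l r i) ∧
      ∑ i, vec D l r i * cf k₀ i = 0).card) :
    N ≤ {x | IsRoot cs hp.isCartan x ∧ 0 ≤ x ∧ form cs hp.isCartan x (fr k₀) = 0}.ncard := by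
  classical
  have hr₀ : IsRoot cs hp.isCartan (fr k₀) := T.isRoot hp k₀
  have hinj : Set.InjOn (fun r => vec D l r) ((Finset.range D.nroots).filter fun r => (∀ i, 0 ≤ vec D l r i) ∧
      ∑ i, vec D l r i * cf k₀ i = 0 : Finset ℕ) := by
    intro r hr s hs h
    rw [Finset.mem_coe, Finset.mem_filter, Finset.mem_range] at hr hs
    exact vec_inj hp hr.1 hs.1 h
  rw [← Finset.card_image_of_injOn hinj] at hN
  refine hN.trans ?_
  rw [← Set.ncard_coe_finset]
  refine Set.ncard_le_ncard ?_ ((Cfsg.Agent.Nodes.BNOf.RGD.finite_roots (cs := cs) (h := hp.isCartan)).subset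
    fun x hx => hx.1)
  intro x hx
  rw [Finset.mem_coe, Finset.mem_image] at hx
  obtain ⟨r, hr, rfl⟩ := hx
  rw [Finset.mem_filter, Finset.mem_range] at hr
  refine ⟨(isRoot_iff hp cs _).2 ⟨r, hr.1, rfl⟩, hr.2.1, ?_⟩
  rw [← cpr_zero_iff cs hp.isCartan _ hr₀, T.cpr hp]
  exact hr.2.2

include hp T in
/-- **`HasYF` of a simply laced Chevalley group over the field with three elements.** -/
theorem hasYF_group {K : Type} [Field K] [Fintype K] (hc : Fintype.card K = 3)
    (hL : ∀ s < D.nroots, (∀ i, vec D l s i = fr k₀ i) ∨ (∀ i, vec D l s i = -fr k₀ i) ∨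
      |∑ i, vec D l s i * cf k₀ i| ≤ 1) (hZ : Subgroup.center ↥(D.group K) = ⊥)
    {i₀ j₀ : Fin l} (hij : cartanOf D l i₀ j₀ = -1) (hdom : Dom (cartanOf D l) (fr k₀)) {m : ℕ} (hm : 0 < m)
    (e : Fin m → Fin l) (he : Function.Injective e)
    (he' : ∀ i, pairing (cartanOf D l) i (fr k₀) = 0 ↔ ∃ a, e a = i)
    (h3 : ∀ i j, i ≠ j → M i j ≠ 2 → M i j = 3)
    (hirrI : ∀ J : Finset (Fin l), J = ∅ ∨ J = Finset.univ ∨ ∃ a ∈ J, ∃ b, b ∉ J ∧ M a b ≠ 2)
    (hirr : ∀ J : Finset (Fin m), J = ∅ ∨ J = Finset.univ ∨ ∃ a ∈ J, ∃ b, b ∉ J ∧ M (e a) (e b) ≠ 2)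
    (hnbI : ∀ k : Fin l, ∃ j, j ≠ k ∧ M k j ≠ 2) (hnb : ∀ k : Fin m, ∃ j, j ≠ k ∧ M (e k) (e j) ≠ 2)
    (a b c : Fin m) (hab : cartanOf D l (e a) (e b) = 0) (hac : cartanOf D l (e a) (e c) = 0)
    (hbc : cartanOf D l (e b) (e c) = 0)
    (hu : ∃ r < D.nroots, ∀ i, 2 * vec D l r i = fr k₀ i + -(if i = e a then 1 else 0) + -(if i = e b then 1 else 0) +
      -(if i = e c then 1 else 0))
    (hcount : 14 ≤ ((Finset.range D.nroots).filter fun r => (∀ i, 0 ≤ vec D l r i) ∧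
      ∑ i, vec D l r i * cf k₀ i = 0).card) : HasYF ↥(D.group K) := by
  have : Fact (Nat.Prime 3) := ⟨Nat.prime_three⟩
  have hchar : CharP K 3 := by
    obtain ⟨q, hq⟩ := CharP.exists K
    have hqp : q.Prime := (CharP.char_is_prime_or_zero K q).resolve_right (CharP.char_ne_zero_of_finite K q)
    obtain ⟨n, -, hn⟩ := FiniteField.card K q
    rw [hc] at hn
    have h1 : q ∣ 3 := by rw [hn]; exact dvd_pow_self q n.2.ne'
    rw [(Nat.prime_dvd_prime_iff_eq hqp Nat.prime_three).1 h1] at hq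
    exact hq
  have hfin : Finite M.Group := finite_W hp M.toCoxeterSystem
  let _ : Fintype M.Group := Fintype.ofFinite _
  have C := Nodes.ChevCls.cls hp (K := K) M.toCoxeterSystem 3 T k₀ (fun _ => ⟨by norm_num, by norm_num⟩) hL hZ
  have hall : ∀ x, IsRoot M.toCoxeterSystem hp.isCartan x →
      x ∈ RN M.toCoxeterSystem (h := hp.isCartan) 2 (fun _ => 1) := by
    intro x hx
    rw [RN_const T.hd]
    exact hx
  obtain ⟨r, hr, hur⟩ := hu
  refine PerpN.hasYF_of C Nat.prime_three (by decide) (G1_eq_top hp M.toCoxeterSystem) ?_ hall (fun _ _ => rfl) hc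
    ?_ (fun s hs => slEquiv hp (K := K) 3 T hij (by norm_num) hs) (T.mem hp k₀) hdom hm ⟨e, he⟩ (orth_eq e he') h3
    (irr_of hirrI) ?_ hnbI hnb a b c hab hac hbc (u := vec D l r)
    ((isRoot_iff hp M.toCoxeterSystem _).2 ⟨r, hr, rfl⟩) ?_ (count_of hp T k₀ _ hcount)
  · intro s hs t ht
    have := comm_TT hp (K := K) ⟨s, hs⟩ ⟨t, ht⟩
    exact congrArg Subtype.val this
  · intro x hx
    rw [card_XX hp M.toCoxeterSystem hx, hc]
  · exact irr_of (M := Cfsg.Agent.Nodes.Sub.leviMatrix ⟨e, he⟩ M) hirr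
  · funext i
    have h1 := hur i
    have hs : ∀ k : Fin l, (sr k : Fin l → ℤ) i = if i = k then 1 else 0 := by
      intro k
      by_cases h : i = k
      · rw [if_pos h, h, sr_self]
      · rw [if_neg h, sr_ne h]
    simp only [Pi.smul_apply, Pi.add_apply, Pi.neg_apply, smul_eq_mul, Function.Embedding.coeFn_mk, hs]
    exact h1

end General

/-! ### The types -/

variable {K : Type} [Field K] [Fintype K] (hc : Fintype.card K = 3)

include hc

set_option backward.isDefEq.respectTransparency false in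
/-- **`E6(3)`**: `M` of type `A5`. -/
theorem hasYF_E6 : HasYF ↥(chevE6.group K) :=
  hasYF_group Nodes.KindE.isType6 Nodes.KindE.kd6 0 hc long6 (center_of_mem (by simp)) (i₀ := 0) (j₀ := 2)
    (by decide +kernel) Nodes.KindE.dom_theta6 (m := 5) (by norm_num) Nodes.KindE.lev6 Nodes.KindE.lev6_injective
    (by intro i; rw [Nodes.KindE.pairing_theta6]; revert i; decide) (by decide +kernel) irr6 (by decide +kernel)
    (by decide +kernel) (by decide +kernel) 0 2 4 (by decide +kernel) (by decide +kernel) (by decide +kernel)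
    (by decide +kernel) (by decide +kernel)

set_option backward.isDefEq.respectTransparency false in
/-- **`E7(3)`**: `M` of type `D6`. -/
theorem hasYF_E7 : HasYF ↥(chevE7.group K) :=
  hasYF_group Nodes.KindE.isType7 Nodes.KindE.kd7 0 hc long7 (center_of_mem (by simp)) (i₀ := 0) (j₀ := 2)
    (by decide +kernel) Nodes.KindE.dom_theta7 (m := 6) (by norm_num) Nodes.KindE.lev7 Nodes.KindE.lev7_injective
    (by intro i; rw [Nodes.KindE.pairing_theta7]; revert i; decide) (by decide +kernel) irr7 (by decide +kernel)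
    (by decide +kernel) (by decide +kernel) 4 2 0 (by decide +kernel) (by decide +kernel) (by decide +kernel)
    (by decide +kernel) (by decide +kernel)

set_option backward.isDefEq.respectTransparency false in
/-- **`E8(3)`**: `M` of type `E7`. -/
theorem hasYF_E8 : HasYF ↥(chevE8.group K) :=
  hasYF_group Nodes.KindE.isType8 Nodes.KindE.kd8 0 hc long8 (center_of_mem (by simp)) (i₀ := 0) (j₀ := 2)
    (by decide +kernel) Nodes.KindE.dom_theta8 (m := 7) (by norm_num) Nodes.KindE.lev8 Nodes.KindE.lev8_injective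
    (by intro i; rw [Nodes.KindE.pairing_theta8]; revert i; decide) (by decide +kernel) irr8 (by decide +kernel)
    (by decide +kernel) (by decide +kernel) 1 4 6 (by decide +kernel) (by decide +kernel) (by decide +kernel)
    (by decide +kernel) (by decide +kernel)

/-! ### The rows -/

omit hc in
/-- **Row `E6(3)`.** -/
theorem row_E6 {X : Type*} [Group X] (h : LieOddFam.FE6 X 3) : HasYF X := by
  obtain ⟨F, _, _, hF, ⟨e⟩⟩ := h
  exact Congr.hasYF_congr e.symm (hasYF_E6 hF)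

omit hc in
/-- **Row `E7(3)`.** -/
theorem row_E7 {X : Type*} [Group X] (h : LieOddFam.FE7 X 3) : HasYF X := by
  obtain ⟨F, _, _, hF, ⟨e⟩⟩ := h
  exact Congr.hasYF_congr e.symm (hasYF_E7 hF)

omit hc in
/-- **Row `E8(3)`.** -/
theorem row_E8 {X : Type*} [Group X] (h : LieOddFam.FE8 X 3) : HasYF X := by
  obtain ⟨F, _, _, hF, ⟨e⟩⟩ := h
  exact Congr.hasYF_congr e.symm (hasYF_E8 hF)

end Cfsg.Agent.OddHalf.NI3.K.En
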