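import Cfsg.Agent.OddHalf.NI.Blocks
import Cfsg.Agent.OddHalf.NI.Niv

/-!
# Even involutions from commuting copies of `SL₂` (NI over `F_3`, F13 (R8); helper643)

`even_prod`: pairwise commuting homomorphisms `e i : SL₂(F i) →* M`, `w i = ± 1`: if `φ (∏ e i (w i)) ≠ 1` then it is
`Even8`. `Blocks.even`: the central involution `φ c` of a system of blocks is `Even8`.
-/

set_option autoImplicit false

namespace Cfsg.Agent.OddHalf.NI3.K.EvenGen

open Subgroup Cfsg
open Matrix (SpecialLinearGroup)
open Cfsg.Agent.OddHalf.NI (Even8 Blocks)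
open Cfsg.Agent.OddHalf.NI.Blocks (negOne)

section

variable {ι : Type*} [Fintype ι] [DecidableEq ι] {F : ι → Type*} [∀ i, Field (F i)] [∀ i, Finite (F i)]
  {M N : Type*} [Group M] [Group N]

open scoped commutatorElement in
theorem even_prod (hF : ∀ i, Odd (Nat.card (F i))) (e : ∀ i, SpecialLinearGroup (Fin 2) (F i) →* M)
    (comm : Pairwise fun i j => ∀ a b, Commute (e i a) (e j b)) {w : ∀ i, SpecialLinearGroup (Fin 2) (F i)}
    (hw : ∀ i, w i = 1 ∨ w i = -1) (φ : M →* N) (h1 : φ (MonoidHom.noncommPiCoprod e comm w) ≠ 1) :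
    Even8 (φ (MonoidHom.noncommPiCoprod e comm w)) := by
  have key : ∀ i, ∃ u x : SpecialLinearGroup (Fin 2) (F i), u * u = w i ∧ x * x = w i ∧ ⁅u, x⁆ = w i ∧
      w i * w i = 1 := by
    intro i
    rcases hw i with h | h
    · exact ⟨1, 1, by rw [h, one_mul], by rw [h, one_mul], by rw [h, commutatorElement_one_left], by rw [h, one_mul]⟩
    · have : Fintype (F i) := Fintype.ofFinite _
      have ho : Odd (Fintype.card (F i)) := by rw [← Nat.card_eq_fintype_card]; exact hF i
      obtain ⟨-, u, x, h2, h3, h4⟩ := NI.even8_neg_one ho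
      rw [h]
      exact ⟨u, x, h2, h3, h4, by rw [neg_mul_neg, one_mul]⟩
  choose u x hu hx hux hww using key
  have h2 : u * u = w := funext hu
  have h3 : x * x = w := funext hx
  have h4 : ⁅u, x⁆ = w := funext hux
  have h5 : w * w = 1 := funext hww
  refine ⟨orderOf_eq_prime ?_ h1, φ (MonoidHom.noncommPiCoprod e comm u), φ (MonoidHom.noncommPiCoprod e comm x),
    ?_, ?_, ?_⟩
  · rw [pow_two, ← map_mul, ← map_mul, h5, map_one, map_one]
  · rw [← map_mul, ← map_mul, h2]
  · rw [← map_mul, ← map_mul, h3]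
  · rw [← map_commutatorElement, ← map_commutatorElement, h4]

end

theorem neg_eq (F : Type*) [Field F] : negOne F = -1 := Subtype.ext rfl

/-- products of the `e i (-1)` -/
theorem exists_signs {M : Type*} [Group M] {F : Type*} [Field F] {m : ℕ}
    (e : Fin m → (SpecialLinearGroup (Fin 2) F →* M))
    (comm : Pairwise fun i j => ∀ a b, Commute (e i a) (e j b)) {c : M}
    (hc : c ∈ closure (Set.range fun i => e i (negOne F))) :
    ∃ w : Fin m → SpecialLinearGroup (Fin 2) F, (∀ i, w i = 1 ∨ w i = -1) ∧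
      MonoidHom.noncommPiCoprod e comm w = c := by
  induction hc using Subgroup.closure_induction with
  | mem x hx =>
    obtain ⟨i, rfl⟩ := hx
    refine ⟨Pi.mulSingle i (-1), fun j => ?_, ?_⟩
    · by_cases h : j = i
      · subst h; right; rw [Pi.mulSingle_eq_same]
      · left; rw [Pi.mulSingle_eq_of_ne h]
    · simp only
      rw [MonoidHom.noncommPiCoprod_mulSingle, neg_eq]
  | one => exact ⟨1, fun i => Or.inl rfl, map_one _⟩
  | mul x y _ _ ihx ihy =>
    obtain ⟨w, hw, rfl⟩ := ihx
    obtain ⟨w', hw', rfl⟩ := ihy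
    refine ⟨w * w', fun i => ?_, map_mul _ _ _⟩
    rw [Pi.mul_apply]
    rcases hw i with h | h <;> rcases hw' i with h' | h' <;> rw [h, h']
    · left; rw [one_mul]
    · right; rw [one_mul]
    · right; rw [mul_one]
    · left; rw [neg_mul_neg, one_mul]
  | inv x _ ih =>
    obtain ⟨w, hw, rfl⟩ := ih
    refine ⟨w⁻¹, fun i => ?_, map_inv _ _⟩
    rw [Pi.inv_apply]
    rcases hw i with h | h <;> rw [h]
    · left; rw [inv_one]
    · right
      rw [inv_eq_iff_mul_eq_one, neg_mul_neg, one_mul]

/-- **The central involution of a system of blocks is even.** -/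
theorem even_blocks {M N : Type*} [Group M] [Group N] {F : Type} [Field F] [Fintype F]
    (hodd : Odd (Fintype.card F)) {m : ℕ} {c : M} (B : Blocks M F m c) (φ : M →* N) (h1 : φ c ≠ 1) :
    Even8 (φ c) := by
  obtain ⟨w, hw, hwc⟩ := exists_signs B.e (fun i j hij a b => B.comm i j hij a b) B.gen
  rw [← hwc] at h1 ⊢
  refine even_prod (fun _ => ?_) B.e _ hw φ h1
  rw [Nat.card_eq_fintype_card]
  exact hodd

end Cfsg.Agent.OddHalf.NI3.K.EvenGen
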