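import Cfsg.Agent.OddHalf.NI3.K.EvenGen
import Cfsg.Agent.OddHalf.NI.OmegaSheet

/-!
# Even central involutions from a sheet (NI over `F_3`, F13 (R8); helper643)

* `commute_lift` : homomorphisms `f : SL₂(K) →* M` and elements commuting modulo a central 2-group commute;
* `OkT S t` : `t i = ± 1` and the nodes with `t i = -1` commute pairwise;
* `even_of_T` : `m` over the torus of the sheet, all parameters `OkT`, `φ m ≠ 1` ⟹ `Even8 (φ m)`;
* `even_POmega` : `N / Z(N) ≃ PΩ(V)`, all central parameters `OkT` ⟹ all `1 ≠ z ∈ Z(N)` are even.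
-/

set_option autoImplicit false
set_option linter.unusedSectionVars false
set_option linter.dupNamespace false

namespace Cfsg.Agent.OddHalf.NI3.K.EvenSheet

open CoxeterSystem Cfsg.Agent.ChevalleyStructure.CoxeterGeom Cfsg.Agent.Tits.Roots Cfsg.Agent.Tits.Core
  Cfsg.Agent.Tits.RootComb Cfsg.Agent.Nodes.Comb Cfsg.Agent.Nodes.Reps Cfsg.Agent.Nodes.BNOf
  Cfsg.Agent.Nodes.RGDLib Cfsg.Agent.Nodes.Chart Cfsg.Agent.Nodes.RGDLift Cfsg.Agent.Nodes.Bruhat
open Matrix (SpecialLinearGroup)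
open Cfsg.Agent.OddHalf.NI (Even8)
open Cfsg.Agent.OddHalf.NI
open Cfsg.Agent.OddHalf.NI.OmegaSheet (Sheet center_le_T ker_two)

/-- powers of an element inverse up to a central factor -/
theorem conj_pow {M : Type*} [Group M] {x y c : M} (hc : c ∈ Subgroup.center M) (h : x * y * x⁻¹ = c * y) (n : ℕ) :
    x ^ n * y * (x ^ n)⁻¹ = c ^ n * y := by
  induction n with
  | zero => group
  | succ n ih =>
    have h1 : x ^ (n + 1) * y * (x ^ (n + 1))⁻¹ = x * (x ^ n * y * (x ^ n)⁻¹) * x⁻¹ := by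
      rw [pow_succ' x n]; group
    have h2 := Subgroup.mem_center_iff.1 (pow_mem hc n) x
    rw [h1, ih]
    calc x * (c ^ n * y) * x⁻¹ = (x * c ^ n) * y * x⁻¹ := by group
      _ = c ^ n * (x * y * x⁻¹) := by rw [h2]; group
      _ = c ^ (n + 1) * y := by rw [h, pow_succ, mul_assoc]

/-- an element of odd order commutes with `y` if it does so modulo a central 2-group -/
theorem commute_of_odd {M L : Type*} [Group M] [Group L] {α : M →* L} (hαc : α.ker ≤ Subgroup.center M)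
    (hα2 : IsPGroup 2 α.ker) {x y : M} {n : ℕ} (hn : Odd n) (hx : x ^ n = 1) (h : Commute (α x) (α y)) :
    Commute x y := by
  have hk : x * y * x⁻¹ * y⁻¹ ∈ α.ker := by
    rw [MonoidHom.mem_ker, map_mul, map_mul, map_mul, map_inv, map_inv, h.eq]
    group
  obtain ⟨c, hc⟩ : ∃ c, c = x * y * x⁻¹ * y⁻¹ := ⟨_, rfl⟩
  rw [← hc] at hk
  have h1 : x * y * x⁻¹ = c * y := by rw [hc]; group
  have h2 := conj_pow (hαc hk) h1 n
  rw [hx, one_mul, inv_one, mul_one] at h2
  have h3 : c ^ n = 1 := mul_eq_right.1 h2.symm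
  obtain ⟨k, hk'⟩ := hα2 ⟨c, hk⟩
  have h4 : c ^ 2 ^ k = 1 := congrArg Subtype.val hk'
  have h5 : orderOf c ∣ Nat.gcd n (2 ^ k) := Nat.dvd_gcd (orderOf_dvd_of_pow_eq_one h3) (orderOf_dvd_of_pow_eq_one h4)
  have h6 : Nat.gcd n (2 ^ k) = 1 := Nat.Coprime.pow_right k (Nat.coprime_two_right.2 hn)
  rw [h6, Nat.dvd_one, orderOf_eq_one_iff] at h5
  rw [h5, one_mul, mul_inv_eq_iff_eq_mul] at h1
  exact h1

/-- homomorphisms of `SL₂(K)` -/
theorem commute_lift {M L : Type*} [Group M] [Group L] {α : M →* L} (hαc : α.ker ≤ Subgroup.center M)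
    (hα2 : IsPGroup 2 α.ker) {K : Type*} [Field K] {p : ℕ} (hp : Odd p) (hK : (p : K) = 0)
    (f : SpecialLinearGroup (Fin 2) K →* M) {y : M} (h : ∀ a, Commute (α (f a)) (α y))
    (a : SpecialLinearGroup (Fin 2) K) : Commute (f a) y := by
  have h1 : (Subgroup.centralizer ({y} : Set M)).comap f = ⊤ := by
    apply Mult.mem_of_up_lo
    · intro a
      rw [Subgroup.mem_comap, Subgroup.mem_centralizer_singleton_iff]
      exact commute_of_odd hαc hα2 hp (by rw [← map_pow, Mult.up_pow, hK, zero_mul, Mult.up_zero, map_one]) (h _)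
    · intro a
      rw [Subgroup.mem_comap, Subgroup.mem_centralizer_singleton_iff]
      exact commute_of_odd hαc hα2 hp (by rw [← map_pow, Mult.lo_pow, hK, zero_mul, Mult.lo_zero, map_one]) (h _)
  have h2 : a ∈ (Subgroup.centralizer ({y} : Set M)).comap f := h1 ▸ Subgroup.mem_top a
  rw [Subgroup.mem_comap, Subgroup.mem_centralizer_singleton_iff] at h2
  exact h2

section Cover

variable {L : Type*} [Group L] {p : ℕ} {F : Type} [Field F] (S : Sheet L p F)

/-- the parameters `± 1`, commuting nodes -/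
def OkT (t : ∀ i, (S.Fi i)ˣ) : Prop :=
  ∃ J : Set S.I, (∀ i ∈ J, t i = -1) ∧ (∀ i ∉ J, t i = 1) ∧
    ∀ i ∈ J, ∀ j ∈ J, i ≠ j → ∀ a b, Commute (S.s i a) (S.s j b)

variable (hp : p.Prime) (hp2 : p ≠ 2)
  {M N : Type*} [Group M] [Finite M] [Group N] {α : M →* L} (hα : Function.Surjective α)
  (hαc : α.ker ≤ Subgroup.center M) (hα2 : IsPGroup 2 α.ker) (hM : commutator M = ⊤) (φ : M →* N)

include hp hp2 hα hαc hα2 hM

/-- **Even involutions over the torus.** -/
theorem even_of_T {m : M} (hm : α m ∈ S.T) (hk : ∀ t, S.θ t = α m → OkT S t) (h1 : φ m ≠ 1) : Even8 (φ m) := by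
  classical
  have : Fact p.Prime := ⟨hp⟩
  have hpo : Odd p := hp.odd_of_ne_two hp2
  obtain ⟨s', θ', e1, e2, e3, e4, -⟩ := Mult.mult hp2 S.cls.rgd S.gen S.coord S.θ S.hθ hα hαc hα2 hM
  have hm' : m ∈ θ'.range := by
    rw [e4]
    exact hm
  obtain ⟨t, rfl⟩ := hm'
  obtain ⟨J, h2, h3, h4⟩ := hk t (by rw [← e3]; rfl)
  have hchar : ∀ i, (p : S.Fi i) = 0 := fun i => Mult.char_eq S.cls.rgd S.coord i
  -- the nodes in `J` commute
  have comm : Pairwise fun i j : J => ∀ a b, Commute (s' i.1 a) (s' j.1 b) := by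
    intro i j hij a b
    refine commute_lift hαc hα2 hpo (hchar _) (s' i.1) (fun a => ?_) a
    have e5 : ∀ k c, α (s' k c) = S.s k c := fun k c => DFunLike.congr_fun (e1 k) c
    rw [e5, e5]
    exact h4 _ i.2 _ j.2 (fun h => hij (Subtype.ext h)) _ _
  let e : ∀ i : J, SpecialLinearGroup (Fin 2) (S.Fi i.1) →* M := fun i => s' i.1
  let ext : (∀ i : J, (S.Fi i.1)ˣ) →* ∀ i, (S.Fi i)ˣ :=
    { toFun := fun a i => if h : i ∈ J then a ⟨i, h⟩ else 1
      map_one' := by
        funext i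
        show (if h : i ∈ J then (1 : ∀ i : J, (S.Fi i.1)ˣ) ⟨i, h⟩ else (1 : (S.Fi i)ˣ)) = 1
        split_ifs <;> rfl
      map_mul' := by
        intro a b
        funext i
        show (if h : i ∈ J then (a * b) ⟨i, h⟩ else (1 : (S.Fi i)ˣ)) =
          (if h : i ∈ J then a ⟨i, h⟩ else (1 : (S.Fi i)ˣ)) * (if h : i ∈ J then b ⟨i, h⟩ else (1 : (S.Fi i)ˣ))
        split_ifs
        · rfl
        · rw [one_mul] }
  have hext : ∀ (i : J) (x : (S.Fi i.1)ˣ), ext (Pi.mulSingle i x) = Pi.mulSingle i.1 x := by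
    intro i x
    funext k
    show (if h : k ∈ J then (Pi.mulSingle i x : ∀ i : J, (S.Fi i.1)ˣ) ⟨k, h⟩ else (1 : (S.Fi k)ˣ)) = _
    by_cases hk : k = i.1
    · subst hk
      rw [dif_pos i.2, Pi.mulSingle_eq_same, Pi.mulSingle_eq_same]
    · rw [Pi.mulSingle_eq_of_ne hk]
      split_ifs with h
      · exact Pi.mulSingle_eq_of_ne (fun h' => hk (congrArg Subtype.val h')) _
      · rfl
  let dgs : (∀ i : J, (S.Fi i.1)ˣ) →* ∀ i : J, SpecialLinearGroup (Fin 2) (S.Fi i.1) :=
    MonoidHom.pi fun i => Mult.dgHom.comp (Pi.evalMonoidHom _ i)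
  have hΦ : (MonoidHom.noncommPiCoprod e comm).comp dgs = θ'.comp ext := by
    apply MonoidHom.pi_ext
    intro i x
    rw [MonoidHom.comp_apply, MonoidHom.comp_apply, hext, e2]
    have e6 : dgs (Pi.mulSingle i x) = Pi.mulSingle i (Mult.dg x) := by
      funext k
      show Mult.dgHom ((Pi.mulSingle i x : ∀ i : J, (S.Fi i.1)ˣ) k) = _
      by_cases hk : k = i
      · subst hk
        rw [Pi.mulSingle_eq_same, Pi.mulSingle_eq_same]
        rfl
      · rw [Pi.mulSingle_eq_of_ne hk, Pi.mulSingle_eq_of_ne hk, map_one]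
    rw [e6, MonoidHom.noncommPiCoprod_mulSingle]
  have ht : ext (fun _ => -1) = t := by
    funext i
    show (if h : i ∈ J then (-1 : (S.Fi i)ˣ) else 1) = t i
    split_ifs with h
    · exact (h2 i h).symm
    · exact (h3 i h).symm
  have hm : θ' t = MonoidHom.noncommPiCoprod e comm (fun _ => -1) := by
    have h5 := DFunLike.congr_fun hΦ fun _ => -1
    rw [MonoidHom.comp_apply, MonoidHom.comp_apply, ht] at h5
    rw [← h5]
    congr 1
    funext i
    exact Mult.dg_neg_one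
  rw [hm] at h1 ⊢
  refine EvenGen.even_prod (fun i => ?_) e comm (fun _ => Or.inr rfl) φ h1
  -- the fields are of odd order
  have : Fintype (S.Fi i.1) := Fintype.ofFinite _
  obtain ⟨r, hr⟩ := CharP.exists (S.Fi i.1)
  have hrp : r.Prime := CharP.char_is_prime (S.Fi i.1) r
  have h5 : r = p := (Nat.prime_dvd_prime_iff_eq hrp hp).1 ((CharP.cast_eq_zero_iff (S.Fi i.1) r p).1 (hchar _))
  subst h5
  obtain ⟨n, -, hn⟩ := FiniteField.card (S.Fi i.1) r
  rw [Nat.card_eq_fintype_card, hn]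
  exact hpo.pow

end Cover

/-! ### `PΩ(V)` -/

section POmega

open QuadraticMap
open Cfsg.Agent.LieClassical Cfsg.Agent.LieClassical.OrthCore Cfsg.Agent.LieClassical.OrthTrans
  Cfsg.Agent.TitsThree.KSideO

variable {ι : Type} [Fintype ι] [DecidableEq ι] {F : Type} [Field F] [Fintype F] {Q : QuadraticForm F (ι → F)}

/-- **Even central involutions for `PΩ(V)`.** -/
theorem even_POmega (hG : Good Q) {p : ℕ} (hp : p.Prime) (hp2 : p ≠ 2) (S : Sheet ↥(E Q) p F)
    (k2 : ∀ t, S.θ t ∈ Subgroup.center ↥(E Q) → OkT S t)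
    {N : Type*} [Group N] [Finite N] (hN : commutator N = ⊤) (hZ : IsPGroup 2 ↥(Subgroup.center N))
    (e : N ⧸ Subgroup.center N ≃* Cfsg.POmega F ⇑Q) {z : N} (hz : z ∈ Subgroup.center N) (hz1 : z ≠ 1) :
    Even8 z := by
  -- the two maps to `PΩ`
  obtain ⟨f, hf⟩ : ∃ f : N →* Cfsg.POmega F ⇑Q, f = e.toMonoidHom.comp (QuotientGroup.mk' _) := ⟨_, rfl⟩
  have fs : Function.Surjective f := by
    rw [hf]
    exact e.surjective.comp (QuotientGroup.mk'_surjective _)
  have fk : f.ker = Subgroup.center N := by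
    rw [hf]
    ext x
    rw [MonoidHom.mem_ker]
    change e (QuotientGroup.mk x) = 1 ↔ _
    rw [map_eq_one_iff e e.injective, QuotientGroup.eq_one_iff]
  have gs := toPOmega_surjective hG
  have gk : (toPOmega hG).ker ≤ Subgroup.center ↥(E Q) := fun x hx => center_of_toPOmega hG hx
  have hE : commutator ↥(E Q) = ⊤ := by
    apply Subgroup.map_injective (E Q).subtype_injective
    rw [commutator_def, Subgroup.map_commutator, ← MonoidHom.range_eq_map, Subgroup.range_subtype]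
    exact hG.E_perfect
  have hfin : Finite ((ι → F) ≃ₗ[F] (ι → F)) :=
    Finite.of_injective (fun g : (ι → F) ≃ₗ[F] (ι → F) => (g : (ι → F) → (ι → F))) DFunLike.coe_injective
  have hM := Fibre.perfect (f := f) (g := toPOmega hG) fs gs fk.le gk hN
  have hφ := Fibre.toN_surjective (f := f) (g := toPOmega hG) gs hN
  have hα := Fibre.toL_surjective (f := f) (g := toPOmega hG) fs hE
  have hαc := Fibre.ker_toL (f := f) (g := toPOmega hG) fk.le gk
  have hk2 : IsPGroup 2 (Fibre.toX f (toPOmega hG)).ker := Fibre.isPGroup_ker (by rw [fk]; exact hZ) (ker_two hG)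
  have hα2 : IsPGroup 2 (Fibre.toL f (toPOmega hG)).ker := by
    refine hk2.to_le fun m hm => ?_
    rw [MonoidHom.mem_ker]
    change f (Fibre.toN f (toPOmega hG) m) = 1
    rw [Fibre.comm, MonoidHom.mem_ker.1 hm, map_one]
  obtain ⟨m, hm⟩ := hφ z
  have hmc : m ∈ Subgroup.center (Fibre.M f (toPOmega hG)) := by
    refine Fibre.mem_center_of_map fk.le gk ?_
    rw [hm]
    exact MonoidHom.mem_ker.1 (fk.ge hz)
  have h2 : Fibre.toL f (toPOmega hG) m ∈ Subgroup.center ↥(E Q) := by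
    rw [Subgroup.mem_center_iff]
    intro y
    obtain ⟨x, rfl⟩ := hα y
    rw [← map_mul, ← map_mul, Subgroup.mem_center_iff.1 hmc x]
  rw [← hm] at hz1 ⊢
  exact even_of_T S hp hp2 hα hαc hα2 hM _ (center_le_T S h2) (fun t ht => k2 t (by rw [ht]; exact h2)) hz1

end POmega

end Cfsg.Agent.OddHalf.NI3.K.EvenSheet
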