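import Mathlib
import Cfsg.Agent.OddHalf.NI3.K.BFour
import Cfsg.Agent.OddHalf.NI.ModelChev
import Cfsg.Agent.Nodes.ChevChart
import Cfsg.Agent.Nodes.KindF
import Cfsg.Agent.OddHalf.NI3.K.Congr

/-!
# `HasYF` for `F4(3)` (NI over `F_3`, (F1_3); helper622)

`y = z a * z b`, `a = 0210`, `b = 0010`, `M` the group of the roots `x` with `x 0` even, of type `B4`; base
`2210, α_3, α_2, α_1`.
-/

set_option autoImplicit false
set_option linter.unusedSectionVars false
set_option linter.dupNamespace false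

namespace Cfsg.Agent.OddHalf.NI3.K.F4

open CoxeterSystem Cfsg.Agent.ChevalleyStructure.CoxeterGeom Cfsg.Agent.Tits.Roots Cfsg.Agent.Tits.Core
  Cfsg.Agent.Tits.RootComb Cfsg.Agent.Nodes.Comb Cfsg.Agent.Nodes.Reps Cfsg.Agent.Nodes.BNOf
  Cfsg.Agent.Nodes.RGDLib Cfsg.Agent.Nodes.Chart Cfsg.Agent.Nodes.Coroot Cfsg.Agent.Nodes.StabComb
  Cfsg.Agent.Nodes.KindBase Cfsg.Agent.Nodes.KindChev Cfsg.Agent.Nodes.ChevCls Cfsg.Agent.Nodes.ChevChart
  Cfsg.Agent.Nodes.SubComb
open Cfsg.Lie Cfsg.Agent.ChevalleyStructure Cfsg.Agent.ChevalleyStructure.Elts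
  Cfsg.Agent.ChevalleyStructure.NPerm Cfsg.Agent.ChevalleyStructure.CoxeterGeomTypes Cfsg.Agent.Nodes.RGDChev
  Cfsg.Agent.KFacts.RgdChevCoord Cfsg.Agent.OddHalf.NI.ModelChev

/-! ### The subsystem `B4` -/

set_option backward.isDefEq.respectTransparency false in
/-- The Coxeter matrix `B4`: nodes `0 - 1 - 2 = 3`. -/
def MB : CoxeterMatrix (Fin 4) where
  M := !![1, 3, 2, 2; 3, 1, 3, 2; 2, 3, 1, 4; 2, 2, 4, 1]
  isSymm := by decide
  diagonal := by decide
  off_diagonal := by decide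

/-- The Cartan matrix. -/
def AB : Fin 4 → Fin 4 → ℤ := ![![2, -1, 0, 0], ![-1, 2, -1, 0], ![0, -1, 2, -1], ![0, 0, -2, 2]]

set_option backward.isDefEq.respectTransparency false in
theorem isCartanB : IsCartan MB AB := by
  constructor <;> decide

set_option backward.isDefEq.respectTransparency false in
theorem irrB : ∀ J : Finset (Fin 4), J = ∅ ∨ J = Finset.univ ∨ ∃ a ∈ J, ∃ b, b ∉ J ∧ MB a b ≠ 2 := by
  decide +kernel

/-- The positive roots of `B4`. -/
def pB : List (Fin 4 → ℤ) :=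
  [![1, 0, 0, 0], ![0, 1, 0, 0], ![0, 0, 1, 0], ![0, 0, 0, 1], ![1, 1, 0, 0], ![0, 1, 1, 0], ![0, 0, 1, 1],
   ![1, 1, 1, 0], ![0, 1, 1, 1], ![0, 0, 1, 2], ![1, 1, 1, 1], ![0, 1, 1, 2], ![1, 1, 1, 2], ![0, 1, 2, 2],
   ![1, 1, 2, 2], ![1, 2, 2, 2]]

theorem pB_nodup : pB.Nodup := by decide

theorem pB_nonneg : ∀ c ∈ pB, ∀ k, 0 ≤ c k := by decide

/-- The base. -/
def be : Fin 4 → Fin 4 → ℤ := ![![2, 2, 1, 0], ![0, 0, 0, 1], ![0, 0, 1, 0], ![0, 1, 0, 0]]

/-- The nodes. -/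
def nd : Fin 4 → Fin 4 := ![2, 3, 2, 1]

theorem iota_be (c : Fin 4 → ℤ) : iota be c = ![2 * c 0, 2 * c 0 + c 3, c 0 + c 2, c 1] := by
  funext k
  rw [iota_apply, Finset.sum_apply, Fin.sum_univ_four]
  fin_cases k <;> simp [be] <;> ring

section

variable {W : Type*} [Group W] (cs : CoxeterSystem CoxeterMatrix.F₄ W)

/-- The Weyl group elements of the base. -/
def wd : Fin 4 → W := ![cs.simple 0 * cs.simple 1, 1, 1, 1]

/-- The reflection, computable. -/
def rx (i : Fin 4) (x : Fin 4 → ℤ) : Fin 4 → ℤ := x - pairing (cartanOf chevF4 4) i x • sr i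

theorem rep_rx (h : IsCartan CoxeterMatrix.F₄ (cartanOf chevF4 4)) (i : Fin 4) (x : Fin 4 → ℤ) :
    rep cs h (cs.simple i) x = rx i x := rep_simple_eq cs h i x

set_option backward.isDefEq.respectTransparency false in
theorem rx_eq : rx 0 (rx 1 (sr 2)) = ![2, 2, 1, 0] := by decide +kernel

set_option backward.isDefEq.respectTransparency false in
theorem pair_zero : ∀ k, pairing (cartanOf chevF4 4) 2 (rx 1 (rx 0 (be k))) = AB 0 k := by decide +kernel

set_option backward.isDefEq.respectTransparency false in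
theorem pair_pos : ∀ j, j ≠ 0 → ∀ k, pairing (cartanOf chevF4 4) (nd j) (be k) = AB j k := by decide +kernel

theorem be_pos : ∀ j, j ≠ 0 → be j = sr (nd j) := by decide

theorem wd_pos : ∀ j : Fin 4, j ≠ 0 → wd cs j = 1 := by
  intro j hj
  fin_cases j
  · exact absurd rfl hj
  all_goals rfl

theorem subSys (h : IsCartan CoxeterMatrix.F₄ (cartanOf chevF4 4)) : SubSys cs h AB be (wd cs) nd where
  eq j := by
    by_cases hj : j = 0
    · subst hj
      show be 0 = rep cs h (cs.simple 0 * cs.simple 1) (sr 2)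
      rw [rep_mul_apply, rep_rx, rep_rx, rx_eq]
      rfl
    · rw [wd_pos cs j hj, map_one, Module.End.one_apply, be_pos j hj]
  cartan j k := by
    by_cases hj : j = 0
    · subst hj
      show pairing _ 2 (rep cs h (cs.simple 0 * cs.simple 1)⁻¹ (be k)) = _
      rw [mul_inv_rev, cs.inv_simple, cs.inv_simple, rep_mul_apply, rep_rx, rep_rx]
      exact pair_zero k
    · rw [wd_pos cs j hj, inv_one, map_one, Module.End.one_apply]
      exact pair_pos j hj k
  indep c hc := by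
    rw [iota_be] at hc
    have h0 := congrFun hc 0
    have h1 := congrFun hc 1
    have h2 := congrFun hc 2
    have h3 := congrFun hc 3
    simp at h0 h1 h2 h3
    funext k
    fin_cases k <;> simp <;> omega

/-- The coordinates of an even root. -/
def co (x : Fin 4 → ℤ) : Fin 4 → ℤ := ![x 0 / 2, x 3, x 2 - x 0 / 2, x 1 - x 0]

theorem co_iota (c : Fin 4 → ℤ) : co (iota be c) = c := by
  rw [iota_be]
  funext k
  fin_cases k <;> simp [co]

theorem iota_co {x : Fin 4 → ℤ} (hx : Even (x 0)) : iota be (co x) = x := by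
  rw [iota_be]
  have h1 : 2 * (x 0 / 2) = x 0 := Int.two_mul_ediv_two_of_even hx
  funext k
  fin_cases k
  · simpa [co] using h1
  · show 2 * (x 0 / 2) + (x 1 - x 0) = x 1
    omega
  · show x 0 / 2 + (x 2 - x 0 / 2) = x 2
    omega
  · rfl

set_option backward.isDefEq.respectTransparency false in
theorem base_tab : ∀ r < chevF4.nroots, vec chevF4 4 r 0 % 2 = 0 →
    (∀ k, 0 ≤ co (vec chevF4 4 r) k) ∨ ∀ k, co (vec chevF4 4 r) k ≤ 0 := by decide +kernel

set_option backward.isDefEq.respectTransparency false in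
theorem pB_tab : ∀ c ∈ pB, ∃ r < chevF4.nroots, ∀ k, vec chevF4 4 r k =
    (![2 * c 0, 2 * c 0 + c 3, c 0 + c 2, c 1] : Fin 4 → ℤ) k := by decide +kernel

variable [Finite W] (h : IsCartan CoxeterMatrix.F₄ (cartanOf chevF4 4))

theorem base : ∀ c, IsRoot cs h (iota be c) → 0 ≤ c ∨ c ≤ 0 := by
  intro c hc
  obtain ⟨r, hr, e⟩ := (isRoot_iff Nodes.KindF.isType cs _).1 hc
  have h1 : vec chevF4 4 r 0 % 2 = 0 := by
    rw [e, iota_be]
    simp
  have h2 := base_tab r hr h1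
  rw [e, co_iota] at h2
  exact h2

theorem isRoot_co {x : Fin 4 → ℤ} (hx : IsRoot cs h x) (he : Even (x 0)) :
    IsRoot MB.toCoxeterSystem isCartanB (co x) := by
  refine (subSys cs h).isRoot_of_iota MB.toCoxeterSystem isCartanB (base cs h) ?_
  rwa [iota_co he]

theorem parity (x : Fin 4 → ℤ) :
    Even (cpr cs h x (Nodes.KindF.fr 2) + cpr cs h x (Nodes.KindF.fr 3)) ↔ Even (x 0) := by
  rw [Nodes.KindF.cpr_fr, Nodes.KindF.cpr_fr, Fin.sum_univ_four, Fin.sum_univ_four]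
  have e : x 0 * Nodes.KindF.cf 2 0 + x 1 * Nodes.KindF.cf 2 1 + x 2 * Nodes.KindF.cf 2 2 + x 3 * Nodes.KindF.cf 2 3 +
      (x 0 * Nodes.KindF.cf 3 0 + x 1 * Nodes.KindF.cf 3 1 + x 2 * Nodes.KindF.cf 3 2 + x 3 * Nodes.KindF.cf 3 3) =
      x 0 + 2 * (x 2 - x 0 - x 3) := by
    simp [Nodes.KindF.cf]
    ring
  rw [e, Int.even_add]
  simp

theorem image (x : Fin 4 → ℤ) (hx : IsRoot cs h x) :
    Even (cpr cs h x (Nodes.KindF.fr 2) + cpr cs h x (Nodes.KindF.fr 3)) ↔
      ∃ c, IsRoot MB.toCoxeterSystem isCartanB c ∧ x = iota be c := by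
  rw [parity cs h]
  constructor
  · intro he
    exact ⟨co x, isRoot_co cs h hx he, (iota_co he).symm⟩
  · rintro ⟨c, -, rfl⟩
    rw [iota_be]
    simp

include cs h in
theorem count : 14 ≤ {c | IsRoot MB.toCoxeterSystem isCartanB c ∧ 0 ≤ c}.ncard := by
  classical
  have hfin : Finite MB.Group := (subSys cs h).finite MB.toCoxeterSystem isCartanB
  have h1 : pB.toFinset.card = 16 := by
    rw [List.toFinset_card_of_nodup pB_nodup]
    rfl
  have h2 : ((pB.toFinset : Finset (Fin 4 → ℤ)) : Set (Fin 4 → ℤ)) ⊆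
      {c | IsRoot MB.toCoxeterSystem isCartanB c ∧ 0 ≤ c} := by
    intro c hc
    rw [Finset.mem_coe, List.mem_toFinset] at hc
    refine ⟨?_, fun k => pB_nonneg c hc k⟩
    refine (subSys cs h).isRoot_of_iota MB.toCoxeterSystem isCartanB (base cs h) ?_
    rw [iota_be]
    obtain ⟨r, hr, e⟩ := pB_tab c hc
    exact (isRoot_iff Nodes.KindF.isType cs _).2 ⟨r, hr, funext e⟩
  have h3 := Set.ncard_le_ncard h2 ((Cfsg.Agent.Nodes.BNOf.RGD.finite_roots
    (cs := MB.toCoxeterSystem) (h := isCartanB)).subset fun c hc => hc.1)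
  rw [Set.ncard_coe_finset, h1] at h3
  omega

end

set_option backward.isDefEq.respectTransparency false in
/-- **`F4(3)`**: `M` of type `B4`. -/
theorem hasYF_F4 {K : Type} [Field K] [Fintype K] (hc : Fintype.card K = 3) : HasYF ↥(chevF4.group K) := by
  have : Fact (Nat.Prime 3) := ⟨Nat.prime_three⟩
  have hchar : CharP K 3 := by
    obtain ⟨q, hq⟩ := CharP.exists K
    have hqp : q.Prime := (CharP.char_is_prime_or_zero K q).resolve_right (CharP.char_ne_zero_of_finite K q)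
    obtain ⟨n, -, hn⟩ := FiniteField.card K q
    rw [hc] at hn
    have h1 : q ∣ 3 := by rw [hn]; exact dvd_pow_self q n.2.ne'
    rw [(Nat.prime_dvd_prime_iff_eq hqp Nat.prime_three).1 h1] at hq
    exact hq
  have hp := Nodes.KindF.isType
  have hfin : Finite CoxeterMatrix.F₄.Group := finite_W hp CoxeterMatrix.F₄.toCoxeterSystem
  let _ : Fintype CoxeterMatrix.F₄.Group := Fintype.ofFinite _
  have hfin' : Finite MB.Group := (subSys CoxeterMatrix.F₄.toCoxeterSystem hp.isCartan).finite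
    MB.toCoxeterSystem isCartanB
  let _ : Fintype MB.Group := Fintype.ofFinite _
  have C := Nodes.ChevCls.cls hp (K := K) CoxeterMatrix.F₄.toCoxeterSystem 3 Nodes.KindF.kd 0 dF longF
    (center_of_mem (by simp))
  have hR : ∀ j : Fin 4, j ≠ 3 → be j ∈ RN CoxeterMatrix.F₄.toCoxeterSystem (h := hp.isCartan) 4 Nodes.KindF.d := by
    intro j hj
    refine ⟨(subSys _ hp.isCartan).isRoot_beta j, ?_⟩
    revert j
    decide +kernel
  have hR3 : be 3 ∉ RN CoxeterMatrix.F₄.toCoxeterSystem (h := hp.isCartan) 4 Nodes.KindF.d := by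
    rintro ⟨-, h1⟩
    revert h1
    decide +kernel
  refine BFour.hasYF_of_sub C (G1_eq_top hp _) ?_ (fun _ _ => rfl)
    (fun r hr y hy => le_one hp _ Nodes.KindF.kd 0 longF hr hy) hc
    (fun s hs => slEquiv hp (K := K) 3 Nodes.KindF.kd (i := 2) (j := 3) (by decide +kernel) (by decide) hs)
    (Nodes.KindF.kd.mem hp 2) (Nodes.KindF.kd.mem hp 3) (subSys _ hp.isCartan)
    (image CoxeterMatrix.F₄.toCoxeterSystem hp.isCartan) ⟨sr 0, isRoot_sr _ _ 0, ?_⟩ ?_ ?_ (irr_of irrB) ?_ 1 ?_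
    (count CoxeterMatrix.F₄.toCoxeterSystem hp.isCartan)
  · intro s hs t ht
    have := comm_TT hp (K := K) ⟨s, hs⟩ ⟨t, ht⟩
    exact congrArg Subtype.val this
  · rw [parity, sr_self]
    decide
  · rw [Nodes.KindF.cpr_fr]
    decide
  · rw [Nodes.KindF.cpr_fr]
    decide
  · intro k
    fin_cases k
    · exact ⟨1, by decide, by decide, hR 1 (by decide)⟩
    · exact ⟨0, by decide, by decide, hR 0 (by decide)⟩
    · exact ⟨1, by decide, by decide, hR 1 (by decide)⟩
    · exact ⟨2, by decide, by decide, hR 2 (by decide)⟩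
  · intro k hk
    fin_cases k
    · exact ⟨_, (BFour.rep_link (cs := MB.toCoxeterSystem) (h := isCartanB) (a := 1) (b := 0) rfl rfl).symm⟩
    · exact ⟨1, by rw [map_one, Module.End.one_apply]; rfl⟩
    · exact ⟨_, (BFour.rep_link (cs := MB.toCoxeterSystem) (h := isCartanB) (a := 1) (b := 2) rfl rfl).symm⟩
    · exact absurd hk hR3

/-- **Row `F4(3)`.** -/
theorem row_F4 {X : Type*} [Group X] (h : LieOddFam.FF4 X 3) : HasYF X := by
  obtain ⟨F, _, _, hF, ⟨e⟩⟩ := h
  exact Congr.hasYF_congr e.symm (hasYF_F4 hF)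

end Cfsg.Agent.OddHalf.NI3.K.F4
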