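import Cfsg.Agent.OddHalf.NI3.Props
import Cfsg.Agent.OddHalf.NI3.Lift
import Cfsg.Agent.OddHalf.NI3.FrameEven
import Cfsg.Agent.GH.Cov.QuatTop
import Cfsg.Agent.Intrinsic.RedQuot

/-!
# `HasYF` lifts to covers by 2-groups (NI over `F_3`, F13 (R7))

`f : E → Y` surjective, the kernel a central 2-group, `E` finite. For `B ≤ Y` perfect the subgroup `Lft f B` generated by
the elements of odd order over `B` is perfect and maps onto `B`.

* `hasY_of_lift` : `HasYF Y → HasY E` (with (T'_3)).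
-/

set_option autoImplicit false

namespace Cfsg.Agent.OddHalf.NI3.K.LiftY

open Subgroup Cfsg Cfsg.Agent.GH.Cov.Lft Cfsg.Agent.OddHalf.LieOddFam
open Cfsg.Agent.OddHalf.NI (CompIn Even8 IsSL)
open scoped commutatorElement

universe u v

variable {E : Type u} {Y : Type v} [Group E] [Group Y] {f : E →* Y}

/-- a perfect subgroup is generated by its elements of odd order -/
theorem le_closure_odd [Finite Y] {B : Subgroup Y} (hB : commutator ↥B = ⊤) :
    B ≤ closure {a : Y | a ∈ B ∧ Odd (orderOf a)} := by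
  have h1 := GH.Cov.QuatTop.closure_odd hB
  have h2 : (⊤ : Subgroup ↥B).map B.subtype = B := by rw [← MonoidHom.range_eq_map, range_subtype]
  conv_lhs => rw [← h2, ← h1, MonoidHom.map_closure]
  refine closure_mono ?_
  rintro _ ⟨a, ha, rfl⟩
  exact ⟨a.2, by rw [coe_subtype, Subgroup.orderOf_coe]; exact ha⟩

/-- `Lft f B → B` -/
def res (f : E →* Y) (B : Subgroup Y) : ↥(Lft f B) →* ↥B :=
  (f.comp (Lft f B).subtype).codRestrict B (fun x => map_mem (π := f) (B := B) x.2)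

theorem res_coe (B : Subgroup Y) (x : ↥(Lft f B)) : ((res f B x : ↥B) : Y) = f x := rfl

theorem res_surjective (hf : CExt f) {B : Subgroup Y} (hB : B ≤ closure {a : Y | a ∈ B ∧ Odd (orderOf a)}) :
    Function.Surjective (res f B) := by
  rintro ⟨y, hy⟩
  obtain ⟨x, hx, hxy⟩ := hf.exists_mem hB hy
  exact ⟨⟨x, hx⟩, Subtype.ext hxy⟩

theorem res_cext (hf : CExt f) {B : Subgroup Y} (hB : B ≤ closure {a : Y | a ∈ B ∧ Odd (orderOf a)}) :
    CExt (res f B) := by
  refine ⟨res_surjective hf hB, ?_, ?_⟩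
  · intro c hc x
    exact Subtype.ext (hf.cen c (congrArg Subtype.val hc) x)
  · intro c hc
    obtain ⟨n, hn⟩ := hf.two c (congrArg Subtype.val hc)
    exact ⟨n, Subtype.ext (by rw [Subgroup.coe_pow]; exact hn)⟩

/-- `Lft f B` is perfect for `B` perfect -/
theorem lft_perfect [Finite E] (hf : CExt f) {B : Subgroup Y} (hB : commutator ↥B = ⊤)
    (hg : B ≤ closure {a : Y | a ∈ B ∧ Odd (orderOf a)}) : commutator ↥(Lft f B) = ⊤ := by
  have hcx := res_cext hf hg
  rw [eq_top_iff, ← Lft_gen' (π := f) B, closure_le]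
  intro x hx
  have hx : Odd (orderOf x) := hx
  have h1 : (commutator ↥(Lft f B)).map (res f B) = ⊤ := by
    rw [commutator_def, Subgroup.map_commutator, ← MonoidHom.range_eq_map, MonoidHom.range_eq_top.2 hcx.surj,
      ← commutator_def, hB]
  obtain ⟨d, hd, hdx⟩ : res f B x ∈ (commutator ↥(Lft f B)).map (res f B) := by rw [h1]; trivial
  obtain ⟨c, rfl⟩ : ∃ c, x = d * c := ⟨d⁻¹ * x, by group⟩
  have hc1 : res f B c = 1 := by
    rw [map_mul] at hdx
    exact (mul_eq_left.1 hdx.symm)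
  obtain ⟨n, hn⟩ := hcx.two c hc1
  have hdc : Commute d c := (hcx.cen c hc1 d).symm
  have h2 : (d * c) ^ 2 ^ n ∈ commutator ↥(Lft f B) := by
    rw [hdc.mul_pow, hn, mul_one]
    exact pow_mem hd _
  obtain ⟨k, hk⟩ : ∃ k : ℕ, ((d * c) ^ 2 ^ n) ^ k = d * c := by
    have h3 : Nat.Coprime (2 ^ n) (orderOf (d * c)) := (Nat.coprime_two_left.2 hx).pow_left n
    obtain ⟨k, hk⟩ := exists_pow_eq_self_of_coprime h3
    exact ⟨k, hk⟩
  change d * c ∈ commutator ↥(Lft f B)
  rw [← hk]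
  exact pow_mem h2 _

/-- the centre of a perfect cover -/
theorem mem_center_iff_res [Finite E] (hf : CExt f) {B : Subgroup Y} (hB : commutator ↥B = ⊤)
    (hg : B ≤ closure {a : Y | a ∈ B ∧ Odd (orderOf a)}) {x : ↥(Lft f B)} :
    x ∈ center ↥(Lft f B) ↔ res f B x ∈ center ↥B := by
  have hcx := res_cext hf hg
  constructor
  · intro hx
    rw [mem_center_iff]
    intro g
    obtain ⟨g, rfl⟩ := hcx.surj g
    rw [← map_mul, ← map_mul, mem_center_iff.1 hx g]
  · intro hx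
    refine Intrinsic.Red.mem_center_of_commutators ⟨lft_perfect hf hB hg⟩ fun k => ?_
    rw [mem_center_iff]
    intro g
    refine (hcx.cen _ ?_ g).symm
    rw [map_mul, map_mul, map_mul, map_inv, map_inv, ← mem_center_iff.1 hx (res f B k)]
    group

theorem lft_quasisimple [Finite E] (hf : CExt f) {B : Subgroup Y} (hB : IsQuasisimple ↥B)
    (hg : B ≤ closure {a : Y | a ∈ B ∧ Odd (orderOf a)}) : IsQuasisimple ↥(Lft f B) ∧
    Nonempty ((↥(Lft f B) ⧸ center ↥(Lft f B)) ≃* (↥B ⧸ center ↥B)) := by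
  have hcx := res_cext hf hg
  have hp := hB.1.commutator_eq_top
  let π : ↥(Lft f B) →* ↥B ⧸ center ↥B := (QuotientGroup.mk' (center ↥B)).comp (res f B)
  have hπ : Function.Surjective π := (QuotientGroup.mk'_surjective _).comp hcx.surj
  have hker : center ↥(Lft f B) = π.ker := by
    ext x
    rw [mem_center_iff_res hf hp hg, MonoidHom.mem_ker]
    exact (QuotientGroup.eq_one_iff _).symm
  let e : (↥(Lft f B) ⧸ center ↥(Lft f B)) ≃* (↥B ⧸ center ↥B) :=
    (QuotientGroup.quotientMulEquivOfEq hker).trans (QuotientGroup.quotientKerEquivOfSurjective π hπ)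
  have hs : IsSimpleGroup (↥B ⧸ center ↥B) := hB.2
  exact ⟨⟨⟨lft_perfect hf hp hg⟩, e.isSimpleGroup⟩, ⟨e⟩⟩

/-- **`HasYF` lifts to covers by 2-groups.** -/
theorem hasY_of_lift {E Y : Type u} [Group E] [Group Y] {f : E →* Y} (hT : FrameFact3.{u}) [Finite E] (hf : CExt f)
    (h : HasYF Y) : HasY E := by
  have hfin : Finite Y := Finite.of_surjective f hf.surj
  obtain ⟨y, M, hyM, hy, hM, h⟩ := h
  have hq := hM.quasi
  have hp := hq.1.commutator_eq_top
  have hg := le_closure_odd hp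
  have hcx := res_cext hf hg
  obtain ⟨hq', ⟨e⟩⟩ := lft_quasisimple hf hq hg
  have hyZ : (⟨y, hyM⟩ : ↥M) ∈ center ↥M := by
    rw [mem_center_iff]
    intro g
    exact Subtype.ext (mem_centralizer_singleton_iff.1 (hM.le g.2))
  -- a preimage of `y` of order two gives a component
  have key : ∀ y' : ↥(Lft f M), res f M y' = ⟨y, hyM⟩ →
      CompIn (centralizer ({(y' : E)} : Set E)) (Lft f M) := by
    intro y' hy'
    have hfy : f (y' : E) = y := congrArg Subtype.val hy'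
    have hc : y' ∈ center ↥(Lft f M) := (mem_center_iff_res hf hp hg).2 (by rw [hy']; exact hyZ)
    have hle : Lft f M ≤ centralizer ({(y' : E)} : Set E) := by
      intro x hx
      rw [mem_centralizer_singleton_iff]
      exact congrArg Subtype.val (mem_center_iff.1 hc ⟨x, hx⟩)
    refine ⟨hle, lft_subnormal ?_ hle hM.comp.1, ?_⟩
    · intro x hx
      rw [mem_centralizer_singleton_iff] at hx ⊢
      rw [← hfy, ← map_mul, hx, map_mul]
    · exact (SignalizersComponents.Components.isQuasisimple_congr (Subgroup.subgroupOfEquivOfLe hle)).mpr hq'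
  have ho : ∀ y' : ↥(Lft f M), orderOf y' = 2 → orderOf (y' : E) = 2 := fun y' h => by
    rw [Subgroup.orderOf_coe]; exact h
  -- frames lift
  have hfr : Nonempty (Frame3 ↥M ⟨y, hyM⟩) → ∃ y' : ↥(Lft f M), res f M y' = ⟨y, hyM⟩ ∧
      Nonempty (Frame3 ↥(Lft f M) y') ∧ Even8 y' := by
    rintro ⟨fr⟩
    obtain ⟨y', h1, ⟨h2⟩⟩ := Frame3.lift hcx fr
    refine ⟨y', h1, ⟨h2⟩, h2.even8 ?_⟩
    rintro rfl
    rw [map_one] at h1
    have h3 : y = 1 := (congrArg Subtype.val h1).symm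
    rw [h3, orderOf_one] at hy
    exact absurd hy (by decide)
  rcases h with ⟨hr, he, h2⟩ | ⟨hc3, hF⟩ | ⟨hSL, hyc⟩
  · obtain ⟨y', h1, -, h3⟩ := hfr (hT ↥M hq h2 hr _ hyZ he)
    refine ⟨y', Lft f M, y'.2, ho y' h3.1, key y' h1, Or.inl ⟨rk_congr e.symm hr, h3⟩⟩
  · obtain ⟨y', h1, h2, h3⟩ := hfr hF
    refine ⟨y', Lft f M, y'.2, ho y' h3.1, key y' h1, Or.inr (Or.inl ⟨?_, h2⟩)⟩
    exact hc3.trans (Subgroup.card_dvd_of_surjective (res f M) hcx.surj)
  · obtain ⟨F, i1, i2, hodd, h3, ⟨s⟩⟩ := hSL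
    let φ := liftEquiv hf hodd s
    have hφ : ∀ x, φ x = res f M x := fun x => rfl
    have h1 : res f M (φ.symm ⟨y, hyM⟩) = ⟨y, hyM⟩ := by rw [← hφ, φ.apply_symm_apply]
    have h2 : orderOf (φ.symm ⟨y, hyM⟩) = 2 := by
      rw [MulEquiv.orderOf_eq, Subgroup.orderOf_mk, hy]
    refine ⟨(φ.symm ⟨y, hyM⟩ : ↥(Lft f M)), Lft f M, (φ.symm ⟨y, hyM⟩).2, ho _ h2, key _ h1,
      Or.inr (Or.inr ⟨⟨F, i1, i2, hodd, h3, ⟨φ.trans s⟩⟩, ?_⟩)⟩
    intro hc
    apply hyc
    rw [mem_center_iff] at hc ⊢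
    intro g
    obtain ⟨g, rfl⟩ := hf.surj g
    have h4 := congrArg f (hc g)
    have h5 : f ((φ.symm ⟨y, hyM⟩ : ↥(Lft f M)) : E) = y := congrArg Subtype.val h1
    rw [map_mul, map_mul, h5] at h4
    exact h4

end Cfsg.Agent.OddHalf.NI3.K.LiftY
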