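import Cfsg.Agent.OddHalf.NI3.K.OrthFrame

/-!
# The orthogonal groups over the field with three elements have `(y, M)` with `Z(M)` a 2-group (NI over F_3, R3/R7)

`K = PΩ(V)`, `V = W ⊥ W'`, `W` hyperbolic of dimension 8, `dim W' > 0`, `|F| = 3`: `y = -1_W`, `M = Ω(W) ≃ Ω₈⁺(3)` is a
component of `C_K(y)`, `y ∈ M` even.
-/

set_option autoImplicit false

namespace Cfsg.Agent.OddHalf.NI3.K.OrthY

open QuadraticMap Cfsg
open Cfsg.Agent.LieClassical Cfsg.Agent.LieClassical.OrthCore Cfsg.Agent.LieClassical.OrthForms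
  Cfsg.Agent.LieClassical.OrthTrans Cfsg.Agent.LieClassical.OrthSimple Cfsg.Agent.LieClassical.OrthFinite
open Cfsg.Agent.TitsThree Cfsg.Agent.TitsThree.Siegel Cfsg.Agent.TitsThree.SiegelGen
  Cfsg.Agent.TitsThree.KSideO Cfsg.Agent.TitsThree.WBridge
open Cfsg.Agent.Nodes.RGDOrth
open Cfsg.Agent.SignalizersComponents
open Cfsg.Agent.OddHalf.NI3.K.OrthEmb Cfsg.Agent.OddHalf.NI3.K.OrthEmb.Emb Cfsg.Agent.OddHalf.NI3.K.OrthFrame
open Cfsg.Agent.OddHalf.NI (Even8 CompIn)
open Cfsg.Agent.OddHalf.LieOddFam (Rk FPlus)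

/-! ### An abstract criterion -/

section Abs

variable {A H K : Type*} [Group A] [Group H] [Group K]

/-- `π : H → K` surjective with central kernel, `j : A → H`, `n ∈ A` central, the image of `j` normalised by
`C_H(j n)`, `A` quasisimple, `π j` injective: the image of `A` is a component of `C_K(π j n)`. -/
theorem compIn_of (hA : IsQuasisimple A) (π : H →* K) (hπ : Function.Surjective π)
    (hker : ∀ h, π h = 1 → h ∈ Subgroup.center H) (j : A →* H) (hinj : Function.Injective (π.comp j)) {n : A}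
    (hn : ∀ a, n * a = a * n)
    (hnorm : ∀ h : H, h * j n = j n * h → ∀ a : A, ∃ b : A, h * j a * h⁻¹ = j b) :
    CompIn (Subgroup.centralizer ({π (j n)} : Set K)) (π.comp j).range := by
  have hmemC : ∀ x : K, x ∈ Subgroup.centralizer ({π (j n)} : Set K) ↔ x * π (j n) = π (j n) * x := by
    intro x
    rw [Subgroup.mem_centralizer_iff]
    constructor
    · intro h; exact (h _ rfl).symm
    · rintro h _ rfl; exact h.symm
  have hle : (π.comp j).range ≤ Subgroup.centralizer ({π (j n)} : Set K) := by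
    rintro _ ⟨a, rfl⟩
    rw [hmemC]
    show π (j a) * π (j n) = π (j n) * π (j a)
    rw [← map_mul, ← map_mul, ← map_mul, ← map_mul, hn]
  refine ⟨hle, ?_, ?_⟩
  · -- subnormal
    set N : Subgroup K := (Subgroup.centralizer ({j n} : Set H)).map π with hN
    have hmemN : ∀ h : H, h ∈ Subgroup.centralizer ({j n} : Set H) ↔ h * j n = j n * h := by
      intro h
      rw [Subgroup.mem_centralizer_iff]
      constructor
      · intro h; exact (h _ rfl).symm
      · rintro h _ rfl; exact h.symm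
    have hNC : N ≤ Subgroup.centralizer ({π (j n)} : Set K) := by
      rintro _ ⟨h, hh, rfl⟩
      rw [hmemC, ← map_mul, (hmemN h).1 hh, map_mul]
    have hMN : (π.comp j).range ≤ N := by
      rintro _ ⟨a, rfl⟩
      refine ⟨j a, ?_, rfl⟩
      rw [SetLike.mem_coe, hmemN, ← map_mul, ← map_mul, hn]
    have s1 : (N.subgroupOf (Subgroup.centralizer ({π (j n)} : Set K))).IsSubnormal := by
      apply Subgroup.Normal.isSubnormal
      refine ⟨fun x hx g => ?_⟩
      rw [Subgroup.mem_subgroupOf] at hx ⊢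
      obtain ⟨h, hh, hhx⟩ := hx
      obtain ⟨g', hg'⟩ := hπ g.1
      have hgC := (hmemC g.1).1 g.2
      refine ⟨g' * h * g'⁻¹, ?_, ?_⟩
      swap
      · rw [map_mul, map_mul, map_inv, hhx, hg']; rfl
      rw [SetLike.mem_coe, hmemN] at hh ⊢
      have hz : (j n)⁻¹ * (g' * j n * g'⁻¹) ∈ Subgroup.center H := by
        apply hker
        rw [map_mul, map_mul, map_mul, map_inv, map_inv, hg', hgC]
        group
      rw [Subgroup.mem_center_iff] at hz
      set z := (j n)⁻¹ * (g' * j n * g'⁻¹) with hzd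
      have h1 : g' * j n * g'⁻¹ = j n * z := by rw [hzd]; group
      have h2 : j n = g' * j n * g'⁻¹ * z⁻¹ := by rw [h1]; group
      have h3 : g' * h * g'⁻¹ * (g' * j n * g'⁻¹) = g' * j n * g'⁻¹ * (g' * h * g'⁻¹) := by
        calc g' * h * g'⁻¹ * (g' * j n * g'⁻¹) = g' * (h * j n) * g'⁻¹ := by group
          _ = g' * (j n * h) * g'⁻¹ := by rw [hh]
          _ = g' * j n * g'⁻¹ * (g' * h * g'⁻¹) := by group
      have h4 : ∀ w : H, w * z⁻¹ = z⁻¹ * w := fun w => by
        have := hz w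
        rw [eq_inv_mul_iff_mul_eq, ← mul_assoc, ← this]
        group
      calc g' * h * g'⁻¹ * j n = g' * h * g'⁻¹ * (g' * j n * g'⁻¹ * z⁻¹) := by rw [← h2]
        _ = g' * h * g'⁻¹ * (g' * j n * g'⁻¹) * z⁻¹ := by group
        _ = g' * j n * g'⁻¹ * (g' * h * g'⁻¹) * z⁻¹ := by rw [h3]
        _ = g' * j n * g'⁻¹ * z⁻¹ * (g' * h * g'⁻¹) := by rw [mul_assoc _ _ z⁻¹, h4, ← mul_assoc]
        _ = j n * (g' * h * g'⁻¹) := by rw [← h2]
    have s2 : ((π.comp j).range.subgroupOf N).IsSubnormal := by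
      apply Subgroup.Normal.isSubnormal
      refine ⟨fun x hx g => ?_⟩
      rw [Subgroup.mem_subgroupOf] at hx ⊢
      obtain ⟨a, ha⟩ := hx
      obtain ⟨h, hh, hg⟩ := g.2
      rw [SetLike.mem_coe, hmemN] at hh
      obtain ⟨b, hb⟩ := hnorm h hh a
      refine ⟨b, ?_⟩
      show π (j b) = g.1 * x.1 * g.1⁻¹
      rw [← hb, map_mul, map_mul, map_inv, hg, ← ha]
      rfl
    refine Subgroup.IsSubnormal.trans (K := N.subgroupOf _) ?_ ?_ s1
    · exact Subgroup.comap_mono hMN
    · have e1 : (((π.comp j).range.subgroupOf (Subgroup.centralizer ({π (j n)} : Set K))).subgroupOf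
          (N.subgroupOf (Subgroup.centralizer ({π (j n)} : Set K)))) =
          ((π.comp j).range.subgroupOf N).comap (Subgroup.subgroupOfEquivOfLe hNC).toMonoidHom := by
        ext x
        rfl
      rw [e1]
      exact s2.comap _
  · have e : A ≃* ↥((π.comp j).range) := MonoidHom.ofInjective hinj
    exact Components.isQuasisimple_of_mulEquiv (e.trans (Subgroup.subgroupOfEquivOfLe hle).symm) hA

end Abs

/-! ### `E Q` -/

theorem isQuasisimple_E {F V : Type*} [Field F] [AddCommGroup V] [Module F V] {Q : QuadraticForm F V} (hG : Good Q) :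
    IsQuasisimple ↥(E Q) :=
  ⟨Subgroup.isPerfect_iff.mpr hG.E_perfect, good_isSimpleGroup hG⟩

/-- over the field with three elements the centre of `E Q` is a 2-group -/
theorem center_two {F V : Type*} [Field F] [Fintype F] [AddCommGroup V] [Module F V] {Q : QuadraticForm F V}
    (hG : Good Q) (h3 : Fintype.card F = 3) : IsPGroup 2 ↥(Subgroup.center ↥(E Q)) := by
  intro g
  refine ⟨1, ?_⟩
  obtain ⟨c, hc⟩ := scalar_of_center hG g.2
  apply Subtype.ext
  apply Subtype.ext
  ext1 v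
  show ((g.1.1) ^ 2 ^ 1 : V ≃ₗ[F] V) v = v
  have h1 : ((g.1.1) ^ 2 ^ 1 : V ≃ₗ[F] V) v = g.1.1 (g.1.1 v) := by
    rw [pow_one, pow_two]; rfl
  rw [h1, hc, hc, smul_smul]
  by_cases hv : v = 0
  · rw [hv, smul_zero]
  have hc0 : c ≠ 0 := by
    intro h0
    have h2 := hc v
    rw [h0, zero_smul] at h2
    exact hv ((map_eq_zero_iff g.1.1 g.1.1.injective).1 h2)
  have h4 : c ^ 2 = 1 := by
    have := FiniteField.pow_card_sub_one_eq_one c hc0
    rwa [h3] at this
  rw [← pow_two, h4, one_smul]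

section Main

variable {ι : Type} [Fintype ι] [DecidableEq ι] {F : Type} [Field F] [Fintype F] {Q : QuadraticForm F (ι → F)}

/-- the map `E Q₁ → E Q` -/
def hE {Q₁ : QuadraticForm F (Fin 4 ⊕ Fin 4 → F)} (e : Emb Q₁ Q) : ↥(E Q₁) →* ↥(E Q) :=
  (e.hom.comp (E Q₁).subtype).codRestrict (E Q) fun g => e.hom_mem_E g.2

omit [Fintype F] in
theorem injective_comp (hG : Good Q) {Q₁ : QuadraticForm F (Fin 4 ⊕ Fin 4 → F)} (e : Emb Q₁ Q)
    (hd : 8 < Fintype.card ι) : Function.Injective ((toPOmega hG).comp (hE e)) := by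
  rw [injective_iff_map_eq_one]
  intro g hg
  obtain ⟨c, hc⟩ := scalar_of_center hG (center_of_toPOmega hG hg)
  have h1 : Module.finrank F (Fin 4 ⊕ Fin 4 → F) < Module.finrank F (ι → F) := by
    rw [Module.finrank_fintype_fun_eq_card, Module.finrank_fintype_fun_eq_card, Fintype.card_sum, Fintype.card_fin]
    omega
  obtain ⟨v, hv, hv0⟩ := (Submodule.ne_bot_iff _).1 (LinearMap.ker_ne_bot_of_finrank_lt (f := e.c) h1)
  have hcv : e.c v = 0 := hv
  have h2 : e.hom g.1 v = c • v := hc v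
  rw [hom_apply, hcv, map_zero, sub_zero, map_zero, add_zero] at h2
  have h3 : c = 1 := by
    have h4 : (1 - c) • v = 0 := by rw [sub_smul, one_smul, ← h2, sub_self]
    have h5 := (smul_eq_zero.1 h4).resolve_right hv0
    exact (sub_eq_zero.1 h5).symm
  apply Subtype.ext
  apply e.hom_injective
  rw [Subgroup.coe_one, map_one]
  ext1 w
  have h6 : e.hom g.1 w = c • w := hc w
  rw [h6, h3, one_smul]
  rfl

/-- **HasYF for the orthogonal groups containing `Ω₈⁺(3)` properly.** -/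
theorem hasY_of_emb {K : Type*} [Group K] (f : K ≃* Cfsg.POmega F ⇑Q) (hG : Good Q) (e : Emb (plusForm 4 F) Q)
    (h3 : Fintype.card F = 3) (hd : 8 < Fintype.card ι) : HasYF K := by
  have h30 : (3 : F) = 0 := by
    have h := FiniteField.cast_card_eq_zero F
    rw [h3] at h
    exact_mod_cast h
  have h2 : (2 : F) ≠ 0 := by
    intro h
    apply one_ne_zero (α := F)
    linear_combination h30 - h
  have hG₁ : Good (plusForm 4 F) := by
    apply good_of_finite (nondeg_plusForm 4 F)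
    rw [Module.finrank_fintype_fun_eq_card, Fintype.card_sum, Fintype.card_fin]
    omega
  obtain ⟨π, hπ⟩ : ∃ π : ↥(E Q) →* K, π = f.symm.toMonoidHom.comp (toPOmega hG) := ⟨_, rfl⟩
  have hπs : Function.Surjective π := by
    rw [hπ]
    exact f.symm.surjective.comp (toPOmega_surjective hG)
  have hπk : ∀ h, π h = 1 → h ∈ Subgroup.center ↥(E Q) := by
    intro h hh
    rw [hπ] at hh
    exact center_of_toPOmega hG (f.symm.injective (hh.trans (map_one f.symm).symm))
  have hinj : Function.Injective (π.comp (hE e)) := by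
    rw [hπ]
    exact f.symm.injective.comp (injective_comp hG e hd)
  set ψ := π.comp (hE e) with hψ
  have hy1 : ψ (nE F) ≠ 1 := fun h => nE_ne F h2 ((injective_iff_map_eq_one ψ).1 hinj _ h)
  let eM : ↥(E (plusForm 4 F)) ≃* ↥ψ.range := MonoidHom.ofInjective hinj
  refine ⟨ψ (nE F), ψ.range, ⟨_, rfl⟩, ?_, ?_, Or.inl ⟨?_, ?_, ?_⟩⟩
  · rw [orderOf_injective ψ hinj, orderOf_nE F h2]
  · refine compIn_of (isQuasisimple_E hG₁) π hπs hπk (hE e) hinj (n := nE F) (nE_comm F) ?_
    intro h hh a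
    obtain ⟨g₁, hg₁, hc⟩ := e.exists_conj h2 (E_le_O h.2) (congrArg Subtype.val hh)
    exact ⟨⟨g₁ * a.1 * g₁⁻¹, conj_mem_E hg₁ a.2⟩, Subtype.ext (hc a.1)⟩
  · -- the type of `M`
    have e1 : ↥ψ.range ≃* Cfsg.Omega F ⇑(plusForm 4 F) := eM.symm.trans (toOmega hG₁)
    have e2 : (↥ψ.range ⧸ Subgroup.center ↥ψ.range) ≃* Cfsg.POmega F ⇑(plusForm 4 F) :=
      QuotientGroup.congr _ _ e1 (by
        ext x
        rw [Subgroup.mem_map, Subgroup.mem_center_iff]
        constructor
        · rintro ⟨z, hz, rfl⟩ g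
          have := (Subgroup.mem_center_iff.1 hz) (e1.symm g)
          have h5 := congrArg e1 this
          rw [map_mul, map_mul, e1.apply_symm_apply] at h5
          exact h5
        · intro h
          refine ⟨e1.symm x, Subgroup.mem_center_iff.2 fun g => ?_, e1.apply_symm_apply x⟩
          apply e1.injective
          rw [map_mul, map_mul, e1.apply_symm_apply]
          exact h _)
    have hp : FPlus (↥ψ.range ⧸ Subgroup.center ↥ψ.range) 3 :=
      ⟨F, inferInstance, inferInstance, 4, h3, le_rfl, ⟨e2.trans (by rw [coe_plusForm])⟩⟩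
    unfold Rk
    tauto
  · have h5 := (even8 F h3).map eM.toMonoidHom (fun h => hy1 (congrArg Subtype.val h))
    exact h5
  · intro x
    have hx : eM.symm x.1 ∈ Subgroup.center ↥(E (plusForm 4 F)) := by
      rw [Subgroup.mem_center_iff]
      intro g
      apply eM.injective
      rw [map_mul, map_mul, eM.apply_symm_apply]
      exact (Subgroup.mem_center_iff.1 x.2) _
    obtain ⟨k, hk⟩ := center_two hG₁ h3 ⟨_, hx⟩
    refine ⟨k, ?_⟩
    have h6 : (eM.symm x.1) ^ 2 ^ k = 1 := congrArg Subtype.val hk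
    rw [← map_pow] at h6
    exact Subtype.ext (eM.symm.injective (h6.trans (map_one _).symm))

end Main

/-! ### The rows -/

section Rows

variable {K : Type*} [Group K] {F : Type} [Field F] [Fintype F] {m : ℕ}

omit [Fintype F] in
theorem two_ne [Fintype F] (h3 : Fintype.card F = 3) : (2 : F) ≠ 0 := by
  have h30 : (3 : F) = 0 := by
    have h := FiniteField.cast_card_eq_zero F
    rw [h3] at h
    exact_mod_cast h
  intro h
  apply one_ne_zero (α := F)
  linear_combination h30 - h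

/-- **`PΩ_{2m+1}(3)`, `m ≥ 4`.** -/
theorem hasY_odd (h3 : Fintype.card F = 3) (hm : 4 ≤ m) (f : K ≃* Cfsg.POmega F (Cfsg.quadFormOdd m F)) : HasYF K := by
  rw [← coe_oddForm] at f
  have hG : Good (oddForm m F) := by
    apply good_of_finite (nondeg_oddForm m F (two_ne h3))
    rw [Module.finrank_fintype_fun_eq_card, Fintype.card_sum, Fintype.card_sum, Fintype.card_fin,
      Fintype.card_unit]
    omega
  refine hasY_of_emb f hG (ofW (wodd m F) hm (two_ne h3)) h3 ?_
  rw [Fintype.card_sum, Fintype.card_sum, Fintype.card_fin, Fintype.card_unit]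
  omega

/-- **`PΩ⁺_{2m}(3)`, `m ≥ 5`.** -/
theorem hasY_plus (h3 : Fintype.card F = 3) (hm : 5 ≤ m) (f : K ≃* Cfsg.POmega F (Cfsg.quadFormPlus m F)) :
    HasYF K := by
  rw [← coe_plusForm] at f
  have hG : Good (plusForm m F) := by
    apply good_of_finite (nondeg_plusForm m F)
    rw [Module.finrank_fintype_fun_eq_card, Fintype.card_sum, Fintype.card_fin]
    omega
  refine hasY_of_emb f hG (ofW (wplus m F) (by omega) (two_ne h3)) h3 ?_
  rw [Fintype.card_sum, Fintype.card_fin]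
  omega

/-- **`PΩ⁻_{2m+2}(3)`, `m ≥ 4`.** -/
theorem hasY_minus (h3 : Fintype.card F = 3) {a b : F}
    (hab : ∀ z₁ z₂ : F, z₁ ^ 2 + a * z₁ * z₂ + b * z₂ ^ 2 = 0 → z₁ = 0 ∧ z₂ = 0) (hm : 4 ≤ m)
    (f : K ≃* Cfsg.POmega F (Cfsg.quadFormMinus m F a b)) : HasYF K := by
  rw [← coe_minusForm] at f
  have hG : Good (minusForm m F a b) := by
    apply good_of_finite (nondeg_minusForm m F a b hab)
    rw [Module.finrank_fintype_fun_eq_card, Fintype.card_sum, Fintype.card_sum, Fintype.card_fin,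
      Fintype.card_fin]
    omega
  refine hasY_of_emb f hG (ofW (wminus m F a b hab) hm (two_ne h3)) h3 ?_
  rw [Fintype.card_sum, Fintype.card_sum, Fintype.card_fin, Fintype.card_fin]
  omega

/-- the row `PΩ_{2m+1}(3)` of F13: everything but `PΩ₇(3)` -/
theorem row_odd (h : LieOddFam.FOdd K 3)
    (hs : ¬ ∃ (F : Type) (_ : Field F) (_ : Fintype F), Fintype.card F = 3 ∧
      Nonempty (K ≃* Cfsg.POmega F (Cfsg.quadFormOdd 3 F))) : HasYF K := by
  obtain ⟨F, _, _, m, h3, hm, ⟨f⟩⟩ := h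
  rcases Nat.lt_or_ge m 4 with h4 | h4
  · have : m = 3 := by omega
    subst this
    exact absurd ⟨F, inferInstance, inferInstance, h3, ⟨f⟩⟩ hs
  · exact hasY_odd h3 h4 f

/-- the row `PΩ⁺_{2m}(3)` of F13: everything but `PΩ⁺₈(3)` -/
theorem row_plus (h : LieOddFam.FPlus K 3)
    (hs : ¬ ∃ (F : Type) (_ : Field F) (_ : Fintype F), Fintype.card F = 3 ∧
      Nonempty (K ≃* Cfsg.POmega F (Cfsg.quadFormPlus 4 F))) : HasYF K := by
  obtain ⟨F, _, _, m, h3, hm, ⟨f⟩⟩ := h
  rcases Nat.lt_or_ge m 5 with h4 | h4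
  · have : m = 4 := by omega
    subst this
    exact absurd ⟨F, inferInstance, inferInstance, h3, ⟨f⟩⟩ hs
  · exact hasY_plus h3 h4 f

/-- the row `PΩ⁻_{2m}(3)` of F13: everything but `PΩ⁻₈(3)` -/
theorem row_minus (h : LieOddFam.FMinus K 3)
    (hs : ¬ ∃ (F : Type) (_ : Field F) (_ : Fintype F) (b c : F), Fintype.card F = 3 ∧
      (∀ z₁ z₂ : F, z₁ ^ 2 + b * z₁ * z₂ + c * z₂ ^ 2 = 0 → z₁ = 0 ∧ z₂ = 0) ∧
      Nonempty (K ≃* Cfsg.POmega F (Cfsg.quadFormMinus 3 F b c))) : HasYF K := by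
  obtain ⟨F, _, _, m, b, c, h3, hm, hab, ⟨f⟩⟩ := h
  rcases Nat.lt_or_ge m 5 with h4 | h4
  · have : m = 4 := by omega
    subst this
    exact absurd ⟨F, inferInstance, inferInstance, b, c, h3, hab, ⟨f⟩⟩ hs
  · exact hasY_minus h3 hab (by omega) f

end Rows

end Cfsg.Agent.OddHalf.NI3.K.OrthY
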