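import Cfsg.Agent.OddHalf.NI3.K.Sp
import Cfsg.Agent.OddHalf.NI.SUBlocks
import Cfsg.Agent.S0283

/-!
# Row (R1), unitary half, of F13 (NI over F_3; bb ODD #14361)

`PSU_n(3)`, `n ≥ 5`, has `HasY`: `y` is the image of `-1 ⊕ 1`, `M` the image of `SU₄(3) ⊕ 1`.
-/

set_option autoImplicit false

namespace Cfsg.Agent.OddHalf.NI3.K.SU

open Matrix Subgroup Cfsg Cfsg.Agent.OddHalf.LieOddFam Cfsg.Agent.Phan Cfsg.Agent.LieClassical.SUBasic
open Cfsg.Agent.OddHalf.NI (Even8 Blocks)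
open Cfsg.Agent.OddHalf.NI.Blocks (negOne)
open Cfsg.Agent.OddHalf.NI.SUBlocks (neg mat_neg ext_conj act)
open scoped commutatorElement

universe u

variable {F : Type} [Field F] [Fintype F] {q n : ℕ}

/-- `-1 ∈ SU_{2m}` is central -/
theorem neg_mem_center (hF : Fintype.card F = q ^ 2) (m : ℕ) : neg m F hF ∈ center (SU (2 * m) F q) := by
  rw [mem_center_iff]
  intro g
  apply mat_inj
  rw [mat_mul, mat_mul, mat_neg, Matrix.mul_neg, Matrix.neg_mul, Matrix.mul_one, Matrix.one_mul]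

/-- `-1 ∈ SU₄(3)` is even -/
theorem even8_neg (hF : Fintype.card F = q ^ 2) (hq : q = 3) : Even8 (neg 2 F hF : SU (2 * 2) F q) := by
  subst hq
  have hodd : Odd 3 := by decide
  obtain ⟨K, _, _, hK⟩ := Cfsg.Agent.S0280.exists_field hF
  obtain ⟨σ⟩ := Cfsg.Agent.S0281.result hF hK
  have h2 : (2 : K) ≠ 0 := NI.Blocks.two_ne_zero_of_odd (by rw [hK]; exact hodd)
  have h3 : (3 : K) = 0 := by
    have := FiniteField.cast_card_eq_zero K
    rw [hK] at this
    exact_mod_cast this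
  let B := NI.SUBlocks.blocks (F := F) hF hodd h2 σ.symm (le_refl 2)
  let c : Matrix.SpecialLinearGroup (Fin 2) K →* SU (2 * 2) F 3 :=
    { toFun := fun a => B.e 0 a * B.e 1 a
      map_one' := by rw [map_one, map_one, one_mul]
      map_mul' := fun a b => by
        rw [map_mul, map_mul]
        calc B.e 0 a * B.e 0 b * (B.e 1 a * B.e 1 b) = B.e 0 a * (B.e 0 b * B.e 1 a) * B.e 1 b := by group
          _ = B.e 0 a * (B.e 1 a * B.e 0 b) * B.e 1 b := by rw [B.comm 0 1 (by decide)]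
          _ = _ := by group }
  have h1 : c (negOne K) = neg 2 F hF := by
    apply mat_inj
    apply Matrix.ext_of_mulVec_single
    intro j
    funext x
    change (mat (NI.SUBlocks.e hF σ.symm 0 (negOne K) * NI.SUBlocks.e hF σ.symm 1 (negOne K)) *ᵥ _) x = _
    rw [mat_mul, ← Matrix.mulVec_mulVec, act hF hodd h2, act hF hodd h2, mat_neg, Matrix.neg_mulVec, Matrix.one_mulVec,
      Pi.neg_apply]
    have hx : (x : ℕ) < 4 := x.2
    by_cases h0 : (x : ℕ) / 2 = 0
    · rw [if_pos (by simpa using h0), if_neg (by simp; omega)]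
    · rw [if_neg (by simpa using h0), if_pos (by simp; omega)]
  rw [← h1]
  refine (Sp.even8_negOne h3 h2).map c ?_
  rw [h1]
  intro h
  have h4 := congrArg mat h
  rw [mat_neg, mat_one] at h4
  have h5 := congrFun (congrFun h4 0) 0
  rw [Matrix.neg_apply, Matrix.one_apply_eq] at h5
  exact Phan.two_ne_zero_of_odd hF hodd (by linear_combination (-1 : F) * h5)

theorem emb_center (hF : Fintype.card F = q ^ 2) {l : ℕ} (hl : 0 + l ≤ n) (hln : l < n) (hn : 3 ≤ n)
    {a : SU l F q} (h : emb hF 0 hl a ∈ center (SU n F q)) : a = 1 := by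
  obtain ⟨r, hr, hr', h⟩ := (mem_center_SU_iff hF (by omega) _).1 h
  have h1 : mat (emb hF 0 hl a : SU n F q) = diagonal fun _ => r := by
    rw [h]; exact coe_suScalar ..
  have h3 := emb_mulVec_lt hF hl a (fun _ => 1)
    (x := ⟨l, hln⟩) (by change l < _ ∨ _ ≤ l; omega)
  rw [h1, mulVec_diagonal, mul_one] at h3
  apply emb_injective hF 0 hl
  apply mat_inj
  rw [map_one, mat_one, h1, h3, diagonal_one]

/-- the centre of `SU₄(3)` is a 2-group -/
theorem center_two (hF : Fintype.card F = q ^ 2) : IsPGroup 2 ↥(center (SU (2 * 2) F q)) := by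
  rintro ⟨A, hA⟩
  refine ⟨2, Subtype.ext ?_⟩
  rw [Subgroup.coe_pow, Subgroup.coe_one]
  change A ^ (2 ^ 2) = 1
  obtain ⟨r, hr, hr', rfl⟩ := (mem_center_SU_iff hF (by omega) A).1 hA
  apply mat_inj
  have h1 : mat (suScalar q r hr hr' : SU (2 * 2) F q) = diagonal fun _ => r := coe_suScalar ..
  rw [mat_one, show (2 : ℕ) ^ 2 = 1 + 1 + 1 + 1 by norm_num, pow_succ, pow_succ, pow_succ, pow_one, mat_mul, mat_mul,
    mat_mul, h1, diagonal_mul_diagonal, diagonal_mul_diagonal, diagonal_mul_diagonal]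
  have h2 : r * r * r * r = 1 := by
    rw [← hr]; ring
  simp only [h2, diagonal_one]

/-- **row (R1)**, unitary half, for the model -/
theorem hasYF_of_equiv {F : Type} [Field F] [Fintype F] (hF : Fintype.card F = 3 ^ 2) {n : ℕ} (hn : 5 ≤ n)
    {K : Type u} [Group K] (f : K ≃* PSU n F 3) : HasYF K := by
  have hodd : Odd 3 := by decide
  have hqs : IsQuasisimple ↥(SU (2 * 2) F 3) :=
    ⟨⟨Cfsg.Agent.LieClassical.HermPerfect.commutator_SU_eq_top hF (by omega) (by omega)⟩,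
      Cfsg.Agent.S0283.result hF (2 * 2) (by omega) (by omega)⟩
  have hr : Rk (↥(SU (2 * 2) F 3) ⧸ center ↥(SU (2 * 2) F 3)) 3 :=
    Or.inr (Or.inr (Or.inl ⟨F, _, _, 2 * 2, by omega, by omega, ⟨MulEquiv.refl _⟩⟩))
  let φ : SU n F 3 →* K := f.symm.toMonoidHom.comp (QuotientGroup.mk' _)
  have hs : Function.Surjective φ := f.symm.surjective.comp (QuotientGroup.mk'_surjective _)
  have hker : φ.ker = center (SU n F 3) := by
    ext x
    rw [MonoidHom.mem_ker]
    change f.symm (QuotientGroup.mk' _ x) = 1 ↔ _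
    rw [map_eq_one_iff _ f.symm.injective]
    exact QuotientGroup.eq_one_iff x
  have hl : 0 + 2 * 2 ≤ n := by omega
  refine hasYF_of_block φ hs hker.le (emb hF 0 hl) hqs (neg_mem_center hF 2) (even8_neg hF rfl) hr (center_two hF)
    ?_ ?_
  · intro g hg a
    obtain ⟨b, hb⟩ := ext_conj hF (sh_injective _ _) (Phan.two_ne_zero_of_odd hF hodd) (mat_neg hF) hg a
    exact ⟨b, hb⟩
  · rw [injective_iff_map_eq_one]
    intro a ha
    have h1 : emb hF 0 hl a ∈ φ.ker := by simpa using ha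
    rw [hker] at h1
    exact emb_center hF hl (by omega) (by omega) h1

/-- **row (R1)**, unitary half: `PSU_n(3)`, `n ≥ 5`, has `HasYF`. -/
theorem row_su {K : Type u} [Group K] (h : FU K 3)
    (h3 : ¬ ∃ (F : Type) (_ : Field F) (_ : Fintype F), Fintype.card F = 9 ∧ Nonempty (K ≃* PSU 3 F 3))
    (h4 : ¬ ∃ (F : Type) (_ : Field F) (_ : Fintype F), Fintype.card F = 9 ∧ Nonempty (K ≃* PSU 4 F 3)) :
    HasYF K := by
  obtain ⟨F, _, _, n, hF, hn, ⟨f⟩⟩ := h
  have hn3 : n ≠ 3 := by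
    rintro rfl
    exact h3 ⟨F, _, _, hF, ⟨f⟩⟩
  have hn4 : n ≠ 4 := by
    rintro rfl
    exact h4 ⟨F, _, _, hF, ⟨f⟩⟩
  exact hasYF_of_equiv hF (by omega) f

end Cfsg.Agent.OddHalf.NI3.K.SU
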