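import Cfsg.Agent.OddHalf.NI3.K.EvenGen
import Cfsg.Agent.OddHalf.NI.ClosedSL
import Cfsg.Agent.OddHalf.NI.FrameSp
import Cfsg.Agent.OddHalf.NI.FrameSU
import Cfsg.Agent.OddHalf.NI.SUClo
import Cfsg.Agent.OddHalf.NI.SpClosed
import Cfsg.Agent.S0269

/-!
# Even central involutions of the covers of `L₄(3)`, `PSp₄(3)`, `U₄(3)` (NI over `F_3`, F13 (R8); helper643)

* `even_sl`, `even_sp`, `even_su` : the image of `-1` under `φ : SL_{2m}(F) → N` etc. is `Even8` if it is not `1`;
* `row_sl` : `K / Z(K) ≅ PSL_{2m}(3)`, `Z(K) ≠ 1`: there is `z ∈ Z(K)` with `Even8 z`;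
* `row_sp` : the same for `PSp_{2m}(q)`, `q` odd;
* `row_su4` : the same for `U₄(3)`, `|Z(K)| ≠ 2`.
-/

set_option autoImplicit false

namespace Cfsg.Agent.OddHalf.NI3.K.SmallLin

open Matrix Subgroup Cfsg
open Cfsg.Agent.OddHalf.NI (Even8 Blocks FrameSL.neg FrameSL.neg_coe FrameSL.blocks FrameSL.reidx)
open Cfsg.Agent.OddHalf.NI

universe u

/-! ### `SL` -/

section SL

variable {F : Type} [Field F] [Fintype F]

/-- the image of `-1 ∈ SL_{2m}(F)` is even -/
theorem even_sl (hodd : Odd (Fintype.card F)) {m n : ℕ} (hm : 2 ≤ m) (hn : n = 2 * m) {N : Type*} [Group N]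
    (φ : Matrix.SpecialLinearGroup (Fin n) F →* N) {c : Matrix.SpecialLinearGroup (Fin n) F}
    (hc : (c : Matrix (Fin n) (Fin n) F) = -1) (h1 : φ c ≠ 1) : Even8 (φ c) := by
  have h2 : (2 : F) ≠ 0 := Blocks.two_ne_zero_of_odd hodd
  let f : Fin 2 × Fin m ≃ Fin n := finProdFinEquiv.trans (finCongr (by omega))
  let ψ : Matrix.SpecialLinearGroup (Fin 2 × Fin m) F →* N := φ.comp (FrameSL.reidx f).toMonoidHom
  have hcc : FrameSL.reidx f (FrameSL.neg m F) = c := by
    apply Subtype.ext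
    change reindex f f (FrameSL.neg m F : Matrix (Fin 2 × Fin m) (Fin 2 × Fin m) F) = (c : Matrix (Fin n) (Fin n) F)
    rw [FrameSL.neg_coe, hc]
    ext i j
    simp [Matrix.one_apply]
  have hψc : ψ (FrameSL.neg m F) = φ c := by
    change φ (FrameSL.reidx f (FrameSL.neg m F)) = φ c
    rw [hcc]
  rw [← hψc]
  exact EvenGen.even_blocks hodd (FrameSL.blocks (F := F) h2 hm) ψ (by rw [hψc]; exact h1)

theorem row_sl (h3 : Fintype.card F = 3) {m : ℕ} (hm : 2 ≤ m) {K : Type u} [Group K] [Finite K]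
    (hq : IsQuasisimple K) (h2 : IsPGroup 2 ↥(center K)) (hZ : center K ≠ ⊥)
    (e : K ⧸ center K ≃* Matrix.ProjectiveSpecialLinearGroup (Fin (2 * m)) F) : ∃ z ∈ center K, Even8 z := by
  have hodd : Odd (Fintype.card F) := by rw [h3]; decide
  have hS := Cfsg.Agent.S0248.result (2 * m) (by omega : 3 ≤ 2 * m) (F := F)
  obtain ⟨φ, hs, hk⟩ := CoverOf.exists_cover hq.1.commutator_eq_top h2 hS (ClosedSL.closed hodd (by omega)) e
  obtain ⟨⟨z, hz⟩, hz1⟩ := (Subgroup.ne_bot_iff_exists_ne_one (H := center K)).1 hZ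
  have hz1 : z ≠ 1 := fun h => hz1 (Subtype.ext h)
  refine ⟨z, hz, ?_⟩
  obtain ⟨c, hcz⟩ := hs z
  have hc : c ∈ center (Matrix.SpecialLinearGroup (Fin (2 * m)) F) :=
    LinEnd.mem_center_of_map φ hk hS (by rw [hcz]; exact hz)
  obtain ⟨r, hr1, hr⟩ := Matrix.SpecialLinearGroup.mem_center_iff.mp hc
  have hr0 : r ≠ 0 := by
    rintro rfl
    rw [zero_pow (by rw [Fintype.card_fin]; omega)] at hr1
    exact zero_ne_one hr1
  have hrr : r * r = 1 := by
    have := FiniteField.pow_card_sub_one_eq_one r hr0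
    rwa [h3, pow_two] at this
  have hcc : c * c = 1 := by
    apply Subtype.ext
    rw [Matrix.SpecialLinearGroup.coe_mul, Matrix.SpecialLinearGroup.coe_one, ← hr, ← map_mul, hrr, map_one]
  rcases LinEnd.sl_eq hc hcc with h | h
  · exact absurd (by rw [← hcz, h, map_one]) hz1
  · rw [← hcz]
    exact even_sl hodd hm rfl φ h (by rw [hcz]; exact hz1)

end SL

/-! ### `Sp` -/

section Sp

variable {F : Type} [Field F] [Fintype F]

theorem even_sp (hodd : Odd (Fintype.card F)) {m : ℕ} (hm : 2 ≤ m) {N : Type*} [Group N]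
    (φ : Matrix.symplecticGroup (Fin m) F →* N) (h1 : φ (FrameSp.neg m F) ≠ 1) : Even8 (φ (FrameSp.neg m F)) :=
  EvenGen.even_blocks hodd (FrameSp.blocks (F := F) (Blocks.two_ne_zero_of_odd hodd) hm) φ h1

theorem row_sp (hodd : Odd (Fintype.card F)) {m : ℕ} (hm : 2 ≤ m) {K : Type u} [Group K] [Finite K]
    (hq : IsQuasisimple K) (h2 : IsPGroup 2 ↥(center K)) (hZ : center K ≠ ⊥)
    (e : K ⧸ center K ≃* PSp m F) : ∃ z ∈ center K, Even8 z := by
  classical
  have h3 : 3 ≤ Fintype.card F := by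
    have h5 : 1 < Fintype.card F := Fintype.one_lt_card
    obtain ⟨k, hk⟩ := hodd
    omega
  have hS := Cfsg.Agent.S0269.result m (by omega) (F := F)
  obtain ⟨φ, hs, hk⟩ := CoverOf.exists_cover hq.1.commutator_eq_top h2 hS
    (SpClosed.closed2 hodd (by omega)) e
  obtain ⟨⟨z, hz⟩, hz1⟩ := (Subgroup.ne_bot_iff_exists_ne_one (H := center K)).1 hZ
  have hz1 : z ≠ 1 := fun h => hz1 (Subtype.ext h)
  refine ⟨z, hz, ?_⟩
  obtain ⟨c, rfl⟩ := hs z
  have hc : c ∈ center (Matrix.symplecticGroup (Fin m) F) := LinEnd.mem_center_of_map φ hk hS hz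
  rcases FrameSp.center_cases (by omega : 1 ≤ m) hc with rfl | rfl
  · exact absurd (map_one φ) hz1
  · exact even_sp hodd hm φ hz1

end Sp

/-! ### `SU` -/

section SU

open Cfsg.Agent.Phan Cfsg.Agent.LieClassical.SUBasic

variable {F : Type} [Field F] [Fintype F] {q : ℕ}

theorem even_su (hF : Fintype.card F = q ^ 2) (hodd : Odd q) {m : ℕ} (hm : 2 ≤ m) {N : Type*} [Group N]
    (φ : SU (2 * m) F q →* N) (h1 : φ (SUBlocks.neg m F hF) ≠ 1) : Even8 (φ (SUBlocks.neg m F hF)) := by
  obtain ⟨K, _, _, hK⟩ := Cfsg.Agent.S0280.exists_field hF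
  obtain ⟨σ⟩ := Cfsg.Agent.S0281.result hF hK
  have hoddK : Odd (Fintype.card K) := by rw [hK]; exact hodd
  exact EvenGen.even_blocks hoddK
    (SUBlocks.blocks hF hodd (Blocks.two_ne_zero_of_odd hoddK) σ.symm hm) φ h1

theorem row_su4 (hF : Fintype.card F = 9) {K : Type u} [Group K] [Finite K]
    (hq : IsQuasisimple K) (h2 : IsPGroup 2 ↥(center K)) (hZ : center K ≠ ⊥) (h4 : Nat.card ↥(center K) ≠ 2)
    (e : K ⧸ center K ≃* PSU 4 F 3) : ∃ z ∈ center K, Even8 z := by
  have hF' : Fintype.card F = 3 ^ 2 := by rw [hF]; norm_num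
  have hS : commutator (SU 4 F 3) = ⊤ :=
    Cfsg.Agent.LieClassical.HermPerfect.commutator_SU_eq_top hF' (by norm_num) (by norm_num)
  have h20 : (2 : F) ≠ 0 := Blocks.two_ne_zero_of_odd (by rw [hF]; decide)
  obtain ⟨φ, hs, hk⟩ := CoverOf.exists_cover hq.1.commutator_eq_top h2 hS
    (SUClo.closed2 (m := 2) hF' (by decide) le_rfl) e
  have hneg : SUBlocks.neg 2 F hF' ∈ center (SU (2 * 2) F 3) := by
    rw [mem_center_SU_iff hF' (by norm_num)]
    refine ⟨-1, by norm_num, by norm_num, ?_⟩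
    apply mat_inj
    rw [SUBlocks.mat_neg]
    have h1 : mat (suScalar 3 (-1) (by norm_num) (by norm_num) : SU 4 F 3) = diagonal fun _ => (-1 : F) :=
      coe_suScalar ..
    rw [h1]
    ext i j
    by_cases h : i = j <;> simp [h]
  have h1 : φ (SUBlocks.neg 2 F hF') ≠ 1 := by
    intro h1
    -- the centre has order at most two
    have key : ∀ z ∈ center K, z ≠ 1 → ∃ r : F, r * r = -1 ∧ ∃ c : SU 4 F 3, φ c = z ∧
        mat c = diagonal fun _ => r := by
      intro z hz hz1
      obtain ⟨c, rfl⟩ := hs z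
      have hc : c ∈ center (SU 4 F 3) := LinEnd.mem_center_of_map φ hk hS hz
      obtain ⟨r, hr, hr', rfl⟩ := (mem_center_SU_iff hF' (by norm_num) c).1 hc
      have e1 : mat (suScalar 3 r hr hr' : SU 4 F 3) = diagonal fun _ => r := coe_suScalar ..
      refine ⟨r, ?_, _, rfl, e1⟩
      have h5 : (r * r - 1) * (r * r + 1) = 0 := by linear_combination hr
      rcases mul_eq_zero.1 h5 with h5 | h5
      · exfalso
        have h6 : (r - 1) * (r + 1) = 0 := by linear_combination h5
        rcases mul_eq_zero.1 h6 with h6 | h6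
        · have h7 : r = 1 := by linear_combination h6
          apply hz1
          have h8 : (suScalar 3 r hr hr' : SU 4 F 3) = 1 := by
            apply mat_inj
            rw [e1, h7, mat_one, diagonal_one]
          rw [h8, map_one]
        · have h7 : r = -1 := by linear_combination h6
          apply hz1
          have h8 : (suScalar 3 r hr hr' : SU 4 F 3) = SUBlocks.neg 2 F hF' := by
            apply mat_inj
            rw [e1, h7, SUBlocks.mat_neg]
            ext i j
            by_cases h : i = j <;> simp [h]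
          rw [h8]
          exact h1
      · linear_combination h5
    obtain ⟨⟨z, hz⟩, hz1⟩ := (Subgroup.ne_bot_iff_exists_ne_one (H := center K)).1 hZ
    have hz1 : z ≠ 1 := fun h => hz1 (Subtype.ext h)
    obtain ⟨r, hr, c, hc, hcr⟩ := key z hz hz1
    apply h4
    rw [Nat.card_eq_two_iff]
    refine ⟨1, ⟨z, hz⟩, fun h => hz1 (congrArg Subtype.val h).symm, ?_⟩
    rw [Set.eq_univ_iff_forall]
    rintro ⟨w, hw⟩
    by_cases hw1 : w = 1
    · left; exact Subtype.ext hw1
    · right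
      obtain ⟨s, hs', d, hd, hds⟩ := key w hw hw1
      apply Subtype.ext
      show w = z
      have h5 : (s - r) * (s + r) = 0 := by linear_combination hs' - hr
      rcases mul_eq_zero.1 h5 with h5 | h5
      · have h6 : s = r := by linear_combination h5
        rw [← hd, ← hc]
        congr 1
        apply mat_inj
        rw [hds, hcr, h6]
      · have h6 : s = -r := by linear_combination h5
        have h7 : d = SUBlocks.neg 2 F hF' * c := by
          apply mat_inj
          have h8 : mat (SUBlocks.neg 2 F hF' * c) = mat (SUBlocks.neg 2 F hF') * mat c := mat_mul _ _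
          rw [h8, SUBlocks.mat_neg, hcr, hds, h6, neg_mul, one_mul]
          ext i j
          by_cases h : i = j <;> simp [h]
        rw [← hd, ← hc, h7, map_mul, h1, one_mul]
  refine ⟨_, ?_, even_su (m := 2) hF' (by decide) le_rfl φ h1⟩
  rw [Subgroup.mem_center_iff]
  intro y
  obtain ⟨x, rfl⟩ := hs y
  rw [← map_mul, ← map_mul, Subgroup.mem_center_iff.1 hneg x]

end SU

end Cfsg.Agent.OddHalf.NI3.K.SmallLin
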