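import Cfsg.Agent.OddHalf.NI3.K.EvenSheet
import Cfsg.Agent.OddHalf.NI.OmegaPlusRow

/-!
# Even central involutions of the covers of `PΩ⁺₈(q)` (NI over `F_3`, F13 (R8); helper643)

`K` finite, perfect, `Z(K)` a 2-group, `q` odd, `K / Z(K) ≅ PΩ⁺₈(q)`: all `1 ≠ z ∈ Z(K)` are `Even8` (`even_plus`).
-/

set_option autoImplicit false
set_option linter.unusedSectionVars false

namespace Cfsg.Agent.OddHalf.NI3.K.SmallPlus

open QuadraticMap
open Matrix (SpecialLinearGroup)
open Cfsg.Agent.LieClassical Cfsg.Agent.LieClassical.OrthCore Cfsg.Agent.LieClassical.OrthTrans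
open Cfsg.Agent.LieClassical.OrthSimple Cfsg.Agent.LieClassical.OrthFinite Cfsg.Agent.LieClassical.OrthForms
open Cfsg.Agent.TitsThree Cfsg.Agent.TitsThree.Siegel Cfsg.Agent.TitsThree.SiegelGen
  Cfsg.Agent.TitsThree.WittFrame Cfsg.Agent.TitsThree.WittWeyl Cfsg.Agent.TitsThree.WBridge
  Cfsg.Agent.TitsThree.KSideO
open Cfsg.Agent.Nodes
open Cfsg.Agent.Nodes.RGDOrth
open Cfsg.Agent.OddHalf.LongSL.OrthPhi Cfsg.Agent.OddHalf.LongSL.Orth
open Cfsg.Agent.OddHalf.NI
open EvenSheet (OkT)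
open Subgroup (center)

universe u

theorem units_sq {K : Type*} [Field K] {x : Kˣ} (h : x ^ 2 = 1) : x = 1 ∨ x = -1 := by
  have h1 : ((x : K) - 1) * ((x : K) + 1) = 0 := by
    have h2 := congrArg (fun u : Kˣ => (u : K)) h
    simp only [Units.val_pow_eq_pow_val, Units.val_one] at h2
    linear_combination h2
  rcases mul_eq_zero.1 h1 with h1 | h1
  · left
    apply Units.ext
    rw [Units.val_one]
    linear_combination h1
  · right
    apply Units.ext
    rw [Units.val_neg, Units.val_one]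
    linear_combination h1

/-- the two root elements of a node -/
def pr (i : Fin (2 + 2)) (s : Bool) : (Fin (2 + 2) × Bool) × (Fin (2 + 2) × Bool) :=
  if s then ((i, true), TypeD.nx i) else (neg (TypeD.nx i), neg (i, true))

theorem dw_check : ∀ i j : Fin (2 + 2), i ≠ 1 → j ≠ 1 → i ≠ j → ∀ s s' : Bool,
    0 ≤ KindD.dw (n := 2) (pr i s).1 (pr j s').1 + KindD.dw (n := 2) (pr i s).1 (pr j s').2 +
      KindD.dw (n := 2) (pr i s).2 (pr j s').1 + KindD.dw (n := 2) (pr i s).2 (pr j s').2 ∧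
      (pr i s).1.1 ≠ (pr i s).2.1 ∧ (pr j s').1.1 ≠ (pr j s').2.1 := by
  decide

variable {F V : Type*} [Field F] [AddCommGroup V] [Module F V] {Q : QuadraticForm F V}
  (W : WFrame (PO Q) (2 + 2))

/-- the nodes `0`, `2`, `3` commute -/
theorem commute_nodes {i j : Fin (2 + 2)} (hi : i ≠ 1) (hj : j ≠ 1) (hij : i ≠ j)
    (a b : SpecialLinearGroup (Fin 2) F) : Commute (OmegaPlus.s W i a) (OmegaPlus.s W j b) := by
  have key := dw_check i j hi hj hij
  have hup : ∀ k (x : F), ((OmegaPlus.s W k (Mult.up x) : ↥(E Q)) : V ≃ₗ[F] V) =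
      (toFrame W).X (pr k true).1 (pr k true).2 x := fun k x => OmegaPlus.Phi_up W (TypeD.ok_nx k) x
  have hlo : ∀ k (x : F), ((OmegaPlus.s W k (Mult.lo x) : ↥(E Q)) : V ≃ₗ[F] V) =
      (toFrame W).X (pr k false).1 (pr k false).2 x := fun k x => OmegaPlus.Phi_lo W (TypeD.ok_nx k) x
  -- `s j b` commutes with root elements of the node `i`
  have step : ∀ (s : Bool) (x : F) (g : ↥(E Q)), (g : V ≃ₗ[F] V) = (toFrame W).X (pr i s).1 (pr i s).2 x →
      ∀ b, Commute g (OmegaPlus.s W j b) := by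
    intro s x g hg b
    have h1 : (Subgroup.centralizer ({g} : Set ↥(E Q))).comap (OmegaPlus.s W j) = ⊤ := by
      apply Mult.mem_of_up_lo
      · intro y
        rw [Subgroup.mem_comap, Subgroup.mem_centralizer_singleton_iff]
        apply Subtype.ext
        rw [Subgroup.coe_mul, Subgroup.coe_mul, hup, hg]
        obtain ⟨h2, h3, h4⟩ := key s true
        exact (OmegaPlus.comm_X_X W h3 h4 h2 x y).symm
      · intro y
        rw [Subgroup.mem_comap, Subgroup.mem_centralizer_singleton_iff]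
        apply Subtype.ext
        rw [Subgroup.coe_mul, Subgroup.coe_mul, hlo, hg]
        obtain ⟨h2, h3, h4⟩ := key s false
        exact (OmegaPlus.comm_X_X W h3 h4 h2 x y).symm
    have h2 : b ∈ (Subgroup.centralizer ({g} : Set ↥(E Q))).comap (OmegaPlus.s W j) := h1 ▸ Subgroup.mem_top b
    rw [Subgroup.mem_comap, Subgroup.mem_centralizer_singleton_iff] at h2
    exact Commute.symm h2
  have h1 : (Subgroup.centralizer ({OmegaPlus.s W j b} : Set ↥(E Q))).comap (OmegaPlus.s W i) = ⊤ := by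
    apply Mult.mem_of_up_lo
    · intro x
      rw [Subgroup.mem_comap, Subgroup.mem_centralizer_singleton_iff]
      exact step true x _ (hup i x) b
    · intro x
      rw [Subgroup.mem_comap, Subgroup.mem_centralizer_singleton_iff]
      exact step false x _ (hlo i x) b
  have h2 : a ∈ (Subgroup.centralizer ({OmegaPlus.s W j b} : Set ↥(E Q))).comap (OmegaPlus.s W i) :=
    h1 ▸ Subgroup.mem_top a
  rw [Subgroup.mem_comap, Subgroup.mem_centralizer_singleton_iff] at h2
  exact h2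

/-- central elements of the torus -/
theorem okP (hG : Good Q) {t : Fin (2 + 2) → Fˣ} (ht : OmegaPlus.th W t ∈ center (E Q)) :
    t ^ 2 = 1 ∧ t 1 = 1 := by
  refine ⟨OmegaPlus.k2 W hG even_two ht, ?_⟩
  obtain ⟨c, hc⟩ := scalar_of_center hG ht
  have h1 : ∀ z, ((OmegaPlus.chi z t : Fˣ) : F) = c := by
    intro z
    have h1 := OmegaPlus.th_apply W z t
    rw [hc] at h1
    have h2 : (c - ((OmegaPlus.chi z t : Fˣ) : F)) • (toFrame W).b z = 0 := by rw [sub_smul, h1, sub_self]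
    exact (sub_eq_zero.1 ((smul_eq_zero.1 h2).resolve_right (WittRGD.b_ne_zero _))).symm
  obtain ⟨c', rfl⟩ : ∃ c' : Fˣ, (c' : F) = c := ⟨OmegaPlus.chi (0, true) t, h1 _⟩
  have h2 : ∀ z, OmegaPlus.chi z t = c' := fun z => Units.ext (h1 z)
  have hc2 : c' ^ 2 = 1 := by
    have h1 := OmegaPlus.chi_false (0 : Fin (2 + 2)) t
    rw [h2, h2, eq_inv_iff_mul_eq_one] at h1
    rw [pow_two, h1]
  have h3 := OmegaPlus.prod_chi t (1 : Fin (2 + 2))
  rw [Finset.prod_congr rfl fun k _ => h2 (k, true), Finset.prod_const, Fin.card_Iic, if_pos (by decide)] at h3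
  rw [← h3]
  exact hc2

/-- the central parameters of the sheet -/
theorem ok_sheet (F : Type) [Field F] [Fintype F] {p : ℕ} [Fact p.Prime] [CharP F p] (hp2 : Odd p)
    (hn : 1 ≤ 2) (hG : Good (plusForm (2 + 2) F)) (t : ∀ i, ((OmegaPlusRow.sheet F hp2 hn).Fi i)ˣ)
    (ht : (OmegaPlusRow.sheet F hp2 hn).θ t ∈ center ↥(E (plusForm (2 + 2) F))) :
    OkT (OmegaPlusRow.sheet F hp2 hn) t := by
  have h0 : ∀ t : Fin (2 + 2) → Fˣ, OmegaPlus.th (RGDOrth.wplus (2 + 2) F) t ∈ center (E (plusForm (2 + 2) F)) →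
      ∃ J : Set (Fin (2 + 2)), (∀ i ∈ J, t i = -1) ∧ (∀ i ∉ J, t i = 1) ∧ ∀ i ∈ J, ∀ j ∈ J, i ≠ j → ∀ a b,
        Commute (OmegaPlus.s (RGDOrth.wplus (2 + 2) F) i a) (OmegaPlus.s (RGDOrth.wplus (2 + 2) F) j b) := by
    intro t ht
    obtain ⟨hsq, h1⟩ := okP (RGDOrth.wplus (2 + 2) F) hG ht
    have h2 : ∀ i : Fin (2 + 2), t i ≠ 1 → t i = -1 := fun i hi => (units_sq (congrFun hsq i)).resolve_left hi
    have h3 : ∀ i : Fin (2 + 2), t i ≠ 1 → i ≠ 1 := by
      rintro i hi rfl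
      exact hi h1
    refine ⟨{i | t i ≠ 1}, h2, fun i hi => not_not.1 hi, ?_⟩
    intro i hi j hj hij a b
    exact commute_nodes (RGDOrth.wplus (2 + 2) F) (h3 i hi) (h3 j hj) hij a b
  exact h0 t ht

/-- **Even involutions for `PΩ⁺₈(q)`.** -/
theorem even_plus (F : Type) [Field F] [Fintype F] (ho : Odd (Fintype.card F)) (N : Type u) [Group N] [Finite N]
    (hN : commutator N = ⊤) (hZ : IsPGroup 2 ↥(center N))
    (e : Nonempty (N ⧸ center N ≃* Cfsg.POmega F (Cfsg.quadFormPlus 4 F))) (z : N) (hz : z ∈ center N)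
    (hz1 : z ≠ 1) : Even8 z := by
  obtain ⟨p, hpc⟩ := CharP.exists F
  have hp : Fact p.Prime := ⟨CharP.char_is_prime F p⟩
  have hpo : Odd p := by
    rcases hp.out.eq_two_or_odd' with h | h
    · subst h
      exfalso
      obtain ⟨k, -, hk⟩ := FiniteField.card F 2
      rw [hk, Nat.odd_pow_iff k.ne_zero] at ho
      exact absurd ho (by decide)
    · exact h
  have hp2 : p ≠ 2 := by rintro rfl; exact absurd hpo (by decide)
  obtain ⟨e⟩ := e
  rw [← coe_plusForm] at e
  have hG : Good (plusForm (2 + 2) F) := OmegaPlusRow.good_plus F (by omega)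
  exact EvenSheet.even_POmega hG hp.out hp2 (OmegaPlusRow.sheet F hpo (n := 2) (by omega))
    (ok_sheet F hpo _ hG) hN hZ e hz hz1

end Cfsg.Agent.OddHalf.NI3.K.SmallPlus
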