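import Cfsg.Agent.OddHalf.NI3.K.Blk
import Cfsg.Agent.OddHalf.NI3.K.SmallLin
import Cfsg.Agent.OddHalf.NI3.K.SmallOrth
import Cfsg.Agent.OddHalf.NI3.K.SmallPlus

/-!
# (F1_3c) with `M = K` (NI over `F_3`, F13 (R8); helper643)

`K` finite quasisimple, `Z(K) ≠ 1` a 2-group, `X = K / Z(K)` over the field with three elements: an even central
involution `z ∈ Z(K)` exists, and `K` has `HasYF` with `y = z`, `M = K`, in the cases

* `row_psl` : `X = PSL_n(3)`, `n ≥ 4`;  `row_psp` : `X = PSp_{2m}(3)`, `m ≥ 2`;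
* `row_u4` : `X = U₄(3)`, `|Z(K)| ≠ 2`;
* `row_odd` : `X = PΩ_{2m+1}(3)`, `m ≥ 3`;
* `row_minus` : `X = PΩ⁻_{2m+2}(3)`, `m ≥ 3` odd;
* `row_plus8` : `X = PΩ⁺₈(3)`;
* `small` : all groups of `Small3` with even multiplier.
-/

set_option autoImplicit false

namespace Cfsg.Agent.OddHalf.NI3.K.Small

open Subgroup Cfsg Cfsg.Agent.OddHalf.LieOddFam Cfsg.Agent.OddHalf.NI3
open Cfsg.Agent.OddHalf.NI (Even8)

universe u

variable {K : Type u} [Group K] [Finite K] (hq : IsQuasisimple K) (h2 : IsPGroup 2 ↥(center K))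

include hq h2

/-- `y ∈ Z(K)`, `M = K` -/
theorem hasYF_of_even (hr : Rk (K ⧸ center K) 3) (h : ∃ z ∈ center K, Even8 z) : HasYF K := by
  obtain ⟨z, hz, h8⟩ := h
  exact hasYF_of_block (MonoidHom.id K) (fun x => ⟨x, rfl⟩) (by rw [MonoidHom.ker_id]; exact bot_le)
    (MonoidHom.id K) hq hz h8 hr h2 (fun g _ a => ⟨g * a * g⁻¹, rfl⟩) (fun _ _ h => h)

variable (hZ : center K ≠ ⊥)

include hZ

theorem exists_ne : ∃ z ∈ center K, z ≠ 1 := by
  obtain ⟨⟨z, hz⟩, hz1⟩ := (Subgroup.ne_bot_iff_exists_ne_one (H := center K)).1 hZ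
  exact ⟨z, hz, fun h => hz1 (Subtype.ext h)⟩

theorem row_psl {F : Type} [Field F] [Fintype F] (hF : Fintype.card F = 3) {n : ℕ} (hn : 4 ≤ n)
    (e : Nonempty (K ⧸ center K ≃* Matrix.ProjectiveSpecialLinearGroup (Fin n) F)) : HasYF K := by
  have hr : Rk (K ⧸ center K) 3 := Or.inl ⟨F, _, _, n, hF, by omega, e⟩
  obtain ⟨e⟩ := e
  rcases Nat.even_or_odd n with hn2 | hn2
  · obtain ⟨m, rfl⟩ : ∃ m, n = 2 * m := ⟨n / 2, by have := Nat.even_iff.1 hn2; omega⟩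
    exact hasYF_of_even hq h2 hr (SmallLin.row_sl hF (by omega) hq h2 hZ e)
  · -- the centre of `SL_n(3)` is trivial
    exfalso
    have hS := Cfsg.Agent.S0248.result n (by omega : 3 ≤ n) (F := F)
    have hodd : Odd (Fintype.card F) := by rw [hF]; decide
    obtain ⟨φ, hs, hk⟩ := NI.CoverOf.exists_cover hq.1.commutator_eq_top h2 hS
      (NI.ClosedSL.closed hodd (by omega)) e
    obtain ⟨z, hz, hz1⟩ := exists_ne hq h2 hZ
    obtain ⟨c, rfl⟩ := hs z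
    have hc : c ∈ center (Matrix.SpecialLinearGroup (Fin n) F) := NI.LinEnd.mem_center_of_map φ hk hS hz
    obtain ⟨r, hr1, hr⟩ := Matrix.SpecialLinearGroup.mem_center_iff.mp hc
    rw [Fintype.card_fin] at hr1
    have hr0 : r ≠ 0 := by
      rintro rfl
      rw [zero_pow (by omega)] at hr1
      exact zero_ne_one hr1
    have hrr : r ^ 2 = 1 := by
      have := FiniteField.pow_card_sub_one_eq_one r hr0
      rwa [hF] at this
    obtain ⟨k, hk'⟩ := hn2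
    rw [hk', pow_succ, pow_mul, hrr, one_pow, one_mul] at hr1
    apply hz1
    have h3 : c = 1 := by
      apply Subtype.ext
      rw [Matrix.SpecialLinearGroup.coe_one, ← hr, hr1, map_one]
    rw [h3, map_one]

theorem row_psp {F : Type} [Field F] [Fintype F] (hF : Fintype.card F = 3) {m : ℕ} (hm : 2 ≤ m)
    (e : Nonempty (K ⧸ center K ≃* PSp m F)) : HasYF K := by
  have hr : Rk (K ⧸ center K) 3 := Or.inr (Or.inl ⟨F, _, _, m, hF, hm, e⟩)
  obtain ⟨e⟩ := e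
  exact hasYF_of_even hq h2 hr (SmallLin.row_sp (by rw [hF]; decide) hm hq h2 hZ e)

theorem row_u4 {F : Type} [Field F] [Fintype F] (hF : Fintype.card F = 9) (h4 : Nat.card ↥(center K) ≠ 2)
    (e : Nonempty (K ⧸ center K ≃* PSU 4 F 3)) : HasYF K := by
  have hr : Rk (K ⧸ center K) 3 := Or.inr (Or.inr (Or.inl ⟨F, _, _, 4, by rw [hF]; norm_num, by norm_num, e⟩))
  obtain ⟨e⟩ := e
  exact hasYF_of_even hq h2 hr (SmallLin.row_su4 hF hq h2 hZ h4 e)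

theorem row_odd {F : Type} [Field F] [Fintype F] (hF : Fintype.card F = 3) {m : ℕ} (hm : 3 ≤ m)
    (e : Nonempty (K ⧸ center K ≃* POmega F (quadFormOdd m F))) : HasYF K := by
  have hr : Rk (K ⧸ center K) 3 := Or.inr (Or.inr (Or.inr (Or.inl ⟨F, _, _, m, hF, hm, e⟩)))
  obtain ⟨z, hz, hz1⟩ := exists_ne hq h2 hZ
  exact hasYF_of_even hq h2 hr
    ⟨z, hz, SmallOrth.even_odd F m (by rw [hF]; decide) hm K hq.1.commutator_eq_top h2 e z hz hz1⟩

theorem row_plus8 {F : Type} [Field F] [Fintype F] (hF : Fintype.card F = 3)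
    (e : Nonempty (K ⧸ center K ≃* POmega F (quadFormPlus 4 F))) : HasYF K := by
  have hr : Rk (K ⧸ center K) 3 := Or.inr (Or.inr (Or.inr (Or.inr (Or.inl ⟨F, _, _, 4, hF, le_rfl, e⟩))))
  obtain ⟨z, hz, hz1⟩ := exists_ne hq h2 hZ
  exact hasYF_of_even hq h2 hr
    ⟨z, hz, SmallPlus.even_plus F (by rw [hF]; decide) K hq.1.commutator_eq_top h2 e z hz hz1⟩

theorem row_minus {F : Type} [Field F] [Fintype F] (hF : Fintype.card F = 3) {m : ℕ} (hm : 3 ≤ m) (hmo : Odd m)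
    {b c : F} (hbc : ∀ z₁ z₂ : F, z₁ ^ 2 + b * z₁ * z₂ + c * z₂ ^ 2 = 0 → z₁ = 0 ∧ z₂ = 0)
    (e : Nonempty (K ⧸ center K ≃* POmega F (quadFormMinus m F b c))) : HasYF K := by
  have hr : Rk (K ⧸ center K) 3 :=
    Or.inr (Or.inr (Or.inr (Or.inr (Or.inr (Or.inl ⟨F, _, _, m + 1, b, c, hF, by omega, hbc, e⟩)))))
  obtain ⟨z, hz, hz1⟩ := exists_ne hq h2 hZ
  exact hasYF_of_even hq h2 hr
    ⟨z, hz, SmallOrth.even_minus F m b c (by rw [hF]; decide) hm hmo hbc K hq.1.commutator_eq_top h2 e z hz hz1⟩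

/-- **The covers of the small groups.** (`L₃(3)`, `U₃(3)`, `G₂(3)` are not in `Cov3`.) -/
theorem small (hs : (∃ (F : Type) (_ : Field F) (_ : Fintype F), Fintype.card F = 3 ∧
      Nonempty (K ⧸ center K ≃* Matrix.ProjectiveSpecialLinearGroup (Fin 4) F)) ∨ XU43 (K ⧸ center K) ∨
    (∃ (F : Type) (_ : Field F) (_ : Fintype F), Fintype.card F = 3 ∧ Nonempty (K ⧸ center K ≃* PSp 2 F)) ∨
    (∃ (F : Type) (_ : Field F) (_ : Fintype F), Fintype.card F = 3 ∧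
      Nonempty (K ⧸ center K ≃* POmega F (quadFormOdd 3 F))) ∨
    (∃ (F : Type) (_ : Field F) (_ : Fintype F), Fintype.card F = 3 ∧
      Nonempty (K ⧸ center K ≃* POmega F (quadFormPlus 4 F))) ∨
    (∃ (F : Type) (_ : Field F) (_ : Fintype F) (b c : F), Fintype.card F = 3 ∧
      (∀ z₁ z₂ : F, z₁ ^ 2 + b * z₁ * z₂ + c * z₂ ^ 2 = 0 → z₁ = 0 ∧ z₂ = 0) ∧
      Nonempty (K ⧸ center K ≃* POmega F (quadFormMinus 3 F b c))))
    (h4 : ¬ (Nat.card ↥(center K) = 2 ∧ XU43 (K ⧸ center K))) : HasYF K := by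
  rcases hs with ⟨F, _, _, hF, e⟩ | ⟨F, _, _, hF, e⟩ | ⟨F, _, _, hF, e⟩ | ⟨F, _, _, hF, e⟩ | ⟨F, _, _, hF, e⟩ |
    ⟨F, _, _, b, c, hF, hbc, e⟩
  · exact row_psl hq h2 hZ hF le_rfl e
  · exact row_u4 hq h2 hZ hF (fun h => h4 ⟨h, F, _, _, hF, e⟩) e
  · exact row_psp hq h2 hZ hF le_rfl e
  · exact row_odd hq h2 hZ hF le_rfl e
  · exact row_plus8 hq h2 hZ hF e
  · exact row_minus hq h2 hZ hF le_rfl (by decide) hbc e

end Cfsg.Agent.OddHalf.NI3.K.Small
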