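import Cfsg.Agent.OddHalf.NI3.K.SL
import Cfsg.Agent.OddHalf.NI3.K.SU
import Cfsg.Agent.OddHalf.NI3.K.Sp
import Cfsg.Agent.OddHalf.NI3.K.OrthY
import Cfsg.Agent.OddHalf.NI3.K.En
import Cfsg.Agent.OddHalf.NI3.K.Small
import Cfsg.Agent.OddHalf.NI3.K.LiftY
import Cfsg.Agent.OddHalf.NI3.Fr.Final

/-!
# (F1_3) and (F1_3c): the assembly (NI over `F_3`, helper824)

* `f13c : F13c`: unconditional.
* `f13_of`: `F13` from the rows `F₄(3)`, `²E₆(3)`, `³D₄(3)`.
-/

set_option autoImplicit false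

namespace Cfsg.Agent.OddHalf.NI3.K

open Subgroup Cfsg Cfsg.Agent.OddHalf.LieOddFam Cfsg.Agent.GH.Cov.Lft
open Cfsg.Agent.OddHalf.NI (CompIn Even8 IsSL)

universe u

/-- the rows which are not of classical type and not `E_n` -/
def RowF4 : Prop := ∀ (K : Type u) [Group K] [Finite K], FF4 K 3 → HasYF K

/-- row `²E₆(3)` -/
def Row2E6 : Prop := ∀ (K : Type u) [Group K] [Finite K], F2E6 K 3 → HasYF K

/-- row `³D₄(3)` -/
def Row3D4 : Prop := ∀ (K : Type u) [Group K] [Finite K], F3D4 K 3 → HasYF K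

/-- **(F1_3) assembled** -/
theorem f13_of (h1 : RowF4.{u}) (h2 : Row2E6.{u}) (h3 : Row3D4.{u}) : F13.{u} := by
  intro K _ _ hs hK hS
  simp only [Small3, not_or] at hS
  obtain ⟨s1, s2, s3, s4, s5, s6, s7, s8, s9⟩ := hS
  rcases hK with h | h | h | h | h | h | h | h | h | h | h | h | h
  · exact SL.row_sl h s1 s3
  · exact Sp.row_sp h s5
  · exact SU.row_su h s2 s4
  · exact OrthY.row_odd h s7
  · exact OrthY.row_plus h s8
  · exact OrthY.row_minus h s9
  · exact absurd h s6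
  · exact h1 K h
  · exact En.row_E6 h
  · exact En.row_E7 h
  · exact En.row_E8 h
  · exact h2 K h
  · exact h3 K h

/-- `K → K / Z(K)` is a central extension by a 2-group -/
theorem cext_mk {K : Type u} [Group K] (h2 : IsPGroup 2 ↥(center K)) : CExt (QuotientGroup.mk' (center K)) := by
  refine ⟨QuotientGroup.mk'_surjective _, ?_, ?_⟩
  · intro c hc x
    have h1 : c ∈ center K := (QuotientGroup.eq_one_iff c).mp hc
    exact ((mem_center_iff.mp h1) x).symm
  · intro c hc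
    have h1 : c ∈ center K := (QuotientGroup.eq_one_iff c).mp hc
    obtain ⟨n, hn⟩ := h2 ⟨c, h1⟩
    exact ⟨n, congrArg Subtype.val hn⟩

/-- `HasYF (K / Z(K)) → HasY K` -/
theorem hasY_of_quot {K : Type u} [Group K] [Finite K] (h2 : IsPGroup 2 ↥(center K))
    (h : HasYF (K ⧸ center K)) : HasY K :=
  LiftY.hasY_of_lift Fr.frameFact3 (cext_mk h2) h

/-- **(F1_3c)** -/
theorem f13c : F13c.{u} := by
  intro K _ _ hq h2 hZ hC hU
  rcases hC with ⟨F, _, _, n, hF, hn, e⟩ | ⟨F, _, _, n, hF, hn, e⟩ | h | h | h | h | h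
  · exact (Small.row_psl hq h2 hZ hF hn e).hasY
  · rcases Nat.lt_or_ge n 5 with h5 | h5
    · obtain rfl : n = 4 := by omega
      exact (Small.row_u4 hq h2 hZ hF (fun h => hU ⟨h, F, _, _, hF, e⟩) e).hasY
    · obtain ⟨e⟩ := e
      exact hasY_of_quot h2 (SU.hasYF_of_equiv (by rw [hF]; norm_num) h5 e)
  · obtain ⟨F, _, _, m, hF, hm, e⟩ := h
    exact (Small.row_psp hq h2 hZ hF hm e).hasY
  · obtain ⟨F, _, _, m, hF, hm, e⟩ := h
    exact (Small.row_odd hq h2 hZ hF hm e).hasY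
  · by_cases hs : ∃ (F : Type) (_ : Field F) (_ : Fintype F), Fintype.card F = 3 ∧
        Nonempty (K ⧸ center K ≃* POmega F (quadFormPlus 4 F))
    · obtain ⟨F, _, _, hF, e⟩ := hs
      exact (Small.row_plus8 hq h2 hZ hF e).hasY
    · exact hasY_of_quot h2 (OrthY.row_plus h hs)
  · by_cases hs : ∃ (F : Type) (_ : Field F) (_ : Fintype F) (b c : F), Fintype.card F = 3 ∧
        (∀ z₁ z₂ : F, z₁ ^ 2 + b * z₁ * z₂ + c * z₂ ^ 2 = 0 → z₁ = 0 ∧ z₂ = 0) ∧
        Nonempty (K ⧸ center K ≃* POmega F (quadFormMinus 3 F b c))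
    · obtain ⟨F, _, _, b, c, hF, hbc, e⟩ := hs
      exact (Small.row_minus hq h2 hZ hF le_rfl (by decide) hbc e).hasY
    · exact hasY_of_quot h2 (OrthY.row_minus h hs)
  · exact hasY_of_quot h2 (En.row_E7 h)

end Cfsg.Agent.OddHalf.NI3.K
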