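import Mathlib
import Cfsg.Agent.OddHalf.LongSL.Tw
import Cfsg.Agent.KFacts.MulOdd.InstTw
import Cfsg.Agent.OddHalf.NI3.Props
import Cfsg.Agent.OddHalf.NI.Final

/-!
# The short root `SL₂(q³)` of `³D₄(q)`, `q` odd, and the row `³D₄(3)` of `F13` (NI over `F_3`, bb ODD #14361 (R6))

* `hasLong_short` : `HasLong (q ^ 3) ³D₄(q)`: the subgroup `⟨X_s, X_{-s}⟩ ≃ SL₂(q³)` of a short root is subnormal in the
  centralizer of its involution.
-/

set_option autoImplicit false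
set_option linter.unusedSectionVars false

namespace Cfsg.Agent.OddHalf.NI3.K.TwD4

open CoxeterSystem Cfsg.Agent.ChevalleyStructure.CoxeterGeom Cfsg.Agent.Tits.Roots Cfsg.Agent.Tits.Core
  Cfsg.Agent.Tits.RootComb Cfsg.Agent.Nodes.Comb Cfsg.Agent.Nodes.Reps Cfsg.Agent.Nodes.BNOf
  Cfsg.Agent.Nodes.RGDTwGen Cfsg.Agent.Nodes.RGDChev Cfsg.Agent.Nodes.RGDFold Cfsg.Agent.Nodes.RGDFoldSL
open Cfsg Cfsg.Lie Cfsg.Agent.ChevalleyStructure Cfsg.Agent.ChevalleyStructure.Elts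
  Cfsg.Agent.ChevalleyStructure.RootVec Cfsg.Agent.ChevalleyStructure.TwistedU
  Cfsg.Agent.ChevalleyStructure.TwistedFix
open Cfsg.Agent.OddHalf.LongSL Cfsg.Agent.OddHalf.LongSL.Chev Cfsg.Agent.OddHalf.LongSL.Fold
open Cfsg.Agent.KFacts.MulOdd.Node (Nd hS_neg_one)
open Cfsg.Agent.KFacts.MulOdd.InstTw (nd_fold parityTw_spec parity_D4)
open Cfsg.Agent.ChevalleyStructure.SL2Hom (up lo)

universe u

/-- the exponent of `(-1)` -/
def ex (s : ℕ) : ℤ := chevD4.cartan 0 s + (chevD4.cartan 2 s + chevD4.cartan 3 s)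

/-- the roots of the short node and their negatives -/
def ro : List ℕ := [18, 13, 12, 5, 10, 11]

/-- every root outside `ro` has odd exponent or commutes with `ro` -/
def chkA : Bool :=
  (List.range 24).all fun s => ro.contains s || (ex s % 2 == 1) || ro.all fun r =>
    s != chevD4.neg r && (chevD4.commTerms r s).isEmpty

/-- the fibres commute and have constant parity -/
def chkB : Bool :=
  (List.range 24).all fun s => (List.range 24).all fun s' =>
    !(decide (V chevD4 Nodes.RGDTwD4.J s = V chevD4 Nodes.RGDTwD4.J s')) || (s == s' || (ex s % 2 == ex s' % 2 &&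
      s' != chevD4.neg s && (chevD4.commTerms s s').isEmpty))

theorem chkA_eq : chkA = true := by decide +kernel

theorem chkB_eq : chkB = true := by decide +kernel

theorem nroots : chevD4.nroots = 24 := by decide +kernel

theorem simples : chevD4.simple 0 = 18 ∧ chevD4.simple 2 = 13 ∧ chevD4.simple 3 = 12 := by decide +kernel

theorem ro_neg : ∀ r ∈ ro, r < chevD4.nroots ∧ chevD4.neg r ∈ ro := by decide +kernel

theorem neg_one_zpow {K : Type*} [Field K] (n : ℤ) : (n % 2 = 1 → (-1 : K) ^ n = -1) ∧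
    (n % 2 ≠ 1 → (-1 : K) ^ n = 1) := by
  constructor
  · intro h
    exact Odd.neg_one_zpow (Int.odd_iff.2 h)
  · intro h
    refine Even.neg_one_zpow (Int.even_iff.2 ?_)
    omega

section

variable {K : Type} [Field K] [Fintype K] {q : ℕ}

/-- the involution -/
theorem coe_j {φ : K →+* K} (hφ : ∀ x, φ x = x ^ q) (hle : twistedD4 K q ≤ D4Fixed.fix φ)
    (hf : ∀ s ∈ Nodes.RGDTwNode.D4.rep 1 :: Nodes.RGDTwNode.D4.rest 1, ∀ t,
      ((Nodes.RGDTwD4.eps s : ℤ) : K) * φ t = φ t) :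
    ((Phi (Nodes.RGDTwD4.foldGrp hφ hle) (Nodes.RGDTwNode.D4.nodeOK 1) hf (-1) : ↥(twistedD4 K q)) : GL chevD4.Idx K) =
      hG Nodes.RGDTwD4.hp.inList (chevD4.simple 0) (-1) * (hG Nodes.RGDTwD4.hp.inList (chevD4.simple 2) (-1) *
        hG Nodes.RGDTwD4.hp.inList (chevD4.simple 3) (-1)) := by
  rw [← hS_neg_one]
  show hv (psi Nodes.RGDTwD4.hp.inList K) φ [18, 13, 12] (Matrix.SpecialLinearGroup.map (Fx φ _).subtype (hS (-1))) = _
  rw [map_hS, map_neg, map_one]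
  show psi Nodes.RGDTwD4.hp.inList K 18 (hS (-1)) * (psi Nodes.RGDTwD4.hp.inList K 13
    (Matrix.SpecialLinearGroup.map φ (hS (-1))) * (psi Nodes.RGDTwD4.hp.inList K 12
      (Matrix.SpecialLinearGroup.map φ (Matrix.SpecialLinearGroup.map φ (hS (-1)))) * 1)) = _
  rw [map_hS, map_neg, map_one, map_hS, map_neg, map_one, mul_one, psi_hS _ (by decide +kernel),
    psi_hS _ (by decide +kernel), psi_hS _ (by decide +kernel), simples.1, simples.2.1, simples.2.2]

theorem conj_j {s : ℕ} (hs : s < chevD4.nroots) (t : K) :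
    (hG Nodes.RGDTwD4.hp.inList (chevD4.simple 0) (-1) * (hG Nodes.RGDTwD4.hp.inList (chevD4.simple 2) (-1) *
        hG Nodes.RGDTwD4.hp.inList (chevD4.simple 3) (-1))) * xG Nodes.RGDTwD4.hp.inList s t *
      (hG Nodes.RGDTwD4.hp.inList (chevD4.simple 0) (-1) * (hG Nodes.RGDTwD4.hp.inList (chevD4.simple 2) (-1) *
        hG Nodes.RGDTwD4.hp.inList (chevD4.simple 3) (-1)))⁻¹ = xG Nodes.RGDTwD4.hp.inList s ((-1) ^ ex s * t) := by
  have h1 : (-1 : K) ≠ 0 := neg_ne_zero.2 one_ne_zero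
  have e0 := conj_hG Nodes.RGDTwD4.hp K (0 : Fin 4) hs (-1) h1
  have e2 := conj_hG Nodes.RGDTwD4.hp K (2 : Fin 4) hs (-1) h1
  have e3 := conj_hG Nodes.RGDTwD4.hp K (3 : Fin 4) hs (-1) h1
  have key : ∀ a b c x : GL chevD4.Idx K, a * (b * c) * x * (a * (b * c))⁻¹ = a * (b * (c * x * c⁻¹) * b⁻¹) * a⁻¹ := by
    intro a b c x; group
  rw [key]
  have e3' : hG Nodes.RGDTwD4.hp.inList (chevD4.simple 3) (-1) * xG Nodes.RGDTwD4.hp.inList s t *
      (hG Nodes.RGDTwD4.hp.inList (chevD4.simple 3) (-1))⁻¹ = xG Nodes.RGDTwD4.hp.inList s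
        ((-1) ^ chevD4.cartan 3 s * t) := e3 t
  have e2' := e2 ((-1) ^ chevD4.cartan 3 s * t)
  have e0' := e0 ((-1) ^ chevD4.cartan 2 s * ((-1) ^ chevD4.cartan 3 s * t))
  rw [e3']
  refine (congrArg (fun x => hG Nodes.RGDTwD4.hp.inList (chevD4.simple 0) (-1) * x *
    (hG Nodes.RGDTwD4.hp.inList (chevD4.simple 0) (-1))⁻¹) e2').trans (e0'.trans ?_)
  congr 1
  unfold ex
  rw [zpow_add₀ h1, zpow_add₀ h1]
  simp only [Fin.val_zero]
  ring

/-- **The short root subgroups of `³D₄(q)`.** -/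
theorem hasLong_short (hq : IsPrimePow q) (hK : Fintype.card K = q ^ 3) (ho : Odd q) :
    HasLong (q ^ 3) ↥(twistedD4 K q) := by
  classical
  obtain ⟨p, hpc⟩ := CharP.exists K
  have hpp : p.Prime := (CharP.char_is_prime_or_zero K p).resolve_right (CharP.char_ne_zero_of_finite K p)
  have : Fact p.Prime := ⟨hpp⟩
  have hoK : Odd (Fintype.card K) := by rw [hK]; exact ho.pow
  have h2K : (2 : K) ≠ 0 := two_ne_of_odd hoK
  have hp2 : p ≠ 2 := by
    rintro rfl
    exact h2K (by exact_mod_cast CharP.cast_eq_zero K 2)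
  obtain ⟨φ, hφ⟩ := D4Fixed.exists_frob hq hK
  have hle := D4Fixed.twisted_le_fix hK hφ
  have hf : ∀ i, ∀ s ∈ Nodes.RGDTwNode.D4.rep i :: Nodes.RGDTwNode.D4.rest i, ∀ t,
      ((Nodes.RGDTwD4.eps s : ℤ) : K) * φ t = φ t := fun i s hs t => by
    rw [Nodes.RGDTwNode.D4.eps_one i s hs, Int.cast_one, one_mul]
  set FG := Nodes.RGDTwD4.foldGrp hφ hle with hFG
  -- the field
  have htop : ∀ a : K, a ∈ Fx φ 3 := by
    intro a
    rw [mem_Fx]
    show φ (φ (φ a)) = a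
    rw [hφ, hφ, hφ, ← pow_mul, ← pow_mul]
    have : q * q * q = Fintype.card K := by rw [hK]; ring
    rw [← mul_assoc, this, FiniteField.pow_card]
  let eF : ↥(Fx φ 3) ≃ K := ⟨fun a => a, fun a => ⟨a, htop a⟩, fun a => rfl, fun a => rfl⟩
  have hfin : Fintype ↥(Fx φ 3) := Fintype.ofFinite _
  have hcF : Fintype.card ↥(Fx φ 3) = q ^ 3 := by
    rw [← hK]; exact Fintype.card_congr eF
  have hoF : Odd (Fintype.card ↥(Fx φ 3)) := by rw [hcF]; exact ho.pow
  -- the node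
  obtain ⟨t₀, ht₀, he₀⟩ := parityTw_spec parity_D4 (1 : Fin 2)
  have N := nd_fold FG (Nodes.RGDTwNode.D4.nodeOK 1) (hf 1) h2K ht₀ he₀
  let cs : CoxeterSystem CoxeterMatrix.G₂ CoxeterMatrix.G₂.Group := CoxeterMatrix.G₂.toCoxeterSystem
  have hfinW : Finite CoxeterMatrix.G₂.Group :=
    Cfsg.Agent.Nodes.RGDFold.finite_W (hp := Nodes.RGDTwD4.hp) cs Nodes.RGDTwD4.isCartan Nodes.RGDTwD4.foldData
  have hR := Nodes.RGDFold.rgd cs Nodes.RGDTwD4.isCartan Nodes.RGDTwD4.foldData FG p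
  have hgen := Nodes.RGDFold.G1_eq_top cs Nodes.RGDTwD4.isCartan Nodes.RGDTwD4.foldData FG p
  set ψ := Phi FG (Nodes.RGDTwNode.D4.nodeOK 1) (hf 1) with hψ
  have hinj : Function.Injective ψ := N.injective hR
  have hrange := N.range hR
  have hjT : ψ (-1) ∈ (chevD4.diagonalSubgroup K ⊓ twistedD4 K q).subgroupOf (twistedD4 K q) := by
    rw [← hS_neg_one]
    exact N.dia _ (neg_ne_zero.2 one_ne_zero)
  have hcomm : ∀ u : ↥(twistedD4 K q), ∀ v ∈ ψ.range, ψ (-1) * v = v * ψ (-1) := by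
    rintro - _ ⟨g, rfl⟩
    rw [← map_mul, ← map_mul, neg_one_mul, mul_neg_one]
  have hJX : ψ.range = JX (fun z => (R chevD4 Nodes.RGDTwD4.hp K Nodes.RGDTwD4.J (D4Fixed.sig φ) z).subgroupOf
      (twistedD4 K q)) (ψ (-1)) (sr 1) := by
    rw [hrange]
    unfold JX
    apply le_antisymm
    · refine sup_le ?_ ?_
      · intro x hx
        refine Subgroup.mem_sup_left (mem_ZX.2 ⟨hx, hcomm 1 x ?_⟩)
        rw [hrange]; exact Subgroup.mem_sup_left hx
      · intro x hx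
        refine Subgroup.mem_sup_right (mem_ZX.2 ⟨hx, hcomm 1 x ?_⟩)
        rw [hrange]; exact Subgroup.mem_sup_right hx
    · exact sup_le (fun x hx => Subgroup.mem_sup_left (mem_ZX.1 hx).1)
        (fun x hx => Subgroup.mem_sup_right (mem_ZX.1 hx).1)
  have h1 := hasLong_of_rgd hR (hpp.odd_of_ne_two hp2) (KFacts.RgdRigid.GG_eq_top hgen)
    (isRoot_sr cs Nodes.RGDTwD4.isCartan (1 : Fin 2)) hoF ψ hinj rfl hjT hJX ?_
  · rwa [hcF] at h1
  intro z hz hz1 hz2
  obtain ⟨s₀, hs₀, rfl⟩ := (Nodes.RGDTwD4.foldData.isRoot_iff (cs := cs) (h := Nodes.RGDTwD4.isCartan)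
    Nodes.RGDTwD4.hp.checked (fun i r hr => wp_lt Nodes.RGDTwD4.hp (Nodes.RGDTwD4.J i) hr) z).1 hz
  have hne : ∀ k < chevD4.nroots, V chevD4 Nodes.RGDTwD4.J k = V chevD4 Nodes.RGDTwD4.J s₀ → k ∉ ro := by
    intro k hk hV hkr
    have h3 : k ∈ [18, 13, 12] ∨ k ∈ [5, 10, 11] := by
      unfold ro at hkr
      simp only [List.mem_cons, List.not_mem_nil, or_false] at hkr ⊢
      omega
    rcases h3 with h3 | h3
    · exact hz1 (hV ▸ (Nodes.RGDTwD4.cls1 k hk).2 h3)
    · exact hz2 (hV ▸ (Nodes.RGDTwD4.cls1' k hk).2 h3)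
  have hfib : ∀ k < chevD4.nroots, ∀ k' < chevD4.nroots,
      V chevD4 Nodes.RGDTwD4.J k = V chevD4 Nodes.RGDTwD4.J k' → k ≠ k' →
      ex k % 2 = ex k' % 2 ∧ k' ≠ chevD4.neg k ∧ chevD4.commTerms k k' = [] := by
    intro k hk k' hk' hV hkk
    rw [nroots] at hk hk'
    have h3 := List.all_eq_true.1 (List.all_eq_true.1 chkB_eq k (List.mem_range.2 hk)) k' (List.mem_range.2 hk')
    simp only [Bool.or_eq_true, beq_iff_eq, Bool.and_eq_true, List.isEmpty_iff, hkk, false_or, hV, decide_true,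
      Bool.not_true, Bool.false_eq_true, bne_iff_ne] at h3
    exact ⟨h3.1.1, h3.1.2, h3.2⟩
  have hcases : ∀ k < chevD4.nroots, V chevD4 Nodes.RGDTwD4.J k = V chevD4 Nodes.RGDTwD4.J s₀ →
      ex k % 2 = 1 ∨ ∀ r ∈ ro, k ≠ chevD4.neg r ∧ chevD4.commTerms r k = [] := by
    intro k hk hV
    have hk' := hk
    rw [nroots] at hk'
    have h3 := List.all_eq_true.1 chkA_eq k (List.mem_range.2 hk')
    simp only [Bool.or_eq_true, List.contains_iff_mem, beq_iff_eq, List.all_eq_true, Bool.and_eq_true,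
      List.isEmpty_iff, bne_iff_ne, hne k hk hV, false_or] at h3
    exact h3
  by_cases hc : ex s₀ % 2 = 1
  · left
    intro u hu
    have hu' := (Subgroup.mem_subgroupOf.1 hu).1
    apply Subtype.ext
    have h3 : ∀ k < chevD4.nroots, V chevD4 Nodes.RGDTwD4.J k = V chevD4 Nodes.RGDTwD4.J s₀ → ex k % 2 = 1 := by
      intro k hk hV
      by_cases hkk : k = s₀
      · rw [hkk]; exact hc
      · rw [(hfib k hk s₀ hs₀ hV hkk).1]; exact hc
    refine inverts_closure (S := {g | ∃ r ∈ {k | k < chevD4.nroots ∧ V chevD4 Nodes.RGDTwD4.J k =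
      V chevD4 Nodes.RGDTwD4.J s₀}, ∃ t, g = xG Nodes.RGDTwD4.hp.inList r t}) ?_ ?_ _ hu'
    · rintro _ ⟨k, ⟨hk, hV⟩, t, rfl⟩
      show ((ψ (-1) : ↥(twistedD4 K q)) : GL chevD4.Idx K) * _ * ((ψ (-1) : ↥(twistedD4 K q)) : GL chevD4.Idx K)⁻¹ = _
      rw [hψ, coe_j hφ hle (hf 1), conj_j hk, (neg_one_zpow _).1 (h3 k hk hV), xG_inv, neg_one_mul]
    · rintro _ ⟨k, ⟨hk, hV⟩, t, rfl⟩ _ ⟨k', ⟨hk', hV'⟩, t', rfl⟩
      by_cases hkk : k = k'
      · subst hkk
        rw [xG_add, xG_add, add_comm]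
      · obtain ⟨-, h4, h5⟩ := hfib k hk k' hk' (hV.trans hV'.symm) hkk
        exact (commute_xG Nodes.RGDTwD4.hp K hk hk' (Ne.symm hkk) h4 h5 t t').symm
  · right
    intro u hu v hv
    have hu' := (Subgroup.mem_subgroupOf.1 hu).1
    have h3 : ∀ k < chevD4.nroots, V chevD4 Nodes.RGDTwD4.J k = V chevD4 Nodes.RGDTwD4.J s₀ →
        ∀ r ∈ ro, k ≠ chevD4.neg r ∧ chevD4.commTerms r k = [] := by
      intro k hk hV
      rcases hcases k hk hV with h4 | h4
      · exfalso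
        by_cases hkk : k = s₀
        · rw [hkk] at h4; exact hc h4
        · rw [(hfib k hk s₀ hs₀ hV hkk).1] at h4; exact hc h4
      · exact h4
    -- `u` commutes with the root groups of `ro`
    have hcent : ∀ r ∈ ro, ∀ c : K,
        (u : GL chevD4.Idx K) * xG Nodes.RGDTwD4.hp.inList r c = xG Nodes.RGDTwD4.hp.inList r c * (u : GL chevD4.Idx K) := by
      intro r hr c
      have h5 : rspan (xG (F := K) Nodes.RGDTwD4.hp.inList) {k | k < chevD4.nroots ∧ V chevD4 Nodes.RGDTwD4.J k =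
          V chevD4 Nodes.RGDTwD4.J s₀} ≤ Subgroup.centralizer {xG Nodes.RGDTwD4.hp.inList r c} := by
        refine rspan_le _ ?_
        rintro k ⟨hk1, hk2⟩ t
        obtain ⟨h7, h8⟩ := h3 k hk1 hk2 r hr
        have h6 : k ≠ r := fun h0 => hne k hk1 hk2 (h0 ▸ hr)
        rw [Subgroup.mem_centralizer_iff]
        rintro _ rfl
        exact (commute_xG Nodes.RGDTwD4.hp K (ro_neg r hr).1 hk1 h6 h7 h8 c t).symm
      exact (Subgroup.mem_centralizer_iff.1 (h5 hu') _ rfl).symm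
    have hcl : ∀ (o : List ℕ), (∀ r ∈ o, r ∈ ro) → ∀ x ∈ rspan (xG (F := K) Nodes.RGDTwD4.hp.inList) {k | k ∈ o},
        (u : GL chevD4.Idx K) * x = x * (u : GL chevD4.Idx K) := by
      intro o hor x hx
      have h5 : rspan (xG (F := K) Nodes.RGDTwD4.hp.inList) {k | k ∈ o} ≤
          Subgroup.centralizer {(u : GL chevD4.Idx K)} := by
        refine rspan_le _ ?_
        intro k hk t
        rw [Subgroup.mem_centralizer_iff]
        rintro _ rfl
        exact hcent k (hor k hk) t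
      exact Subgroup.mem_centralizer_iff.1 (h5 hx) _ rfl
    have hv2 := hrange.le hv
    have hv' : v ∈ Subgroup.centralizer ({u} : Set ↥(twistedD4 K q)) := by
      refine (sup_le ?_ ?_ : _ ≤ Subgroup.centralizer ({u} : Set ↥(twistedD4 K q))) hv2
      · intro x hx
        rw [Subgroup.mem_centralizer_iff]
        rintro _ rfl
        apply Subtype.ext
        have h6 := Subgroup.mem_subgroupOf.1 hx
        rw [R_eq Nodes.RGDTwD4.cls1 (by decide +kernel)] at h6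
        exact hcl _ (by decide +kernel) _ h6.1
      · intro x hx
        rw [Subgroup.mem_centralizer_iff]
        rintro _ rfl
        apply Subtype.ext
        have h6 := Subgroup.mem_subgroupOf.1 hx
        rw [R_eq Nodes.RGDTwD4.cls1' (by decide +kernel)] at h6
        exact hcl _ (by decide +kernel) _ h6.1
    exact Subgroup.mem_centralizer_iff.1 hv' u rfl

end

/-- **Row (R6) of `F13`**: `³D₄(3)`. -/
theorem hasYF {K : Type u} [Group K] (hs : IsSimpleGroup K) (h : LieOddFam.F3D4 K 3) : HasYF K := by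
  obtain ⟨F, i1, i2, hF, ⟨e⟩⟩ := h
  have h0 : HasLong (3 ^ 3) K :=
    (hasLong_short (K := F) Nat.prime_three.isPrimePow hF (by decide)).of_equiv e.symm
  obtain ⟨j, J, h1, h2, h3, h4, F', _, _, hc, ho, ⟨e'⟩⟩ := h0
  have hSL : NI.IsSL ↥J := ⟨F', inferInstance, inferInstance, by rw [hc]; exact ho, by rw [hc]; norm_num, ⟨e'⟩⟩
  have hq : IsQuasisimple ↥J := NI.Final.isSL_quasi hSL
  refine ⟨j, J, h2, h1, ⟨h3, h4, ?_⟩, Or.inr (Or.inr ⟨hSL, ?_⟩)⟩
  · exact SignalizersComponents.Components.isQuasisimple_of_mulEquiv (Subgroup.subgroupOfEquivOfLe h3).symm hq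
  · intro hj
    rcases (inferInstance : (Subgroup.center K).Normal).eq_bot_or_eq_top with h5 | h5
    · rw [h5, Subgroup.mem_bot] at hj
      rw [hj, orderOf_one] at h1
      norm_num at h1
    · apply SignalizersComponents.Components.quasisimple_not_isMulCommutative hq
      refine ⟨⟨fun a b => Subtype.ext ?_⟩⟩
      have h6 : (a : K) ∈ Subgroup.center K := by rw [h5]; exact Subgroup.mem_top _
      exact (Subgroup.mem_center_iff.1 h6 b).symm

/-- **Row (R6) of `F13`**: `³D₄(3)`. -/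
theorem hasY {K : Type u} [Group K] (hs : IsSimpleGroup K) (h : LieOddFam.F3D4 K 3) : HasY K := (hasYF hs h).hasY

end Cfsg.Agent.OddHalf.NI3.K.TwD4
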