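import Mathlib
import Cfsg.Agent.OddHalf.LongSL.Tw
import Cfsg.Agent.KFacts.TwESix.Grp
import Cfsg.Agent.Nodes.ClsInv
import Cfsg.Agent.S1070

/-!
# Classical data for `²E₆(q)`, `q` odd (helper622)

* `psi` : `SL(2, q) → ²E₆(q)` at the node `0`, `range_psi`, `inv_node` : `psi (-1)` is the involution of the node `0`;
* `R` : the long roots; `cls` : `Cls` for the long root groups; `sl` : `⟨X r, X (-r)⟩ ≃ SL(2, q)`.
-/

set_option autoImplicit false
set_option linter.unusedSectionVars false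
set_option linter.dupNamespace false

namespace Cfsg.Agent.OddHalf.NI3.K.TwESixCls

open CoxeterSystem Cfsg.Agent.ChevalleyStructure.CoxeterGeom Cfsg.Agent.Tits.Roots Cfsg.Agent.Tits.Core
  Cfsg.Agent.Tits.RootComb Cfsg.Agent.Nodes.Comb Cfsg.Agent.Nodes.Reps Cfsg.Agent.Nodes.BNOf
  Cfsg.Agent.Nodes.Coroot Cfsg.Agent.Nodes.Chart Cfsg.Agent.Nodes.ClsInv
  Cfsg.Agent.Nodes.RGDTwGen Cfsg.Agent.Nodes.RGDChev Cfsg.Agent.Nodes.RGDFold Cfsg.Agent.Nodes.RGDTwE6
  Cfsg.Agent.KFacts.TwESix.Comb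
open Cfsg.Lie Cfsg.Agent.ChevalleyStructure Cfsg.Agent.ChevalleyStructure.Elts
  Cfsg.Agent.ChevalleyStructure.RootVec Cfsg.Agent.ChevalleyStructure.RootVecTab
  Cfsg.Agent.ChevalleyStructure.NPerm Cfsg.Agent.ChevalleyStructure.CoxeterGeomTypes
  Cfsg.Agent.ChevalleyStructure.TwistedU Cfsg.Agent.ChevalleyStructure.TwistedFix
open Cfsg.Agent.ChevalleyStructure.TwE6Basic (sg posE negE)
open Cfsg.Agent.OddHalf.LongSL.Chev Cfsg.Agent.OddHalf.LongSL.Fold

variable {K : Type} [Field K] {q : ℕ} {φ : K →+* K}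

theorem sg_xG {r : ℕ} (hr : r < 72) (h1 : TwistedE6Sigma.rho r = r) (t : K) :
    sg φ (xG hp.inList r t) = xG hp.inList r (φ t) := by
  apply Units.ext
  have h3 := TwistedE6Sigma.sig_xE6 φ (g := xG hp.inList r t) hr (coe_xG _ _ _)
  rw [h1, TwistedE6Sigma.eps_of_rho_eq r hr h1, Int.cast_one, one_mul] at h3
  exact h3

theorem hsp (t : K) : sg φ (xG hp.inList (chevE6.simple 1) t) = xG hp.inList (chevE6.simple 1) (φ t) := by
  rw [LongSL.Tw.simple_E6.1]
  exact sg_xG (by norm_num) (by decide +kernel) t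

theorem hsn (t : K) :
    sg φ (xG hp.inList (chevE6.neg (chevE6.simple 1)) t) = xG hp.inList (chevE6.neg (chevE6.simple 1)) (φ t) := by
  rw [LongSL.Tw.simple_E6.1, LongSL.Tw.simple_E6.2]
  exact sg_xG (by norm_num) (by decide +kernel) t

theorem hA : ∀ k < chevE6.nroots, (V chevE6 J k = sr 0 ↔ k ∈ [chevE6.simple 1]) := by
  intro k hk
  rw [cls 0 k hk]
  show k ∈ [46] ↔ k ∈ [chevE6.simple 1]
  rw [LongSL.Tw.simple_E6.1]

theorem hA' : ∀ k < chevE6.nroots, (V chevE6 J k = -sr 0 ↔ k ∈ [chevE6.neg (chevE6.simple 1)]) := by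
  intro k hk
  rw [cls' 0 k hk]
  show k ∈ [25] ↔ k ∈ [chevE6.neg (chevE6.simple 1)]
  rw [LongSL.Tw.simple_E6.1, LongSL.Tw.simple_E6.2]

theorem pair_tab : ∀ k < chevE6.nroots, pairing A 0 (V chevE6 J k) = chevE6.cartan 1 k := by decide +kernel

section

variable {W : Type*} [Group W] (cs : CoxeterSystem CoxeterMatrix.F₄ W)
variable [Fintype K] (hφ : ∀ x, φ x = x ^ q) (hqq : ∀ t : K, (t ^ q) ^ q = t) (p : ℕ) [Fact p.Prime] [CharP K p]

/-- `SL(2, q)` at the node `0`. -/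
noncomputable def psi : Matrix.SpecialLinearGroup (Fin 2) (FF φ) →* ↥(twistedE6 K q) :=
  (psi0 (hp := hp) 1 φ).codRestrict (twistedE6 K q)
    (psi0_mem CoxeterMatrix.F₄.toCoxeterSystem isCartan foldData (foldGrp hφ hqq) 0 1 hA hA' φ hsp hsn p)

theorem coe_psi (g : Matrix.SpecialLinearGroup (Fin 2) (FF φ)) :
    ((psi hφ hqq p g : ↥(twistedE6 K q)) : GL chevE6.Idx K) = psi0 (hp := hp) 1 φ g := rfl

theorem psi_injective (h2K : (2 : K) ≠ 0) : Function.Injective (psi hφ hqq p) := fun a b hab =>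
  psi0_injective (hp := hp) 1 φ h2K
    (by
      have h := LongSL.Tw.chk_E6
      rw [Bool.and_eq_true, Bool.and_eq_true] at h
      exact h.1.2) (congrArg Subtype.val hab)

theorem range_psi : (psi hφ hqq p).range = X φ q (sr 0) ⊔ X φ q (-sr 0) := by
  apply le_antisymm
  · rintro _ ⟨g, rfl⟩
    have h1 : g ∈ (X φ q (sr 0) ⊔ X φ q (-sr 0)).comap (psi hφ hqq p) := by
      refine (Subgroup.closure_le _).2 ?_ (SL2Hom.mem_closure_SL2 g)
      rintro x (⟨t, rfl⟩ | ⟨t, rfl⟩)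
      · refine Subgroup.mem_sup_left (show psi hφ hqq p (SL2Hom.up t) ∈ X φ q (sr 0) from ?_)
        rw [X, Subgroup.mem_subgroupOf, coe_psi, psi0_up]
        exact (mem_R_pos 0 1 hA φ hsp _).2 ⟨t, t.2, rfl⟩
      · refine Subgroup.mem_sup_right (show psi hφ hqq p (SL2Hom.lo t) ∈ X φ q (-sr 0) from ?_)
        rw [X, Subgroup.mem_subgroupOf, coe_psi, psi0_lo]
        exact (mem_R_neg 0 1 hA' φ hsn _).2 ⟨t, t.2, rfl⟩
    exact h1
  · refine sup_le ?_ ?_
    · intro u hu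
      obtain ⟨t, ht, e⟩ := (mem_R_pos 0 1 hA φ hsp _).1 (Subgroup.mem_subgroupOf.1 hu)
      exact ⟨SL2Hom.up ⟨t, ht⟩, Subtype.ext (by rw [coe_psi, psi0_up]; exact e.symm)⟩
    · intro u hu
      obtain ⟨t, ht, e⟩ := (mem_R_neg 0 1 hA' φ hsn _).1 (Subgroup.mem_subgroupOf.1 hu)
      exact ⟨SL2Hom.lo ⟨t, ht⟩, Subtype.ext (by rw [coe_psi, psi0_lo]; exact e.symm)⟩

/-- **The involution of the node `0`.** -/
theorem inv_node [Finite W] : Inv cs isCartan (T K q) (X φ q) (psi hφ hqq p (-1)) (sr 0) := by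
  have hr := simple_lt hp.inList (lt_rank hp 1)
  have hcpr : ∀ k < chevE6.nroots, cpr cs isCartan (V chevE6 J k) (sr 0) = chevE6.cartan 1 k := by
    intro k hk
    rw [cpr_sr, pair_tab k hk]
  have hconj : ∀ k < chevE6.nroots, ∀ t : K, psi0 (hp := hp) 1 φ (-1) * xG hp.inList k t * (psi0 (hp := hp) 1 φ (-1))⁻¹ =
      xG hp.inList k ((-1) ^ chevE6.cartan 1 k * t) := by
    intro k hk t
    rw [psi0_neg_one]
    exact conj_hG hp K 1 hk (-1) (neg_ne_zero.2 one_ne_zero) t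
  refine ⟨?_, ?_, ?_, ?_⟩
  · rw [T, Subgroup.mem_subgroupOf]
    refine ⟨?_, (psi hφ hqq p (-1)).2⟩
    rw [coe_psi, psi0_neg_one]
    exact hG_mem_diagonal hp.inList hr (neg_ne_zero.2 one_ne_zero)
  · rw [← range_psi hφ hqq p]
    exact ⟨_, rfl⟩
  · intro y hy he a ha
    obtain ⟨s, hs, rfl⟩ := (foldData.isRoot_iff (cs := cs) (h := isCartan) hp.checked
      (fun i r hr => wp_lt hp (J i) hr) y).1 hy
    rw [hcpr s hs] at he
    have ha' := (Subgroup.mem_subgroupOf.1 ha).1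
    have h1 : rspan (xG (F := K) hp.inList) {k | k < chevE6.nroots ∧ V chevE6 J k = V chevE6 J s} ≤
        Subgroup.centralizer {psi0 (hp := hp) 1 φ (-1)} := by
      refine rspan_le _ ?_
      rintro k ⟨hk, hV⟩ t
      have h2 : chevE6.cartan 1 k = chevE6.cartan 1 s := by rw [← hcpr k hk, ← hcpr s hs, hV]
      have h3 := hconj k hk t
      rw [h2, he.neg_one_zpow, one_mul, mul_inv_eq_iff_eq_mul] at h3
      exact Subgroup.mem_centralizer_singleton_iff.2 h3.symm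
    have h2 := Subgroup.mem_centralizer_singleton_iff.1 (h1 ha')
    apply Subtype.ext
    show psi0 (hp := hp) 1 φ (-1) * (a : GL chevE6.Idx K) * (psi0 (hp := hp) 1 φ (-1))⁻¹ = a
    rw [← h2, mul_inv_cancel_right]
  · intro y hy he a ha
    obtain ⟨s, hs, rfl⟩ := (foldData.isRoot_iff (cs := cs) (h := isCartan) hp.checked
      (fun i r hr => wp_lt hp (J i) hr) y).1 hy
    rw [hcpr s hs] at he
    have ha' := (Subgroup.mem_subgroupOf.1 ha).1
    have hchk := LongSL.Tw.chk_E6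
    rw [Bool.and_eq_true, Bool.and_eq_true] at hchk
    have hfib : ∀ k < chevE6.nroots, ∀ k' < chevE6.nroots, V chevE6 J k = V chevE6 J k' → k ≠ k' →
        k' ≠ chevE6.neg k ∧ chevE6.commTerms k k' = [] := by
      intro k hk k' hk' hV hkk
      have h3 := List.all_eq_true.1 (List.all_eq_true.1 hchk.2 k (List.mem_range.2 hk)) k' (List.mem_range.2 hk')
      simp only [Bool.or_eq_true, beq_iff_eq, Bool.and_eq_true, List.isEmpty_iff, hkk, false_or, hV, decide_true,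
        Bool.not_true, Bool.false_eq_true, bne_iff_ne] at h3
      exact ⟨h3.1.2, h3.2⟩
    apply Subtype.ext
    show psi0 (hp := hp) 1 φ (-1) * (a : GL chevE6.Idx K) * (psi0 (hp := hp) 1 φ (-1))⁻¹ = (a : GL chevE6.Idx K)⁻¹
    refine inverts_closure (S := {g | ∃ r ∈ {k | k < chevE6.nroots ∧ V chevE6 J k = V chevE6 J s}, ∃ t,
      g = xG hp.inList r t}) ?_ ?_ _ ha'
    · rintro _ ⟨k, ⟨hk, hV⟩, t, rfl⟩
      have h2 : chevE6.cartan 1 k = chevE6.cartan 1 s := by rw [← hcpr k hk, ← hcpr s hs, hV]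
      rw [hconj k hk t, h2, he.neg_one_zpow, neg_one_mul, xG_inv]
    · rintro _ ⟨k, ⟨hk, hV⟩, t, rfl⟩ _ ⟨k', ⟨hk', hV'⟩, t', rfl⟩
      by_cases hkk : k = k'
      · subst hkk
        rw [xG_add, xG_add, add_comm]
      · obtain ⟨h4, h5⟩ := hfib k hk k' hk' (hV.trans hV'.symm) hkk
        exact (LongSL.Chev.commute_xG hp K hk hk' (Ne.symm hkk) h4 h5 t t').symm

/-- The long roots. -/
def R : Set (Fin 4 → ℤ) := {x | IsRoot cs isCartan x ∧ bf x x = 4}

set_option maxRecDepth 20000 in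
theorem le_one_rts : ∀ x ∈ rts, ∀ y ∈ rts, bf y y = 4 → x ≠ y → x ≠ -y → |bf x y| ≤ 2 := by decide +kernel

theorem le_one {r x : Fin 4 → ℤ} (hr : r ∈ R cs) (hx : IsRoot cs isCartan x) (h1 : x ≠ r) (h2 : x ≠ -r) :
    |cpr cs isCartan x r| ≤ 1 := by
  have h3 := le_one_rts x ((mem_rts cs).1 hx) r ((mem_rts cs).1 hr.1) hr.2 h1 h2
  have h4 := cpr_long cs x hr.1 hr.2
  rw [abs_le] at h3 ⊢
  omega

theorem act (r : Fin 4 → ℤ) (hr : r ∈ R cs) (w : W) : rep cs isCartan w r ∈ R cs :=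
  ⟨hr.1.act w, by rw [bf_rep]; exact hr.2⟩

theorem center_eq (hq : IsPrimePow q) (hK : Fintype.card K = q ^ 2) :
    Subgroup.center ↥(twistedE6 K q) = ⊥ := by
  obtain ⟨h1, h2⟩ := Cfsg.Agent.S1070.result hq hK
  rcases (inferInstance : (Subgroup.center ↥(twistedE6 K q)).Normal).eq_bot_or_eq_top with h3 | h3
  · exact h3
  · exfalso
    apply h2
    exact ⟨⟨fun a b => by
      have h4 : a ∈ Subgroup.center ↥(twistedE6 K q) := by rw [h3]; exact Subgroup.mem_top a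
      exact (Subgroup.mem_center_iff.1 h4 b).symm⟩⟩

include hφ hqq in
/-- **Classical data of `²E₆(q)`, `q` odd.** -/
theorem clsE [Fintype W] (hq : IsPrimePow q) (hK : Fintype.card K = q ^ 2) :
    Cls cs isCartan p (T K q) (nn hφ) (X φ q) (R cs) (X φ q) (zv cs isCartan (T K q) (X φ q)) := by
  have Rg := Cfsg.Agent.Nodes.RGDTwE6.rgd cs hφ hqq p
  have hLR : ∀ r ∈ R cs, Cfsg.Agent.KFacts.RgdTI.LR (Cfsg.Agent.Nodes.RGDTwE6.rgd cs hφ hqq p) r := fun r hr =>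
    Cfsg.Agent.KFacts.TwESix.Grp.lr_long cs hφ hqq p hr.1 hr.2
  refine cls_of_inv Rg (fun t _ h1 => ?_) (fun r hr => hr.1) (act cs) (fun r hr y hy => le_one cs hr hy) ?_ ?_ ?_
  · rw [← Subgroup.mem_bot, ← center_eq hq hK, Subgroup.mem_center_iff]
    have h2 : Cfsg.Agent.Nodes.RGDLib.G1 cs isCartan (X φ q) ≤ Subgroup.centralizer {t} := by
      unfold Cfsg.Agent.Nodes.RGDLib.G1
      refine iSup_le ?_
      rintro ⟨y, hy⟩ a ha
      rw [Subgroup.mem_centralizer_singleton_iff]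
      have := h1 y hy a ha
      rw [mul_inv_eq_iff_eq_mul] at this
      exact this.symm
    rw [G1_eq_top cs hφ hqq] at h2
    intro g
    have h3 := h2 (Subgroup.mem_top g)
    rw [Subgroup.mem_centralizer_singleton_iff] at h3
    exact h3
  · intro r hr a ha b hb
    refine (hLR r hr).comm r hr.1 ?_ a ha b hb
    rw [cpr_self cs isCartan hr.1]
    norm_num
  · intro r hr y hy _ _ h0 a ha b hb
    refine (hLR r hr).comm y hy ?_ a ha b hb
    by_contra h3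
    have h4 := two_form_cpr cs isCartan y hr.1
    have h5 := form_pos cs isCartan hr.1.ne_zero
    push Not at h3
    nlinarith
  · intro i hi
    obtain ⟨w, hw⟩ := exists_rep_long cs hi.1 hi.2
    obtain ⟨g, hg⟩ := exists_rp cs Rg.nsys w
    have h1 := (inv_node cs hφ hqq p).act Rg (isRoot_sr cs isCartan 0) hg
    rw [hw] at h1
    exact ⟨_, h1⟩

include hφ hqq p in
/-- **The long root `SL(2, q)`.** -/
theorem sl (h2K : (2 : K) ≠ 0) {r : Fin 4 → ℤ} (hr : r ∈ R cs) :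
    Nonempty (Matrix.SpecialLinearGroup (Fin 2) (FF φ) ≃* ↥(X φ q r ⊔ X φ q (-r))) := by
  have : Finite W := finiteW cs
  have Rg := Cfsg.Agent.Nodes.RGDTwE6.rgd cs hφ hqq p
  obtain ⟨w, hw⟩ := exists_rep_long cs hr.1 hr.2
  obtain ⟨g, hg⟩ := exists_rp cs Rg.nsys w
  have e1 := MonoidHom.ofInjective (psi_injective hφ hqq p h2K)
  have h1 : cj g (X φ q (sr 0) ⊔ X φ q (-sr 0)) = X φ q r ⊔ X φ q (-r) := by
    rw [cj_sup, Rg.conj_rp hg (isRoot_sr cs isCartan 0), Rg.conj_rp hg (isRoot_sr cs isCartan 0).neg, map_neg, hw]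
  have e2 : ↥(X φ q (sr 0) ⊔ X φ q (-sr 0)) ≃* ↥(X φ q r ⊔ X φ q (-r)) :=
    ((X φ q (sr 0) ⊔ X φ q (-sr 0)).equivMapOfInjective _ (MulAut.conj g).injective).trans
      (MulEquiv.subgroupCongr h1)
  exact ⟨e1.trans ((MulEquiv.subgroupCongr (range_psi hφ hqq p)).trans e2)⟩

end

end Cfsg.Agent.OddHalf.NI3.K.TwESixCls
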