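import Mathlib
import Cfsg.Agent.OddHalf.NI3.K.BFour
import Cfsg.Agent.OddHalf.NI3.K.TwESixCls
import Cfsg.Agent.KFacts.TwESix.Tor
import Cfsg.Agent.OddHalf.NI3.K.F4

/-!
# `HasYF` for `²E6(3)` (NI over `F_3`, (F1_3); helper622)

`y = z a * z b`, `a = 0120`, `b = 0100` (the nodes `0, 1` are long, `2, 3` short), `M` the group of the roots `x` with
`x 3` even, of type `B4`; base `0122, α_0, α_1, α_2`.
-/

set_option autoImplicit false
set_option linter.unusedSectionVars false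
set_option linter.dupNamespace false

namespace Cfsg.Agent.OddHalf.NI3.K.TwESix

open CoxeterSystem Cfsg.Agent.ChevalleyStructure.CoxeterGeom Cfsg.Agent.Tits.Roots Cfsg.Agent.Tits.Core
  Cfsg.Agent.Tits.RootComb Cfsg.Agent.Nodes.Comb Cfsg.Agent.Nodes.Reps Cfsg.Agent.Nodes.BNOf
  Cfsg.Agent.Nodes.Coroot Cfsg.Agent.Nodes.Chart Cfsg.Agent.Nodes.SubComb
  Cfsg.Agent.Nodes.RGDTwE6 Cfsg.Agent.KFacts.TwESix.Comb Cfsg.Agent.OddHalf.NI3.K.TwESixCls
open Cfsg.Agent.OddHalf.NI3.K.F4 (MB AB isCartanB irrB pB pB_nodup pB_nonneg)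
open Cfsg.Lie

/-- The base. -/
def be : Fin 4 → Fin 4 → ℤ := ![![0, 1, 2, 2], ![1, 0, 0, 0], ![0, 1, 0, 0], ![0, 0, 1, 0]]

/-- The nodes. -/
def nd : Fin 4 → Fin 4 := ![1, 0, 1, 2]

theorem iota_be (c : Fin 4 → ℤ) : iota be c = ![c 1, c 0 + c 2, 2 * c 0 + c 3, 2 * c 0] := by
  funext k
  rw [iota_apply, Finset.sum_apply, Fin.sum_univ_four]
  fin_cases k <;> simp [be] <;> ring

section

variable {W : Type*} [Group W] (cs : CoxeterSystem CoxeterMatrix.F₄ W)

/-- The Weyl group elements of the base. -/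
def wd : Fin 4 → W := ![cs.simple 3 * cs.simple 2, 1, 1, 1]

/-- The reflection, computable. -/
def rx (i : Fin 4) (x : Fin 4 → ℤ) : Fin 4 → ℤ := x - pairing A i x • sr i

theorem rep_rx (i : Fin 4) (x : Fin 4 → ℤ) : rep cs isCartan (cs.simple i) x = rx i x :=
  rep_simple_eq cs isCartan i x

theorem rx_eq : rx 3 (rx 2 (sr 1)) = ![0, 1, 2, 2] := by decide +kernel

theorem pair_zero : ∀ k, pairing A 1 (rx 2 (rx 3 (be k))) = AB 0 k := by decide +kernel

theorem pair_pos : ∀ j, j ≠ 0 → ∀ k, pairing A (nd j) (be k) = AB j k := by decide +kernel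

theorem be_pos : ∀ j, j ≠ 0 → be j = sr (nd j) := by decide

theorem wd_pos : ∀ j : Fin 4, j ≠ 0 → wd cs j = 1 := by
  intro j hj
  fin_cases j
  · exact absurd rfl hj
  all_goals rfl

theorem subSys : SubSys cs isCartan AB be (wd cs) nd where
  eq j := by
    by_cases hj : j = 0
    · subst hj
      show be 0 = rep cs isCartan (cs.simple 3 * cs.simple 2) (sr 1)
      rw [rep_mul_apply, rep_rx, rep_rx, rx_eq]
      rfl
    · rw [wd_pos cs j hj, map_one, Module.End.one_apply, be_pos j hj]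
  cartan j k := by
    by_cases hj : j = 0
    · subst hj
      show pairing _ 1 (rep cs isCartan (cs.simple 3 * cs.simple 2)⁻¹ (be k)) = _
      rw [mul_inv_rev, cs.inv_simple, cs.inv_simple, rep_mul_apply, rep_rx, rep_rx]
      exact pair_zero k
    · rw [wd_pos cs j hj, inv_one, map_one, Module.End.one_apply]
      exact pair_pos j hj k
  indep c hc := by
    rw [iota_be] at hc
    have h0 := congrFun hc 0
    have h1 := congrFun hc 1
    have h2 := congrFun hc 2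
    have h3 := congrFun hc 3
    simp at h0 h1 h2 h3
    funext k
    fin_cases k <;> simp <;> omega

/-- The coordinates of an even root. -/
def co (x : Fin 4 → ℤ) : Fin 4 → ℤ := ![x 3 / 2, x 0, x 1 - x 3 / 2, x 2 - x 3]

theorem co_iota (c : Fin 4 → ℤ) : co (iota be c) = c := by
  rw [iota_be]
  funext k
  fin_cases k <;> simp [co]

theorem iota_co {x : Fin 4 → ℤ} (hx : Even (x 3)) : iota be (co x) = x := by
  rw [iota_be]
  have h1 : 2 * (x 3 / 2) = x 3 := Int.two_mul_ediv_two_of_even hx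
  funext k
  fin_cases k
  · rfl
  · show x 3 / 2 + (x 1 - x 3 / 2) = x 1
    omega
  · show 2 * (x 3 / 2) + (x 2 - x 3) = x 2
    omega
  · simpa [co] using h1

theorem base_tab : ∀ x ∈ rts, x 3 % 2 = 0 → (∀ k, 0 ≤ co x k) ∨ ∀ k, co x k ≤ 0 := by decide +kernel

theorem pB_tab : ∀ c ∈ pB, (![c 1, c 0 + c 2, 2 * c 0 + c 3, 2 * c 0] : Fin 4 → ℤ) ∈ rts := by decide +kernel

theorem base : ∀ c, IsRoot cs isCartan (iota be c) → 0 ≤ c ∨ c ≤ 0 := by
  intro c hc
  have h2 := base_tab _ ((mem_rts cs).1 hc) (by rw [iota_be]; simp)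
  rw [co_iota] at h2
  exact h2

theorem isRoot_co {x : Fin 4 → ℤ} (hx : IsRoot cs isCartan x) (he : Even (x 3)) :
    IsRoot MB.toCoxeterSystem isCartanB (co x) := by
  have := finiteW cs
  refine (subSys cs).isRoot_of_iota MB.toCoxeterSystem isCartanB (base cs) ?_
  rwa [iota_co he]

theorem root_a : IsRoot cs isCartan (![0, 1, 2, 0] : Fin 4 → ℤ) := (mem_rts cs).2 (by decide +kernel)
theorem root_b : IsRoot cs isCartan (![0, 1, 0, 0] : Fin 4 → ℤ) := (mem_rts cs).2 (by decide +kernel)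

theorem long_a : bf (![0, 1, 2, 0] : Fin 4 → ℤ) ![0, 1, 2, 0] = 4 := by decide +kernel
theorem long_b : bf (![0, 1, 0, 0] : Fin 4 → ℤ) ![0, 1, 0, 0] = 4 := by decide +kernel

theorem cpr_a (x : Fin 4 → ℤ) : cpr cs isCartan x ![0, 1, 2, 0] = x 2 - x 0 - x 3 := by
  have h := cpr_long cs x (root_a cs) long_a
  have e : bf x ![0, 1, 2, 0] = 2 * (x 2 - x 0 - x 3) := by
    simp [bf]
    ring
  rw [e] at h
  omega

theorem cpr_b (x : Fin 4 → ℤ) : cpr cs isCartan x ![0, 1, 0, 0] = 2 * x 1 - x 0 - x 2 := by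
  have h := cpr_long cs x (root_b cs) long_b
  have e : bf x ![0, 1, 0, 0] = 2 * (2 * x 1 - x 0 - x 2) := by
    simp [bf]
    ring
  rw [e] at h
  omega

theorem parity (x : Fin 4 → ℤ) :
    Even (cpr cs isCartan x ![0, 1, 2, 0] + cpr cs isCartan x ![0, 1, 0, 0]) ↔ Even (x 3) := by
  rw [cpr_a, cpr_b]
  have e : x 2 - x 0 - x 3 + (2 * x 1 - x 0 - x 2) = 2 * (x 1 - x 0) + -x 3 := by ring
  rw [e, Int.even_add]
  simp

theorem image (x : Fin 4 → ℤ) (hx : IsRoot cs isCartan x) :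
    Even (cpr cs isCartan x ![0, 1, 2, 0] + cpr cs isCartan x ![0, 1, 0, 0]) ↔
      ∃ c, IsRoot MB.toCoxeterSystem isCartanB c ∧ x = iota be c := by
  rw [parity cs]
  constructor
  · intro he
    exact ⟨co x, isRoot_co cs hx he, (iota_co he).symm⟩
  · rintro ⟨c, -, rfl⟩
    rw [iota_be]
    simp

end

/-- **`²E6(3)`**: `M` of type `B4`. -/
theorem hasYF_TwESix {K : Type} [Field K] [Fintype K] (hK : Fintype.card K = 3 ^ 2) :
    HasYF ↥(twistedE6 K 3) := by
  classical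
  have : Fact (Nat.Prime 3) := ⟨Nat.prime_three⟩
  have hq : IsPrimePow 3 := Nat.prime_three.isPrimePow
  have hchar : CharP K 3 := by
    obtain ⟨q, hq⟩ := CharP.exists K
    have hqp : q.Prime := (CharP.char_is_prime_or_zero K q).resolve_right (CharP.char_ne_zero_of_finite K q)
    obtain ⟨n, -, hn⟩ := FiniteField.card K q
    rw [hK] at hn
    have h1 : q ∣ 3 ^ 2 := by rw [hn]; exact dvd_pow_self q n.2.ne'
    rw [(Nat.prime_dvd_prime_iff_eq hqp Nat.prime_three).1 (hqp.dvd_of_dvd_pow h1)] at hq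
    exact hq
  have h2K : (2 : K) ≠ 0 := by
    intro h0
    have h1 : ((2 : ℕ) : K) = 0 := by exact_mod_cast h0
    rw [CharP.cast_eq_zero_iff K 3] at h1
    omega
  obtain ⟨φ, hφ, hqq⟩ := Cfsg.Agent.ChevalleyStructure.TwE6Basic.exists_frob hq hK
  have hfin0 : Finite CoxeterMatrix.F₄.Group := finiteW CoxeterMatrix.F₄.toCoxeterSystem
  let _ : Fintype CoxeterMatrix.F₄.Group := Fintype.ofFinite _
  have hfin' : Finite MB.Group := (subSys CoxeterMatrix.F₄.toCoxeterSystem).finite MB.toCoxeterSystem isCartanB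
  let _ : Fintype MB.Group := Fintype.ofFinite _
  let _ : Fintype (LongSL.Fold.FF φ) := Fintype.ofFinite _
  have hc : Fintype.card (LongSL.Fold.FF φ) = 3 := LongSL.Tw.card_FF (by norm_num) hK hφ
  have C := clsE CoxeterMatrix.F₄.toCoxeterSystem hφ hqq 3 hq hK
  have hR : ∀ j : Fin 4, j ≠ 3 → be j ∈ R CoxeterMatrix.F₄.toCoxeterSystem := by
    intro j hj
    refine ⟨(subSys _).isRoot_beta j, ?_⟩
    revert j
    decide +kernel
  have hR3 : be 3 ∉ R CoxeterMatrix.F₄.toCoxeterSystem := by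
    rintro ⟨-, h1⟩
    revert h1
    decide +kernel
  have hcount : 14 ≤ {c | IsRoot MB.toCoxeterSystem isCartanB c ∧ 0 ≤ c}.ncard :=
    F4.count CoxeterMatrix.F₄.toCoxeterSystem Nodes.KindF.isType.isCartan
  refine BFour.hasYF_of_sub C (G1_eq_top _ hφ hqq) Cfsg.Agent.KFacts.TwESix.Tor.T_comm (fun _ _ => rfl)
    (fun r hr y hy h1 h2 => le_one _ hr hy h1 h2) hc (fun s hs => sl _ hφ hqq 3 h2K hs)
    (a := ![0, 1, 2, 0]) (b := ![0, 1, 0, 0]) ⟨root_a _, long_a⟩ ⟨root_b _, long_b⟩ (subSys _)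
    (image CoxeterMatrix.F₄.toCoxeterSystem) ⟨sr 3, isRoot_sr _ _ 3, ?_⟩ ?_ ?_
    (Cfsg.Agent.Nodes.ChevChart.irr_of irrB) ?_ 1 ?_ hcount
  · rw [parity, sr_self]
    decide
  · rw [cpr_b]
    decide
  · rw [cpr_a]
    decide
  · intro k
    fin_cases k
    · exact ⟨1, by decide, by decide, hR 1 (by decide)⟩
    · exact ⟨0, by decide, by decide, hR 0 (by decide)⟩
    · exact ⟨1, by decide, by decide, hR 1 (by decide)⟩
    · exact ⟨2, by decide, by decide, hR 2 (by decide)⟩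
  · intro k hk
    fin_cases k
    · exact ⟨_, (BFour.rep_link (cs := MB.toCoxeterSystem) (h := isCartanB) (a := 1) (b := 0) rfl rfl).symm⟩
    · exact ⟨1, by rw [map_one, Module.End.one_apply]; rfl⟩
    · exact ⟨_, (BFour.rep_link (cs := MB.toCoxeterSystem) (h := isCartanB) (a := 1) (b := 2) rfl rfl).symm⟩
    · exact absurd hk hR3

/-- **Row `²E6(3)`.** -/
theorem row_TwESix {X : Type*} [Group X] (h : LieOddFam.F2E6 X 3) : HasYF X := by
  obtain ⟨F, _, _, hF, ⟨e⟩⟩ := h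
  exact Congr.hasYF_congr e.symm (hasYF_TwESix hF)

end Cfsg.Agent.OddHalf.NI3.K.TwESix
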