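import Cfsg.Agent.OddHalf.NI3.K.FThirteen
import Cfsg.Agent.OddHalf.NI3.K.F4
import Cfsg.Agent.OddHalf.NI3.K.TwESix
import Cfsg.Agent.OddHalf.NI3.K.TwD4

/-!
# (F1_3) unconditional (NI over `F_3`)

`f13 : F13`: every simple group of Lie type over the field with three elements which is not one of the nine small groups
has `HasYF`.
-/

set_option autoImplicit false

namespace Cfsg.Agent.OddHalf.NI3.K

open Subgroup Cfsg Cfsg.Agent.OddHalf.LieOddFam

universe u

/-- **(F1_3)** -/
theorem f13 : F13.{u} := by
  intro K _ _ hs hK hS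
  simp only [Small3, not_or] at hS
  obtain ⟨s1, s2, s3, s4, s5, s6, s7, s8, s9⟩ := hS
  rcases hK with h | h | h | h | h | h | h | h | h | h | h | h | h
  · exact SL.row_sl h s1 s3
  · exact Sp.row_sp h s5
  · exact SU.row_su h s2 s4
  · exact OrthY.row_odd h s7
  · exact OrthY.row_plus h s8
  · exact OrthY.row_minus h s9
  · exact absurd h s6
  · exact F4.row_F4 h
  · exact En.row_E6 h
  · exact En.row_E7 h
  · exact En.row_E8 h
  · exact TwESix.row_TwESix h
  · exact TwD4.hasYF hs h

end Cfsg.Agent.OddHalf.NI3.K
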