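import Cfsg.Agent.OddHalf.NI.FrameDef
import Cfsg.Agent.LieClassical.OrthFinite
import Cfsg.Agent.LieClassical.OrthForms

/-!
# `-1` is even in `Ω_8^+(3)`

`even_neg`: `-1 ∈ E (plusForm 4 F)`, `|F| = 3`, is the involution of a quaternion group.
-/

set_option autoImplicit false

namespace Cfsg.Agent.OddHalf.NI3.OrthEven

open QuadraticMap Subgroup Matrix
open Cfsg.Agent.LieClassical.OrthCore Cfsg.Agent.LieClassical.OrthTrans Cfsg.Agent.LieClassical.OrthFinite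
open Cfsg.Agent.LieClassical.OrthForms
open Cfsg.Agent.OddHalf.NI (Even8)
open scoped commutatorElement

section Lev

variable {m : ℕ} {F : Type*} [Field F]

/-- `diag(g, g⁻ᵀ)` -/
noncomputable def hyp : GL (Fin m) F →* GL (Fin m ⊕ Fin m) F :=
  MonoidHom.toHomUnits
    { toFun := fun g => fromBlocks (g : Matrix (Fin m) (Fin m) F) 0 0 ((g⁻¹ : GL (Fin m) F) : Matrix (Fin m) (Fin m) F)ᵀ
      map_one' := by
        rw [inv_one, Units.val_one, transpose_one, fromBlocks_one]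
      map_mul' := fun g h => by
        rw [fromBlocks_multiply, _root_.mul_inv_rev, Units.val_mul, Units.val_mul, transpose_mul]
        simp }

theorem coe_hyp (g : GL (Fin m) F) : ((hyp g : GL (Fin m ⊕ Fin m) F) : Matrix _ _ F) =
    fromBlocks (g : Matrix (Fin m) (Fin m) F) 0 0 ((g⁻¹ : GL (Fin m) F) : Matrix (Fin m) (Fin m) F)ᵀ := rfl

/-- `diag(g, g⁻ᵀ)` as a linear map -/
noncomputable def lev : GL (Fin m) F →* ((Fin m ⊕ Fin m → F) ≃ₗ[F] (Fin m ⊕ Fin m → F)) :=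
  (glEquiv (Fin m ⊕ Fin m) F).toMonoidHom.comp hyp

theorem lev_apply (g : GL (Fin m) F) (v : Fin m ⊕ Fin m → F) :
    lev g v = Sum.elim ((g : Matrix (Fin m) (Fin m) F) *ᵥ (v ∘ Sum.inl))
      (((g⁻¹ : GL (Fin m) F) : Matrix (Fin m) (Fin m) F)ᵀ *ᵥ (v ∘ Sum.inr)) := by
  show (fromBlocks (g : Matrix (Fin m) (Fin m) F) 0 0
    ((g⁻¹ : GL (Fin m) F) : Matrix (Fin m) (Fin m) F)ᵀ) *ᵥ v = _
  rw [fromBlocks_mulVec, zero_mulVec, zero_mulVec, add_zero, zero_add]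

theorem lev_mem_O (g : GL (Fin m) F) : lev g ∈ O (plusForm m F) := by
  rw [mem_O]
  intro v
  rw [coe_plusForm, quadFormPlus_apply, quadFormPlus_apply, lev_apply]
  change ((g : Matrix (Fin m) (Fin m) F) *ᵥ (v ∘ Sum.inl)) ⬝ᵥ
    (((g⁻¹ : GL (Fin m) F) : Matrix (Fin m) (Fin m) F)ᵀ *ᵥ (v ∘ Sum.inr)) = (v ∘ Sum.inl) ⬝ᵥ (v ∘ Sum.inr)
  rw [dotProduct_mulVec, vecMul_transpose, mulVec_mulVec, ← Units.val_mul, inv_mul_cancel, Units.val_one, one_mulVec]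

theorem lev_neg : lev (-1 : GL (Fin m) F) = LinearEquiv.neg F := by
  ext v : 1
  rw [lev_apply, inv_neg, inv_one, Units.val_neg, Units.val_one, transpose_neg, transpose_one, neg_mulVec, neg_mulVec,
    one_mulVec, one_mulVec]
  funext i
  rcases i with i | i <;> rfl

theorem lev_comm (hG : Good (plusForm m F)) (g h : GL (Fin m) F) : lev ⁅g, h⁆ ∈ E (plusForm m F) := by
  rw [← hG.commutator_eq_E, map_commutatorElement]
  exact Subgroup.commutator_mem_commutator (lev_mem_O g) (lev_mem_O h)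

end Lev

/-! ### The quaternion group in `GL₄(3)` -/

/-- `diag(i, 1)` -/
def gi : GL (Fin 4) (ZMod 3) :=
  ⟨!![0, 1, 0, 0; -1, 0, 0, 0; 0, 0, 1, 0; 0, 0, 0, 1], !![0, -1, 0, 0; 1, 0, 0, 0; 0, 0, 1, 0; 0, 0, 0, 1],
    by decide, by decide⟩

/-- `diag(j, 1)` -/
def gj : GL (Fin 4) (ZMod 3) :=
  ⟨!![1, 1, 0, 0; 1, -1, 0, 0; 0, 0, 1, 0; 0, 0, 0, 1], !![-1, -1, 0, 0; -1, 1, 0, 0; 0, 0, 1, 0; 0, 0, 0, 1],
    by decide, by decide⟩

/-- the swap of the two blocks -/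
def gs : GL (Fin 4) (ZMod 3) :=
  ⟨!![0, 0, 1, 0; 0, 0, 0, 1; 1, 0, 0, 0; 0, 1, 0, 0], !![0, 0, 1, 0; 0, 0, 0, 1; 1, 0, 0, 0; 0, 1, 0, 0],
    by decide, by decide⟩

/-- `diag(i, i⁻¹)` -/
def gu : GL (Fin 4) (ZMod 3) :=
  ⟨!![0, 1, 0, 0; -1, 0, 0, 0; 0, 0, 0, -1; 0, 0, 1, 0], !![0, -1, 0, 0; 1, 0, 0, 0; 0, 0, 0, 1; 0, 0, -1, 0],
    by decide, by decide⟩

/-- `diag(j, j⁻¹)` -/
def gx : GL (Fin 4) (ZMod 3) :=
  ⟨!![1, 1, 0, 0; 1, -1, 0, 0; 0, 0, -1, -1; 0, 0, -1, 1], !![-1, -1, 0, 0; -1, 1, 0, 0; 0, 0, 1, 1; 0, 0, 1, -1],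
    by decide, by decide⟩

theorem gu_comm : ⁅gi, gs⁆ = gu := by
  rw [commutatorElement_def]
  apply Units.ext
  decide

theorem gx_comm : ⁅gj, gs⁆ = gx := by
  rw [commutatorElement_def]
  apply Units.ext
  decide

theorem gu_sq : gu * gu = -1 := by
  apply Units.ext
  decide

theorem gx_sq : gx * gx = -1 := by
  apply Units.ext
  decide

theorem gux : ⁅gu, gx⁆ = -1 := by
  rw [commutatorElement_def]
  apply Units.ext
  decide

variable {F : Type*} [Field F] [Fintype F]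

theorem two_ne (hF : Fintype.card F = 3) : (2 : F) ≠ 0 := by
  intro h
  have h1 : ((Fintype.card F : ℕ) : F) = 0 := Nat.cast_card_eq_zero F
  rw [hF] at h1
  have h2 : (1 : F) = 0 := by
    have h3 : (1 : F) = ((3 : ℕ) : F) - 2 := by norm_num
    rw [h3, h1, h, sub_zero]
  exact one_ne_zero h2

/-- **`-1` is even in `Ω_8^+(3)`** -/
theorem even_neg (hF : Fintype.card F = 3) (hG : Good (plusForm 4 F)) :
    ∃ nn : ↥(E (plusForm 4 F)), (nn : (Fin 4 ⊕ Fin 4 → F) ≃ₗ[F] (Fin 4 ⊕ Fin 4 → F)) = LinearEquiv.neg F ∧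
      Even8 nn := by
  have φ : ZMod 3 →+* F := (ZMod.ringEquivOfPrime F Nat.prime_three hF).toRingHom
  set ρ : GL (Fin 4) (ZMod 3) →* ((Fin 4 ⊕ Fin 4 → F) ≃ₗ[F] (Fin 4 ⊕ Fin 4 → F)) :=
    lev.comp (Matrix.GeneralLinearGroup.map φ) with hρ
  have hn : ρ (-1) = LinearEquiv.neg F := by
    have h1 : Matrix.GeneralLinearGroup.map φ (-1 : GL (Fin 4) (ZMod 3)) = -1 := by
      apply Units.ext
      show (-1 : Matrix (Fin 4) (Fin 4) (ZMod 3)).map φ = -1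
      rw [Matrix.map_neg _ (map_neg φ), Matrix.map_one _ (map_zero φ) (map_one φ)]
    rw [hρ, MonoidHom.comp_apply, h1, lev_neg]
  have hu : ρ gu ∈ E (plusForm 4 F) := by
    rw [← gu_comm, hρ, MonoidHom.comp_apply, map_commutatorElement]
    exact lev_comm hG _ _
  have hx : ρ gx ∈ E (plusForm 4 F) := by
    rw [← gx_comm, hρ, MonoidHom.comp_apply, map_commutatorElement]
    exact lev_comm hG _ _
  have h3 : ρ gu * ρ gu = LinearEquiv.neg F := by rw [← map_mul, gu_sq, hn]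
  have h4 : ρ gx * ρ gx = LinearEquiv.neg F := by rw [← map_mul, gx_sq, hn]
  have h5 : ⁅ρ gu, ρ gx⁆ = LinearEquiv.neg F := by rw [← map_commutatorElement, gux, hn]
  have h6 : (LinearEquiv.neg F : (Fin 4 ⊕ Fin 4 → F) ≃ₗ[F] (Fin 4 ⊕ Fin 4 → F)) ∈ E (plusForm 4 F) := by
    rw [← h3]
    exact mul_mem hu hu
  refine ⟨⟨_, h6⟩, rfl, ?_, ⟨_, hu⟩, ⟨_, hx⟩, Subtype.ext h3, Subtype.ext h4, Subtype.ext h5⟩
  refine orderOf_eq_prime ?_ ?_
  · apply Subtype.ext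
    show (LinearEquiv.neg F : (Fin 4 ⊕ Fin 4 → F) ≃ₗ[F] (Fin 4 ⊕ Fin 4 → F)) ^ 2 = 1
    ext1 v
    rw [pow_two]
    show -(-v) = v
    exact neg_neg v
  · intro h
    have h7 := congrArg (fun g : ↥(E (plusForm 4 F)) =>
      (g : (Fin 4 ⊕ Fin 4 → F) ≃ₗ[F] (Fin 4 ⊕ Fin 4 → F)) (fun _ => (1 : F)) (Sum.inl 0)) h
    change -(1 : F) = 1 at h7
    apply two_ne hF
    linear_combination -h7

end Cfsg.Agent.OddHalf.NI3.OrthEven
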