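import Cfsg.Agent.OddHalf.NI3.K.OrthCore
import Cfsg.Agent.OddHalf.NI3.K.OrthEven

/-!
# F13, row (R3): the orthogonal groups over the field with three elements

`odd` (`PΩ_{2m+1}(3)`, `m ≥ 4`), `plus` (`PΩ⁺_{2m}(3)`, `m ≥ 5`), `minus` (`PΩ⁻_{2m}(3)`, `m ≥ 5`): `y = -1` on a
hyperbolic space of dimension eight, `M = Ω_8^+(3)`.
-/

set_option autoImplicit false

namespace Cfsg.Agent.OddHalf.NI3.Orth

open QuadraticMap Subgroup
open Cfsg.Agent.LieClassical.OrthCore Cfsg.Agent.LieClassical.OrthTrans Cfsg.Agent.LieClassical.OrthFinite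
open Cfsg.Agent.LieClassical.OrthForms
open Cfsg.Agent.OddHalf.NI (CompIn Even8)
open Cfsg.Agent.OddHalf.LieOddFam (Rk)

universe u

/-- a component `M ∋ y` of `C_X(y)`, `y` even in `M`, `M / Z(M)` of Lie type over `F_3` -/
def CoreY (X : Type*) [Group X] : Prop :=
  ∃ (y : X) (M : Subgroup X) (hy : y ∈ M), orderOf y = 2 ∧ CompIn (centralizer ({y} : Set X)) M ∧
    Rk (↥M ⧸ center ↥M) 3 ∧ Even8 (⟨y, hy⟩ : ↥M)

section Row

variable {F : Type} [Field F] [Fintype F]

theorem good_plus_four : Good (plusForm 4 F) :=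
  good_of_finite (nondeg_plusForm 4 F) (by rw [Module.finrank_fintype_fun_eq_card]; simp)

theorem of_split (hF : Fintype.card F = 3) {ι : Type} [Fintype ι] [DecidableEq ι] {Q : QuadraticForm F (ι → F)}
    (hG : Good Q) {V₂ : Type} [AddCommGroup V₂] [Module F V₂] (e : (ι → F) ≃ₗ[F] (Fin 4 ⊕ Fin 4 → F) × V₂) {q₂ : V₂ → F}
    (hQ : ∀ v, Q v = plusForm 4 F (e v).1 + q₂ (e v).2) {w : V₂} (hw : w ≠ 0) {X : Type u} [Group X]
    (eX : X ≃* Cfsg.POmega F ⇑Q) : CoreY X := by
  have h1 : Good (plusForm 4 F) := good_plus_four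
  obtain ⟨nn, hnn, h8⟩ := OrthEven.even_neg hF h1
  have eO : ↥(E Q) ≃* Cfsg.Omega F ⇑Q :=
    ((omegaEquiv Q).trans (MulEquiv.subgroupCongr hG.commutator_eq_E)).symm
  obtain ⟨π, hπd⟩ : ∃ π : ↥(E Q) →* X,
      π = (eX.symm.toMonoidHom.comp (QuotientGroup.mk' (center (Cfsg.Omega F ⇑Q)))).comp eO.toMonoidHom := ⟨_, rfl⟩
  have hπ : Function.Surjective π := by
    rw [hπd]
    exact (eX.symm.surjective.comp (QuotientGroup.mk'_surjective _)).comp eO.surjective
  have hk : ∀ g, π g = 1 → g ∈ center ↥(E Q) := by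
    intro g hg
    rw [hπd] at hg
    have h2 : eX.symm (QuotientGroup.mk (eO g) : Cfsg.POmega F ⇑Q) = 1 := hg
    have h3 : (QuotientGroup.mk (eO g) : Cfsg.POmega F ⇑Q) = 1 := eX.symm.injective (h2.trans (map_one _).symm)
    have h4 := mem_center_iff.1 ((QuotientGroup.eq_one_iff _).1 h3)
    rw [mem_center_iff]
    intro k
    apply eO.injective
    rw [map_mul, map_mul]
    exact h4 _
  obtain ⟨y, M, hy, ho, hc, he, ⟨iso⟩⟩ := core e hQ h1 hG (OrthEven.two_ne hF) hπ hk hw nn hnn h8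
  refine ⟨y, M, hy, ho, hc, ?_, he⟩
  have e2 : ↥M ≃* Cfsg.Omega F ⇑(plusForm 4 F) :=
    iso.trans ((omegaEquiv (plusForm 4 F)).trans (MulEquiv.subgroupCongr h1.commutator_eq_E)).symm
  have e3 := quotientCenterCongr e2
  rw [coe_plusForm] at e3
  exact Or.inr (Or.inr (Or.inr (Or.inr (Or.inl ⟨F, _, _, 4, hF, le_refl 4, ⟨e3⟩⟩))))

/-- The hyperbolic part. -/
def eP (k : ℕ) : (Fin (4 + k) ⊕ Fin (4 + k) → F) ≃ₗ[F] (Fin 4 ⊕ Fin 4 → F) × (Fin k ⊕ Fin k → F) where
  toFun v := (Sum.elim (fun i => v (.inl (Fin.castAdd k i))) (fun i => v (.inr (Fin.castAdd k i))),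
    Sum.elim (fun i => v (.inl (Fin.natAdd 4 i))) (fun i => v (.inr (Fin.natAdd 4 i))))
  map_add' v w := by
    refine Prod.ext ?_ ?_ <;> (funext i; rcases i with i | i <;> rfl)
  map_smul' c v := by
    refine Prod.ext ?_ ?_ <;> (funext i; rcases i with i | i <;> rfl)
  invFun p := Sum.elim (Fin.append (fun i => p.1 (.inl i)) (fun i => p.2 (.inl i)))
    (Fin.append (fun i => p.1 (.inr i)) (fun i => p.2 (.inr i)))
  left_inv v := by
    funext i
    rcases i with i | i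
    · refine Fin.addCases (fun j => ?_) (fun j => ?_) i
      · exact Fin.append_left _ _ j
      · exact Fin.append_right _ _ j
    · refine Fin.addCases (fun j => ?_) (fun j => ?_) i
      · exact Fin.append_left _ _ j
      · exact Fin.append_right _ _ j
  right_inv p := by
    refine Prod.ext ?_ ?_
    · funext i
      rcases i with i | i
      · exact Fin.append_left (fun i => p.1 (.inl i)) (fun i => p.2 (.inl i)) i
      · exact Fin.append_left (fun i => p.1 (.inr i)) (fun i => p.2 (.inr i)) i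
    · funext i
      rcases i with i | i
      · exact Fin.append_right (fun i => p.1 (.inl i)) (fun i => p.2 (.inl i)) i
      · exact Fin.append_right (fun i => p.1 (.inr i)) (fun i => p.2 (.inr i)) i

omit [Fintype F] in
theorem eP_form (k : ℕ) (v : Fin (4 + k) ⊕ Fin (4 + k) → F) :
    Cfsg.quadFormPlus (4 + k) F v = Cfsg.quadFormPlus 4 F (eP k v).1 + Cfsg.quadFormPlus k F (eP k v).2 := by
  rw [quadFormPlus_apply, quadFormPlus_apply, quadFormPlus_apply, Fin.sum_univ_add]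
  rfl

/-- `PΩ⁺_{2m}(3)`, `m ≥ 5` -/
theorem plus (hF : Fintype.card F = 3) {m : ℕ} (hm : 5 ≤ m) {X : Type u} [Group X]
    (eX : X ≃* Cfsg.POmega F (Cfsg.quadFormPlus m F)) : CoreY X := by
  obtain ⟨k, rfl⟩ : ∃ k, m = 4 + k := ⟨m - 4, by omega⟩
  have hk : 0 < k := by omega
  have hG : Good (plusForm (4 + k) F) :=
    good_of_finite (nondeg_plusForm _ F) (by rw [Module.finrank_fintype_fun_eq_card]; simp; omega)
  rw [← coe_plusForm] at eX
  refine of_split hF hG (eP k) (q₂ := Cfsg.quadFormPlus k F) ?_ (w := fun _ => 1) ?_ eX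
  · intro v
    rw [coe_plusForm, coe_plusForm, eP_form]
  · intro h
    exact one_ne_zero (congrFun h (Sum.inl ⟨0, hk⟩))

/-- The decomposition in odd dimension. -/
def eO (k : ℕ) : (Unit ⊕ (Fin (4 + k) ⊕ Fin (4 + k)) → F) ≃ₗ[F]
    (Fin 4 ⊕ Fin 4 → F) × (Unit ⊕ (Fin k ⊕ Fin k) → F) where
  toFun v := ((eP k (fun i => v (.inr i))).1, Sum.elim (fun i => v (.inl i)) (eP k (fun i => v (.inr i))).2)
  map_add' v w := by
    refine Prod.ext ?_ ?_
    · funext i; rcases i with i | i <;> rfl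
    · funext i; rcases i with i | (i | i) <;> rfl
  map_smul' c v := by
    refine Prod.ext ?_ ?_
    · funext i; rcases i with i | i <;> rfl
    · funext i; rcases i with i | (i | i) <;> rfl
  invFun p := Sum.elim (fun i => p.2 (.inl i)) ((eP k).symm (p.1, fun i => p.2 (.inr i)))
  left_inv v := by
    funext i
    rcases i with i | i
    · rfl
    · exact congrFun ((eP k).symm_apply_apply (fun i => v (.inr i))) i
  right_inv p := by
    have h := (eP k).apply_symm_apply (p.1, fun i => p.2 (.inr i))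
    have h1 := congrArg Prod.fst h
    have h2 := congrArg Prod.snd h
    refine Prod.ext ?_ ?_
    · exact h1
    · funext i
      rcases i with i | i
      · rfl
      · exact congrFun h2 i

/-- `PΩ_{2m+1}(3)`, `m ≥ 4` -/
theorem odd (hF : Fintype.card F = 3) {m : ℕ} (hm : 4 ≤ m) {X : Type u} [Group X]
    (eX : X ≃* Cfsg.POmega F (Cfsg.quadFormOdd m F)) : CoreY X := by
  obtain ⟨k, rfl⟩ : ∃ k, m = 4 + k := ⟨m - 4, by omega⟩
  have hG : Good (oddForm (4 + k) F) :=
    good_of_finite (nondeg_oddForm _ F (OrthEven.two_ne hF)) (by rw [Module.finrank_fintype_fun_eq_card]; simp; omega)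
  rw [← coe_oddForm] at eX
  refine of_split hF hG (eO k) (q₂ := Cfsg.quadFormOdd k F) ?_ (w := fun _ => 1) ?_ eX
  · intro v
    rw [coe_oddForm, coe_plusForm]
    have h := eP_form k (fun i => v (.inr i))
    change v (.inl ()) ^ 2 + Cfsg.quadFormPlus (4 + k) F (fun i => v (.inr i)) =
      Cfsg.quadFormPlus 4 F (eP k (fun i => v (.inr i))).1 +
        (v (.inl ()) ^ 2 + Cfsg.quadFormPlus k F (eP k (fun i => v (.inr i))).2)
    rw [h]
    ring
  · intro h
    exact one_ne_zero (congrFun h (Sum.inl ()))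

/-- The decomposition for the minus type. -/
def eM (k : ℕ) : ((Fin (4 + k) ⊕ Fin (4 + k)) ⊕ Fin 2 → F) ≃ₗ[F]
    (Fin 4 ⊕ Fin 4 → F) × ((Fin k ⊕ Fin k) ⊕ Fin 2 → F) where
  toFun v := ((eP k (fun i => v (.inl i))).1, Sum.elim (eP k (fun i => v (.inl i))).2 (fun i => v (.inr i)))
  map_add' v w := by
    refine Prod.ext ?_ ?_
    · funext i; rcases i with i | i <;> rfl
    · funext i; rcases i with (i | i) | i <;> rfl
  map_smul' c v := by
    refine Prod.ext ?_ ?_
    · funext i; rcases i with i | i <;> rfl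
    · funext i; rcases i with (i | i) | i <;> rfl
  invFun p := Sum.elim ((eP k).symm (p.1, fun i => p.2 (.inl i))) (fun i => p.2 (.inr i))
  left_inv v := by
    funext i
    rcases i with i | i
    · exact congrFun ((eP k).symm_apply_apply (fun i => v (.inl i))) i
    · rfl
  right_inv p := by
    have h := (eP k).apply_symm_apply (p.1, fun i => p.2 (.inl i))
    have h1 := congrArg Prod.fst h
    have h2 := congrArg Prod.snd h
    refine Prod.ext ?_ ?_
    · exact h1
    · funext i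
      rcases i with i | i
      · exact congrFun h2 i
      · rfl

/-- `PΩ⁻_{2m+2}(3)`, `m ≥ 4` -/
theorem minus (hF : Fintype.card F = 3) {m : ℕ} (hm : 4 ≤ m) {b c : F}
    (hbc : ∀ z₁ z₂ : F, z₁ ^ 2 + b * z₁ * z₂ + c * z₂ ^ 2 = 0 → z₁ = 0 ∧ z₂ = 0) {X : Type u} [Group X]
    (eX : X ≃* Cfsg.POmega F (Cfsg.quadFormMinus m F b c)) : CoreY X := by
  obtain ⟨k, rfl⟩ : ∃ k, m = 4 + k := ⟨m - 4, by omega⟩
  have hG : Good (minusForm (4 + k) F b c) :=
    good_of_finite (nondeg_minusForm _ F b c hbc) (by rw [Module.finrank_fintype_fun_eq_card]; simp; omega)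
  rw [← coe_minusForm] at eX
  refine of_split hF hG (eM k) (q₂ := Cfsg.quadFormMinus k F b c) ?_ (w := fun _ => 1) ?_ eX
  · intro v
    rw [coe_minusForm, coe_plusForm]
    have h := eP_form k (fun i => v (.inl i))
    change Cfsg.quadFormPlus (4 + k) F (fun i => v (.inl i)) +
        (v (.inr 0) ^ 2 + b * v (.inr 0) * v (.inr 1) + c * v (.inr 1) ^ 2) =
      Cfsg.quadFormPlus 4 F (eP k (fun i => v (.inl i))).1 +
        (Cfsg.quadFormPlus k F (eP k (fun i => v (.inl i))).2 +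
          (v (.inr 0) ^ 2 + b * v (.inr 0) * v (.inr 1) + c * v (.inr 1) ^ 2))
    rw [h]
    ring
  · intro h
    exact one_ne_zero (congrFun h (Sum.inr 0))

end Row

/-! ### The rows of `F13` -/

/-- `PΩ_{2m+1}(3)` -/
theorem row_odd {X : Type u} [Group X] (h : LieOddFam.FOdd X 3) (hS : ¬ Small3 X) : CoreY X := by
  obtain ⟨F, i1, i2, m, hF, hm, ⟨e⟩⟩ := h
  by_cases h3 : m = 3
  · subst h3
    exact absurd (Or.inr (Or.inr (Or.inr (Or.inr (Or.inr (Or.inr (Or.inl ⟨F, i1, i2, hF, ⟨e⟩⟩))))))) hS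
  · exact odd hF (by omega) e

/-- `PΩ⁺_{2m}(3)` -/
theorem row_plus {X : Type u} [Group X] (h : LieOddFam.FPlus X 3) (hS : ¬ Small3 X) : CoreY X := by
  obtain ⟨F, i1, i2, m, hF, hm, ⟨e⟩⟩ := h
  by_cases h3 : m = 4
  · subst h3
    exact absurd (Or.inr (Or.inr (Or.inr (Or.inr (Or.inr (Or.inr (Or.inr (Or.inl ⟨F, i1, i2, hF, ⟨e⟩⟩)))))))) hS
  · exact plus hF (by omega) e

/-- `PΩ⁻_{2m}(3)` -/
theorem row_minus {X : Type u} [Group X] (h : LieOddFam.FMinus X 3) (hS : ¬ Small3 X) : CoreY X := by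
  obtain ⟨F, i1, i2, m, b, c, hF, hm, hbc, ⟨e⟩⟩ := h
  by_cases h3 : m = 4
  · subst h3
    exact absurd (Or.inr (Or.inr (Or.inr (Or.inr (Or.inr (Or.inr (Or.inr (Or.inr
      ⟨F, i1, i2, b, c, hF, hbc, ⟨e⟩⟩)))))))) hS
  · exact minus hF (m := m - 1) (by omega) hbc e

/-- **(R3)**: `HasY` for the orthogonal groups over the field with three elements -/
theorem hasY_of_core {X : Type u} [Group X] (h : CoreY X) : HasY X := by
  obtain ⟨y, M, hy, h1, h2, h3, h4⟩ := h
  exact ⟨y, M, hy, h1, h2, Or.inl ⟨h3, h4⟩⟩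

theorem hasY_odd {X : Type u} [Group X] (h : LieOddFam.FOdd X 3) (hS : ¬ Small3 X) : HasY X :=
  hasY_of_core (row_odd h hS)

theorem hasY_plus {X : Type u} [Group X] (h : LieOddFam.FPlus X 3) (hS : ¬ Small3 X) : HasY X :=
  hasY_of_core (row_plus h hS)

theorem hasY_minus {X : Type u} [Group X] (h : LieOddFam.FMinus X 3) (hS : ¬ Small3 X) : HasY X :=
  hasY_of_core (row_minus h hS)

end Cfsg.Agent.OddHalf.NI3.Orth
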