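import Cfsg.Agent.OddHalf.NI3.Props
import Cfsg.Agent.AutOrth.Gen
import Cfsg.Agent.LieClassical.OrthFinite

/-!
# Orthogonal decompositions `V = V₁ ⟂ V₂` and the centraliser of `-1` on `V₁` (NI over F_3, F13, row R3)

* `J e g` : `g` on `V₁`, trivial on `V₂`.
* `core` : `M = Ω(V₁)` (image in `X = Ω(V) / Z`) is a component of `C_X(y)`, `y = -1` on `V₁`.
-/

set_option autoImplicit false

namespace Cfsg.Agent.OddHalf.NI3.Orth

open QuadraticMap Subgroup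
open Cfsg.Agent.LieClassical.OrthCore Cfsg.Agent.LieClassical.OrthTrans Cfsg.Agent.LieClassical.OrthSimple
open Cfsg.Agent.OddHalf.NI (CompIn Even8)
open scoped commutatorElement

universe u

section Split

variable {F V V₁ V₂ : Type*} [Field F] [AddCommGroup V] [Module F V] [AddCommGroup V₁] [Module F V₁]
  [AddCommGroup V₂] [Module F V₂] (e : V ≃ₗ[F] V₁ × V₂)

/-- `g` on `V₁`, trivial on `V₂` -/
def J : (V₁ ≃ₗ[F] V₁) →* (V ≃ₗ[F] V) where
  toFun g := e.trans ((g.prodCongr (LinearEquiv.refl F V₂)).trans e.symm)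
  map_one' := by
    ext v
    show e.symm ((e v).1, (e v).2) = v
    exact e.symm_apply_apply v
  map_mul' g h := by
    ext v
    show e.symm (g (h (e v).1), (e v).2) =
      e.symm (g (e (e.symm (h (e v).1, (e v).2))).1, (e (e.symm (h (e v).1, (e v).2))).2)
    rw [e.apply_symm_apply]

theorem J_apply (g : V₁ ≃ₗ[F] V₁) (v : V) : J e g v = e.symm (g (e v).1, (e v).2) := rfl

theorem J_symm (g : V₁ ≃ₗ[F] V₁) (p : V₁ × V₂) : J e g (e.symm p) = e.symm (g p.1, p.2) := by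
  rw [J_apply, e.apply_symm_apply]

theorem e_J (g : V₁ ≃ₗ[F] V₁) (v : V) : e (J e g v) = (g (e v).1, (e v).2) := by
  rw [J_apply, e.apply_symm_apply]

variable {Q : QuadraticForm F V} {Q₁ : QuadraticForm F V₁} {q₂ : V₂ → F}
  (hQ : ∀ v, Q v = Q₁ (e v).1 + q₂ (e v).2)

include hQ

theorem J_mem_O {g : V₁ ≃ₗ[F] V₁} (hg : g ∈ O Q₁) : J e g ∈ O Q := by
  rw [mem_O]
  intro v
  rw [hQ, hQ v, e_J, mem_O.1 hg]

theorem J_mem_E (h1 : Good Q₁) (hG : Good Q) {g : V₁ ≃ₗ[F] V₁} (hg : g ∈ E Q₁) : J e g ∈ E Q := by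
  rw [← h1.commutator_eq_E] at hg
  rw [← hG.commutator_eq_E]
  have h2 : (⁅O Q₁, O Q₁⁆ : Subgroup (V₁ ≃ₗ[F] V₁)).map (J e) ≤ ⁅O Q, O Q⁆ := by
    rw [Subgroup.map_commutator]
    have h3 : (O Q₁).map (J e) ≤ O Q := by
      rintro _ ⟨a, ha, rfl⟩
      exact J_mem_O e hQ ha
    exact Subgroup.commutator_mono h3 h3
  exact h2 ⟨g, hg, rfl⟩

omit hQ in
theorem zero_of_neg_eq (h2 : (2 : F) ≠ 0) {W : Type*} [AddCommGroup W] [Module F W] {w : W} (h : -w = w) : w = 0 := by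
  have h1 : (2 : F) • w = 0 := by
    rw [two_smul]
    nth_rewrite 1 [← h]
    exact neg_add_cancel w
  exact (smul_eq_zero.1 h1).resolve_left h2

omit hQ in
theorem snd_zero (h2 : (2 : F) ≠ 0) {g : V ≃ₗ[F] V} (hg : g * J e (LinearEquiv.neg F) = J e (LinearEquiv.neg F) * g)
    (v : V₁) : (e (g (e.symm (v, 0)))).2 = 0 := by
  have h1 := congrArg (fun a : V ≃ₗ[F] V => a (e.symm (v, 0))) hg
  change g (J e (LinearEquiv.neg F) (e.symm (v, 0))) = J e (LinearEquiv.neg F) (g (e.symm (v, 0))) at h1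
  rw [J_symm] at h1
  have h3 : e.symm ((LinearEquiv.neg F : V₁ ≃ₗ[F] V₁) v, (0 : V₂)) = -e.symm (v, 0) := by
    rw [← map_neg, Prod.neg_mk, neg_zero]
    rfl
  rw [h3, map_neg] at h1
  have h4 := congrArg (fun a => (e a).2) h1
  simp only [map_neg, Prod.snd_neg, e_J] at h4
  exact zero_of_neg_eq h2 h4

omit hQ in
theorem fst_zero (h2 : (2 : F) ≠ 0) {g : V ≃ₗ[F] V} (hg : g * J e (LinearEquiv.neg F) = J e (LinearEquiv.neg F) * g)
    (w : V₂) : (e (g (e.symm (0, w)))).1 = 0 := by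
  have h1 := congrArg (fun a : V ≃ₗ[F] V => a (e.symm (0, w))) hg
  change g (J e (LinearEquiv.neg F) (e.symm (0, w))) = J e (LinearEquiv.neg F) (g (e.symm (0, w))) at h1
  rw [J_symm] at h1
  have h3 : e.symm ((LinearEquiv.neg F : V₁ ≃ₗ[F] V₁) (0 : V₁), w) = e.symm (0, w) := by
    rw [map_zero]
  rw [h3] at h1
  have h4 := congrArg (fun a => (e a).1) h1
  simp only [e_J] at h4
  exact zero_of_neg_eq h2 h4.symm

omit hQ in
theorem g_left (h2 : (2 : F) ≠ 0) {g : V ≃ₗ[F] V} (hg : g * J e (LinearEquiv.neg F) = J e (LinearEquiv.neg F) * g)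
    (v : V₁) : g (e.symm (v, 0)) = e.symm ((e (g (e.symm (v, 0)))).1, 0) := by
  apply e.injective
  rw [e.apply_symm_apply]
  exact Prod.ext rfl (snd_zero e h2 hg v)

omit hQ in
theorem inv_comm {g h : V ≃ₗ[F] V} (hg : g * h = h * g) : g⁻¹ * h = h * g⁻¹ := by
  rw [inv_mul_eq_iff_eq_mul, ← mul_assoc, hg, mul_inv_cancel_right]

/-- the action on `V₁` of `g` commuting with `-1` on `V₁` -/
def res (h2 : (2 : F) ≠ 0) (g : V ≃ₗ[F] V) (hg : g * J e (LinearEquiv.neg F) = J e (LinearEquiv.neg F) * g) :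
    V₁ ≃ₗ[F] V₁ :=
  LinearEquiv.ofLinearMap
    (LinearMap.fst F V₁ V₂ ∘ₗ e.toLinearMap ∘ₗ g.toLinearMap ∘ₗ e.symm.toLinearMap ∘ₗ LinearMap.inl F V₁ V₂)
    (LinearMap.fst F V₁ V₂ ∘ₗ e.toLinearMap ∘ₗ (g⁻¹).toLinearMap ∘ₗ e.symm.toLinearMap ∘ₗ LinearMap.inl F V₁ V₂)
    (by
      apply LinearMap.ext
      intro v
      show (e (g (e.symm ((e (g⁻¹ (e.symm (v, 0)))).1, 0)))).1 = v
      rw [← g_left e h2 (inv_comm hg) v]
      have : g (g⁻¹ (e.symm (v, (0 : V₂)))) = e.symm (v, 0) := g.apply_symm_apply _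
      rw [this, e.apply_symm_apply])
    (by
      apply LinearMap.ext
      intro v
      show (e (g⁻¹ (e.symm ((e (g (e.symm (v, 0)))).1, 0)))).1 = v
      rw [← g_left e h2 hg v]
      have : g⁻¹ (g (e.symm (v, (0 : V₂)))) = e.symm (v, 0) := g.symm_apply_apply _
      rw [this, e.apply_symm_apply])

omit hQ in
theorem res_apply (h2 : (2 : F) ≠ 0) {g : V ≃ₗ[F] V} (hg : g * J e (LinearEquiv.neg F) = J e (LinearEquiv.neg F) * g)
    (v : V₁) : res e h2 g hg v = (e (g (e.symm (v, 0)))).1 := rfl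

omit hQ in
theorem g_left' (h2 : (2 : F) ≠ 0) {g : V ≃ₗ[F] V} (hg : g * J e (LinearEquiv.neg F) = J e (LinearEquiv.neg F) * g)
    (v : V₁) : g (e.symm (v, 0)) = e.symm (res e h2 g hg v, 0) := g_left e h2 hg v

theorem res_mem_O (h2 : (2 : F) ≠ 0) {g : V ≃ₗ[F] V}
    (hg : g * J e (LinearEquiv.neg F) = J e (LinearEquiv.neg F) * g) (hO : g ∈ O Q) : res e h2 g hg ∈ O Q₁ := by
  rw [mem_O]
  intro v
  have h3 := mem_O.1 hO (e.symm (v, 0))
  rw [g_left' e h2 hg, hQ, hQ, e.apply_symm_apply, e.apply_symm_apply] at h3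
  exact add_right_cancel h3

omit hQ in
theorem conj_J (h2 : (2 : F) ≠ 0) {g : V ≃ₗ[F] V} (hg : g * J e (LinearEquiv.neg F) = J e (LinearEquiv.neg F) * g)
    (a : V₁ ≃ₗ[F] V₁) : g * J e a * g⁻¹ = J e (res e h2 g hg * a * (res e h2 g hg)⁻¹) := by
  rw [mul_inv_eq_iff_eq_mul]
  ext v
  obtain ⟨⟨p, r⟩, rfl⟩ := e.symm.surjective v
  show g (J e a (e.symm (p, r))) = J e (res e h2 g hg * a * (res e h2 g hg)⁻¹) (g (e.symm (p, r)))
  have hs : ∀ (p : V₁) (r : V₂), e.symm (p, r) = e.symm (p, 0) + e.symm (0, r) := by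
    intro p r
    rw [← map_add, Prod.mk_add_mk, add_zero, zero_add]
  have h5 : J e (res e h2 g hg * a * (res e h2 g hg)⁻¹) (g (e.symm (0, r))) = g (e.symm (0, r)) := by
    rw [J_apply, fst_zero e h2 hg, map_zero]
    apply e.injective
    rw [e.apply_symm_apply]
    exact Prod.ext (fst_zero e h2 hg r).symm rfl
  have h6 : (res e h2 g hg * a * (res e h2 g hg)⁻¹) (res e h2 g hg p) = res e h2 g hg (a p) := by
    show res e h2 g hg (a ((res e h2 g hg).symm (res e h2 g hg p))) = _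
    rw [LinearEquiv.symm_apply_apply]
  rw [J_symm]
  show g (e.symm (a p, r)) = _
  rw [hs (a p) r, hs p r, map_add, map_add, map_add, h5, g_left' e h2 hg, g_left' e h2 hg, J_symm]
  show _ = e.symm ((res e h2 g hg * a * (res e h2 g hg)⁻¹) (res e h2 g hg p), 0) + _
  rw [h6]

/-! ### The group level -/

/-- `J` on `E Q₁` -/
def JE (h1 : Good Q₁) (hG : Good Q) : ↥(E Q₁) →* ↥(E Q) :=
  ((J e).comp (E Q₁).subtype).codRestrict (E Q) fun g => J_mem_E e hQ h1 hG g.2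

theorem coe_JE (h1 : Good Q₁) (hG : Good Q) (g : ↥(E Q₁)) :
    ((JE e hQ h1 hG g : ↥(E Q)) : V ≃ₗ[F] V) = J e g := rfl

variable {X : Type u} [Group X]

theorem f_injective (h1 : Good Q₁) (hG : Good Q) {π : ↥(E Q) →* X} (hk : ∀ g, π g = 1 → g ∈ center ↥(E Q))
    {w : V₂} (hw : w ≠ 0) : Function.Injective (π.comp (JE e hQ h1 hG)) := by
  rw [injective_iff_map_eq_one]
  intro g hg
  obtain ⟨c, hc⟩ := Cfsg.Agent.AutOrth.Gen.scalar_of_center hG (hk _ hg)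
  have h3 : ∀ v : V, J e (g : V₁ ≃ₗ[F] V₁) v = c • v := hc
  have h4 := h3 (e.symm (0, w))
  rw [J_symm, map_zero, ← map_smul] at h4
  have h5 := congrArg Prod.snd (e.symm.injective h4)
  change w = c • w at h5
  have h6 : c = 1 := by
    have h7 : (c - 1) • w = 0 := by rw [sub_smul, one_smul, ← h5, sub_self]
    exact sub_eq_zero.1 ((smul_eq_zero.1 h7).resolve_right hw)
  apply Subtype.ext
  ext v
  have h8 := h3 (e.symm (v, 0))
  rw [J_symm, h6, one_smul] at h8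
  exact congrArg Prod.fst (e.symm.injective h8)

/-- **The component `Ω(V₁)` of the centraliser of `-1` on `V₁`.** -/
theorem core (h1 : Good Q₁) (hG : Good Q) (h2 : (2 : F) ≠ 0) {π : ↥(E Q) →* X} (hπ : Function.Surjective π)
    (hk : ∀ g, π g = 1 → g ∈ center ↥(E Q)) {w : V₂} (hw : w ≠ 0) (nn : ↥(E Q₁))
    (hnn : (nn : V₁ ≃ₗ[F] V₁) = LinearEquiv.neg F) (h8 : Even8 nn) :
    ∃ (y : X) (M : Subgroup X) (hy : y ∈ M), orderOf y = 2 ∧ CompIn (centralizer ({y} : Set X)) M ∧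
      Even8 (⟨y, hy⟩ : ↥M) ∧ Nonempty (↥M ≃* ↥(E Q₁)) := by
  have hinj := f_injective e hQ h1 hG hk hw
  set f := π.comp (JE e hQ h1 hG) with hf
  have hne : nn ≠ 1 := by
    intro h
    have h3 := h8.1
    rw [h, orderOf_one] at h3
    exact absurd h3 (by norm_num)
  have hfy : f nn ≠ 1 := fun h => hne (hinj (h.trans (map_one f).symm))
  have hnc : ∀ a : ↥(E Q₁), a * nn = nn * a := by
    intro a
    apply Subtype.ext
    ext v
    show (a : V₁ ≃ₗ[F] V₁) ((nn : V₁ ≃ₗ[F] V₁) v) = (nn : V₁ ≃ₗ[F] V₁) ((a : V₁ ≃ₗ[F] V₁) v)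
    rw [hnn]
    show (a : V₁ ≃ₗ[F] V₁) (-v) = -(a : V₁ ≃ₗ[F] V₁) v
    rw [map_neg]
  set yy : ↥(E Q) := JE e hQ h1 hG nn with hyy
  have hyyJ : (yy : V ≃ₗ[F] V) = J e (LinearEquiv.neg F) := by rw [hyy, coe_JE, hnn]
  set C : Subgroup X := centralizer ({f nn} : Set X) with hC
  set H : Subgroup X := (centralizer ({yy} : Set ↥(E Q))).map π with hH
  have hMH : f.range ≤ H := by
    rintro _ ⟨a, rfl⟩
    refine ⟨JE e hQ h1 hG a, ?_, rfl⟩
    rw [SetLike.mem_coe, mem_centralizer_singleton_iff, hyy, ← map_mul, ← map_mul, hnc]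
  have hHC : H ≤ C := by
    rintro _ ⟨g, hg, rfl⟩
    rw [SetLike.mem_coe, mem_centralizer_singleton_iff] at hg
    rw [hC, mem_centralizer_singleton_iff]
    show π g * π yy = π yy * π g
    rw [← map_mul, ← map_mul, hg]
  have hMC : f.range ≤ C := hMH.trans hHC
  have hq1 : IsQuasisimple ↥(E Q₁) := ⟨Subgroup.isPerfect_iff.2 h1.E_perfect, good_isSimpleGroup h1⟩
  have iso : ↥f.range ≃* ↥(E Q₁) := (MonoidHom.ofInjective hinj).symm
  -- `H` is normal in `C`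
  have hHn : ∀ c ∈ C, ∀ x ∈ H, c * x * c⁻¹ ∈ H := by
    intro c hc x hx
    obtain ⟨h, rfl⟩ := hπ c
    obtain ⟨g, hg, rfl⟩ := hx
    rw [SetLike.mem_coe, mem_centralizer_singleton_iff] at hg
    refine ⟨h * g * h⁻¹, ?_, by rw [map_mul, map_mul, map_inv]⟩
    rw [hC, mem_centralizer_singleton_iff] at hc
    have h3 : π (h * yy * h⁻¹ * yy⁻¹) = 1 := by
      rw [map_mul, map_mul, map_mul, map_inv, map_inv]
      change π h * π yy = π yy * π h at hc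
      rw [hc, mul_inv_cancel_right, mul_inv_cancel]
    have h4 := mem_center_iff.1 (hk _ h3)
    obtain ⟨ζ, hζ⟩ : ∃ ζ, ζ = h * yy * h⁻¹ * yy⁻¹ := ⟨_, rfl⟩
    rw [← hζ] at h4
    have h5 : h * yy * h⁻¹ = ζ * yy := by rw [hζ, inv_mul_cancel_right]
    rw [SetLike.mem_coe, mem_centralizer_singleton_iff]
    have h6 : (h * g * h⁻¹) * (ζ * yy) = (ζ * yy) * (h * g * h⁻¹) := by
      rw [← h5]
      calc h * g * h⁻¹ * (h * yy * h⁻¹) = h * (g * yy) * h⁻¹ := by group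
        _ = h * (yy * g) * h⁻¹ := by rw [hg]
        _ = h * yy * h⁻¹ * (h * g * h⁻¹) := by group
    have h7 : ζ * ((h * g * h⁻¹) * yy) = ζ * (yy * (h * g * h⁻¹)) := by
      calc ζ * ((h * g * h⁻¹) * yy) = (ζ * (h * g * h⁻¹)) * yy := by group
        _ = ((h * g * h⁻¹) * ζ) * yy := by rw [h4]
        _ = (h * g * h⁻¹) * (ζ * yy) := by group
        _ = (ζ * yy) * (h * g * h⁻¹) := h6
        _ = ζ * (yy * (h * g * h⁻¹)) := by group
    exact mul_left_cancel h7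
  -- `M` is normal in `H`
  have hMn : ∀ c ∈ H, ∀ x ∈ f.range, c * x * c⁻¹ ∈ f.range := by
    rintro _ ⟨g, hg, rfl⟩ _ ⟨a, rfl⟩
    rw [SetLike.mem_coe, mem_centralizer_singleton_iff] at hg
    have hg' : (g : V ≃ₗ[F] V) * J e (LinearEquiv.neg F) = J e (LinearEquiv.neg F) * (g : V ≃ₗ[F] V) := by
      rw [← hyyJ]
      exact congrArg Subtype.val hg
    have h3 : res e h2 (g : V ≃ₗ[F] V) hg' * (a : V₁ ≃ₗ[F] V₁) * (res e h2 (g : V ≃ₗ[F] V) hg')⁻¹ ∈ E Q₁ :=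
      conj_mem_E (res_mem_O e hQ h2 hg' (E_le_O g.2)) a.2
    refine ⟨⟨_, h3⟩, ?_⟩
    show π (JE e hQ h1 hG ⟨_, h3⟩) = π g * π (JE e hQ h1 hG a) * (π g)⁻¹
    rw [← map_inv, ← map_mul, ← map_mul]
    congr 1
    apply Subtype.ext
    show J e _ = (g : V ≃ₗ[F] V) * J e (a : V₁ ≃ₗ[F] V₁) * (g : V ≃ₗ[F] V)⁻¹
    rw [conj_J e h2 hg']
    rfl
  refine ⟨f nn, f.range, ⟨nn, rfl⟩, ?_, ⟨hMC, ?_, ?_⟩, ?_, ⟨iso⟩⟩
  · refine orderOf_eq_prime ?_ hfy
    rw [← map_pow, ← h8.1, pow_orderOf_eq_one, map_one]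
  · have hHN : (H.subgroupOf C).Normal := ⟨fun x hx c => hHn _ c.2 _ hx⟩
    refine IsSubnormal.step _ (H.subgroupOf C) (Subgroup.comap_mono hMH) hHN.isSubnormal ?_
    exact ⟨fun x hx c => hMn _ c.2 _ hx⟩
  · exact Cfsg.Agent.SignalizersComponents.Components.isQuasisimple_of_mulEquiv
      (iso.symm.trans (subgroupOfEquivOfLe hMC).symm) hq1
  · exact h8.map f.rangeRestrict (fun h => hfy (congrArg Subtype.val h))

end Split

end Cfsg.Agent.OddHalf.NI3.Orth
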