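import Cfsg.Agent.LieClassical.OrthTrans
import Cfsg.Agent.LieClassical.OrthForms

/-!
# Isometric embeddings with an adjoint projection (NI over F_3, row R3 of the K-side)

`Emb Q₁ Q`: a linear isometry `i : U → V` with a projection `c : V → U` adjoint to `i`; `Emb.hom` is the homomorphism
`g ↦ g ⊥ 1` of `GL(U)` to `GL(V)`, it maps `O Q₁` to `O Q` and `E Q₁` to `E Q`, and its image is normalised by the
centralizer in `O Q` of `(-1) ⊥ 1`.
-/

set_option autoImplicit false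

namespace Cfsg.Agent.OddHalf.NI3.K.OrthEmb

open QuadraticMap
open Cfsg.Agent.LieClassical.OrthCore

variable {F U V : Type*} [Field F] [AddCommGroup U] [Module F U] [AddCommGroup V] [Module F V]

/-- An isometric embedding with the adjoint projection. -/
structure Emb (Q₁ : QuadraticForm F U) (Q : QuadraticForm F V) where
  i : U →ₗ[F] V
  c : V →ₗ[F] U
  ci : ∀ a, c (i a) = a
  qi : ∀ a, Q (i a) = Q₁ a
  pol : ∀ a v, polar Q (i a) v = polar Q₁ a (c v)

namespace Emb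

variable {Q₁ : QuadraticForm F U} {Q : QuadraticForm F V} (e : Emb Q₁ Q)

/-- `v ↦ v + i (g (c v) - c v)` -/
def lin (g : U →ₗ[F] U) : V →ₗ[F] V := LinearMap.id + e.i ∘ₗ (g - LinearMap.id) ∘ₗ e.c

theorem lin_apply (g : U →ₗ[F] U) (v : V) : e.lin g v = v + e.i (g (e.c v) - e.c v) := rfl

theorem c_lin (g : U →ₗ[F] U) (v : V) : e.c (e.lin g v) = g (e.c v) := by
  rw [lin_apply, map_add, e.ci, add_sub_cancel]

theorem lin_lin (g h : U →ₗ[F] U) (v : V) : e.lin g (e.lin h v) = e.lin (g ∘ₗ h) v := by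
  rw [e.lin_apply g, c_lin, e.lin_apply h, e.lin_apply (g ∘ₗ h), add_assoc, ← map_add]
  congr 2
  rw [LinearMap.comp_apply]
  abel

/-- `g ↦ g ⊥ 1` -/
def hom : (U ≃ₗ[F] U) →* (V ≃ₗ[F] V) where
  toFun g := LinearEquiv.ofLinearMap (e.lin g) (e.lin g.symm)
    (by
      ext v
      rw [LinearMap.comp_apply, lin_lin]
      rw [lin_apply, LinearMap.comp_apply]
      simp)
    (by
      ext v
      rw [LinearMap.comp_apply, lin_lin]
      rw [lin_apply, LinearMap.comp_apply]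
      simp)
  map_one' := by
    ext v
    show e.lin _ v = v
    rw [lin_apply]
    simp
  map_mul' g h := by
    ext v
    show e.lin _ v = e.lin _ (e.lin _ v)
    rw [lin_lin]
    rfl

theorem hom_apply (g : U ≃ₗ[F] U) (v : V) : e.hom g v = v + e.i (g (e.c v) - e.c v) := rfl

theorem hom_i (g : U ≃ₗ[F] U) (a : U) : e.hom g (e.i a) = e.i (g a) := by
  rw [hom_apply, e.ci, map_sub]
  abel

theorem c_hom (g : U ≃ₗ[F] U) (v : V) : e.c (e.hom g v) = g (e.c v) := e.c_lin g v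

theorem hom_injective : Function.Injective e.hom := by
  intro g h hgh
  ext a
  have h1 : e.hom g (e.i a) = e.hom h (e.i a) := by rw [hgh]
  rw [hom_i, hom_i] at h1
  have h2 := congrArg e.c h1
  rwa [e.ci, e.ci] at h2

theorem hom_mem_O {g : U ≃ₗ[F] U} (hg : g ∈ O Q₁) : e.hom g ∈ O Q := by
  intro v
  rw [hom_apply, Q_add, e.qi, polar_comm, e.pol]
  have h1 : Q₁ (g (e.c v)) = Q₁ (e.c v) := mem_O.1 hg _
  have h2 := Q_add (Q := Q₁) (g (e.c v) - e.c v) (e.c v)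
  rw [sub_add_cancel, h1] at h2
  linear_combination -h2

theorem hom_siegel {u w : U} (hu : Q₁ u = 0) (hw : polar Q₁ u w = 0) (hu' : Q (e.i u) = 0)
    (hw' : polar Q (e.i u) (e.i w) = 0) :
    e.hom (siegel Q₁ u w hu hw) = siegel Q (e.i u) (e.i w) hu' hw' := by
  ext v
  rw [hom_apply, siegel_apply, siegel_apply, e.pol, e.pol, e.qi]
  have h1 : e.c v + polar Q₁ u (e.c v) • w - polar Q₁ w (e.c v) • u - (Q₁ w * polar Q₁ u (e.c v)) • u - e.c v
      = polar Q₁ u (e.c v) • w - polar Q₁ w (e.c v) • u - (Q₁ w * polar Q₁ u (e.c v)) • u := by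
    abel
  rw [h1, map_sub, map_sub, map_smul, map_smul, map_smul]
  abel

theorem hom_mem_E {g : U ≃ₗ[F] U} (hg : g ∈ E Q₁) : e.hom g ∈ E Q := by
  have h : E Q₁ ≤ (E Q).comap e.hom := by
    rw [E, Subgroup.closure_le]
    rintro _ ⟨u, w, hu, hw, rfl⟩
    have hu' : Q (e.i u) = 0 := by rw [e.qi, hu]
    have hw' : polar Q (e.i u) (e.i w) = 0 := by rw [e.pol, e.ci, hw]
    show e.hom _ ∈ E Q
    rw [hom_siegel e hu hw hu' hw']
    exact siegel_mem_E hu' hw'
  exact h hg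

/-- `-1` on `U` -/
def ng (F U : Type*) [Field F] [AddCommGroup U] [Module F U] : U ≃ₗ[F] U := LinearEquiv.neg F

@[simp]
theorem ng_apply (a : U) : ng F U a = -a := rfl

theorem ng_mul (g : U ≃ₗ[F] U) : ng F U * g = g * ng F U := by
  ext a
  show -(g a) = g (-a)
  rw [map_neg]

/-- An element of `O Q` commuting with `(-1) ⊥ 1` induces an isometry `g₁` of `U` and acts on the image of `hom` by
conjugation with `g₁`. -/
theorem exists_conj (h2 : (2 : F) ≠ 0) {g : V ≃ₗ[F] V} (hg : g ∈ O Q) (hc : g * e.hom (ng F U) = e.hom (ng F U) * g) :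
    ∃ g₁ ∈ O Q₁, ∀ h : U ≃ₗ[F] U, g * e.hom h * g⁻¹ = e.hom (g₁ * h * g₁⁻¹) := by
  -- `g` commutes with `i c`
  have key : ∀ x : V ≃ₗ[F] V, x * e.hom (ng F U) = e.hom (ng F U) * x → ∀ v, x (e.i (e.c v)) = e.i (e.c (x v)) := by
    intro x hx v
    have h3 : x (e.hom (ng F U) v) = e.hom (ng F U) (x v) := congrArg (fun f : V ≃ₗ[F] V => f v) hx
    rw [hom_apply, hom_apply, ng_apply, ng_apply, map_add] at h3
    have h4 := add_left_cancel h3
    have h5 : -e.c v - e.c v = (-2 : F) • e.c v := by module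
    have h6 : -e.c (x v) - e.c (x v) = (-2 : F) • e.c (x v) := by module
    rw [h5, h6, map_smul, map_smul, map_smul] at h4
    exact smul_right_injective V (neg_ne_zero.2 h2) h4
  have hc' : g⁻¹ * e.hom (ng F U) = e.hom (ng F U) * g⁻¹ := by
    rw [inv_mul_eq_iff_eq_mul, ← mul_assoc, eq_mul_inv_iff_mul_eq, hc]
  have k1 := key g hc
  have k2 := key g⁻¹ hc'
  have hgg : ∀ v, g (g⁻¹ v) = v := fun v => LinearEquiv.apply_symm_apply g v
  have hgg' : ∀ v, g⁻¹ (g v) = v := fun v => LinearEquiv.symm_apply_apply g v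
  have k3 : ∀ a, g (e.i a) = e.i (e.c (g (e.i a))) := fun a => by
    have := k1 (e.i a)
    rwa [e.ci] at this
  have k4 : ∀ a, g⁻¹ (e.i a) = e.i (e.c (g⁻¹ (e.i a))) := fun a => by
    have := k2 (e.i a)
    rwa [e.ci] at this
  let g₁ : U ≃ₗ[F] U := LinearEquiv.ofLinearMap (e.c ∘ₗ g.toLinearMap ∘ₗ e.i) (e.c ∘ₗ (g⁻¹).toLinearMap ∘ₗ e.i)
    (by
      ext a
      show e.c (g (e.i (e.c (g⁻¹ (e.i a))))) = a
      rw [← k4, hgg, e.ci])
    (by
      ext a
      show e.c (g⁻¹ (e.i (e.c (g (e.i a))))) = a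
      rw [← k3, hgg', e.ci])
  have a1 : ∀ a, e.i (g₁ a) = g (e.i a) := fun a => (k3 a).symm
  have a2 : ∀ a, e.i (g₁⁻¹ a) = g⁻¹ (e.i a) := fun a => (k4 a).symm
  have a3 : ∀ v, e.c (g⁻¹ v) = g₁⁻¹ (e.c v) := by
    intro v
    have h3 := k2 v
    rw [← a2] at h3
    have h4 := congrArg e.c h3
    rw [e.ci, e.ci] at h4
    exact h4.symm
  refine ⟨g₁, ?_, ?_⟩
  · intro a
    rw [← e.qi, a1, mem_O.1 hg, e.qi]
  · intro h
    ext v
    show g (e.hom h (g⁻¹ v)) = _
    rw [hom_apply, hom_apply, map_add, hgg, a3, ← a1]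
    congr 2
    show g₁ (h (g₁⁻¹ (e.c v)) - g₁⁻¹ (e.c v)) = g₁ (h (g₁⁻¹ (e.c v))) - e.c v
    rw [map_sub]
    congr 1
    exact LinearEquiv.apply_symm_apply g₁ _

end Emb

end Cfsg.Agent.OddHalf.NI3.K.OrthEmb
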