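import Cfsg.Agent.OddHalf.NI3.K.OrthEmb
import Cfsg.Agent.OddHalf.LongSL.Orth
import Cfsg.Agent.OddHalf.NI3.Props

/-!
# The 8-dimensional hyperbolic subspace of an orthogonal space (NI over F_3, row R3 of the K-side)

* `ofW`: the embedding of `plusForm 4 F` given by four hyperbolic pairs of a Witt frame;
* `del`: `SL₂(F) → E (plusForm 4 F)` with `del (-1) = -1`; `even8`: `-1` is the involution of a quaternion subgroup of
  `E (plusForm 4 F)`, `|F| = 3`.
-/

set_option autoImplicit false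

namespace Cfsg.Agent.OddHalf.NI3.K.OrthFrame

open QuadraticMap
open Matrix (SpecialLinearGroup)
open Cfsg.Agent.LieClassical.OrthCore Cfsg.Agent.LieClassical.OrthForms
open Cfsg.Agent.TitsThree Cfsg.Agent.TitsThree.Siegel Cfsg.Agent.TitsThree.SiegelGen
  Cfsg.Agent.TitsThree.WittFrame Cfsg.Agent.TitsThree.WBridge Cfsg.Agent.TitsThree.KSideO
open Cfsg.Agent.Nodes.RGDOrth
open Cfsg.Agent.OddHalf.LongSL.OrthPhi
open Cfsg.Agent.OddHalf.NI3.K.OrthEmb Cfsg.Agent.OddHalf.NI3.K.OrthEmb.Emb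
open Cfsg.Agent.OddHalf.NI (Even8)
open scoped commutatorElement

section ofFrame

variable {F V : Type*} [Field F] [AddCommGroup V] [Module F V] {Q : QuadraticForm F V} {m : ℕ}
  (W : WFrame (PO Q) m)

theorem W_ee (i j : Fin m) : polar Q (W.e i) (W.e j) = 0 := W.ee i j
theorem W_ff (i j : Fin m) : polar Q (W.f i) (W.f j) = 0 := W.ff i j
theorem W_ef (i j : Fin m) : polar Q (W.e i) (W.f j) = if i = j then 1 else 0 := W.ef i j
theorem W_fe (i j : Fin m) : polar Q (W.f i) (W.e j) = if i = j then 1 else 0 := W.fe i j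

variable (h4 : 4 ≤ m)

/-- the coordinates -/
def cc : V →ₗ[F] (Fin 4 ⊕ Fin 4 → F) :=
  LinearMap.pi (Sum.elim (fun k => polarBilin Q (W.f (Fin.castLE h4 k))) (fun k => polarBilin Q (W.e (Fin.castLE h4 k))))

theorem cc_inl (v : V) (k : Fin 4) : cc W h4 v (Sum.inl k) = polar Q (W.f (Fin.castLE h4 k)) v := rfl
theorem cc_inr (v : V) (k : Fin 4) : cc W h4 v (Sum.inr k) = polar Q (W.e (Fin.castLE h4 k)) v := rfl

/-- the inclusion -/
def ii : (Fin 4 ⊕ Fin 4 → F) →ₗ[F] V :=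
  ∑ k : Fin 4, ((LinearMap.proj (R := F) (φ := fun _ : Fin 4 ⊕ Fin 4 => F) (Sum.inl k)).smulRight (W.e (Fin.castLE h4 k)) +
    (LinearMap.proj (R := F) (φ := fun _ : Fin 4 ⊕ Fin 4 => F) (Sum.inr k)).smulRight (W.f (Fin.castLE h4 k)))

theorem ii_apply (a : Fin 4 ⊕ Fin 4 → F) :
    ii W h4 a = ∑ k : Fin 4, (a (Sum.inl k) • W.e (Fin.castLE h4 k) + a (Sum.inr k) • W.f (Fin.castLE h4 k)) := by
  unfold ii
  rw [LinearMap.sum_apply]
  rfl

theorem polar_ii (a : Fin 4 ⊕ Fin 4 → F) (v : V) :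
    polar Q (ii W h4 a) v = ∑ k : Fin 4, (a (Sum.inl k) * polar Q (W.e (Fin.castLE h4 k)) v +
      a (Sum.inr k) * polar Q (W.f (Fin.castLE h4 k)) v) := by
  have h : ∀ x, polar Q x v = (polarBilin Q).flip v x := fun x => rfl
  rw [h, ii_apply, map_sum]
  refine Finset.sum_congr rfl fun k _ => ?_
  rw [map_add, map_smul, map_smul, smul_eq_mul, smul_eq_mul, ← h, ← h]

theorem cc_ii (a : Fin 4 ⊕ Fin 4 → F) : cc W h4 (ii W h4 a) = a := by
  funext s
  rcases s with k | k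
  · rw [cc_inl, polar_comm, polar_ii]
    rw [Finset.sum_eq_single k]
    · rw [W_ef, W_ff, if_pos rfl]; ring
    · intro j _ hj
      rw [W_ef, W_ff, if_neg]
      · ring
      · intro h
        exact hj (Fin.castLE_injective h4 h)
    · intro h
      exact absurd (Finset.mem_univ k) h
  · rw [cc_inr, polar_comm, polar_ii]
    rw [Finset.sum_eq_single k]
    · rw [W_ee, W_fe, if_pos rfl]; ring
    · intro j _ hj
      rw [W_ee, W_fe, if_neg]
      · ring
      · intro h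
        exact hj (Fin.castLE_injective h4 h)
    · intro h
      exact absurd (Finset.mem_univ k) h

theorem pol_ii (a : Fin 4 ⊕ Fin 4 → F) (v : V) : polar Q (ii W h4 a) v = polar (plusForm 4 F) a (cc W h4 v) := by
  rw [polar_ii, polar_plusForm]
  refine Finset.sum_congr rfl fun k _ => ?_
  rw [cc_inl, cc_inr]
  ring

/-- **The embedding of the hyperbolic space of dimension 8.** -/
def ofW (h2 : (2 : F) ≠ 0) : Emb (plusForm 4 F) Q where
  i := ii W h4
  c := cc W h4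
  ci := cc_ii W h4
  qi a := by
    have h1 := pol_ii W h4 a (ii W h4 a)
    rw [cc_ii, polar_self', polar_self'] at h1
    exact mul_left_cancel₀ h2 h1
  pol := pol_ii W h4

end ofFrame

section SL

variable {F V : Type*} [Field F] [AddCommGroup V] [Module F V] {Q : QuadraticForm F V} {ι : Type*} [DecidableEq ι]
  (Fr : Frame (HO Q) ι) {x y x' y' : ι × Bool}

theorem polar_phi_of_ne (M : SpecialLinearGroup (Fin 2) F) (v : V) {z : ι × Bool} (h1 : z.1 ≠ x.1) (h2 : z.1 ≠ y.1) :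
    polar Q (phiFun Fr x y M v) (Fr.b z) = polar Q v (Fr.b z) := by
  unfold phiFun
  simp only [polar_add_left, polar_smul_left, smul_eq_mul]
  rw [p_ne Fr (z := x) (w := z) h1.symm, p_ne Fr (z := neg y) (w := z) h2.symm,
    p_ne Fr (z := neg x) (w := z) h1.symm, p_ne Fr (z := y) (w := z) h2.symm]
  ring

/-- the two `SL₂` of two disjoint pairs commute -/
theorem Phi_comm (hxy : x.1 ≠ y.1) (hxy' : x'.1 ≠ y'.1) (h1 : x'.1 ≠ x.1) (h2 : x'.1 ≠ y.1) (h3 : y'.1 ≠ x.1)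
    (h4 : y'.1 ≠ y.1) (M N : SpecialLinearGroup (Fin 2) F) : Commute (Phi Fr hxy M) (Phi Fr hxy' N) := by
  show Phi Fr hxy M * Phi Fr hxy' N = Phi Fr hxy' N * Phi Fr hxy M
  ext v
  show phiFun Fr x y M (phiFun Fr x' y' N v) = phiFun Fr x' y' N (phiFun Fr x y M v)
  have a1 : ∀ v, phiFun Fr x y M v = v
    + ((M.1 0 0 - 1) * polar Q v (Fr.b (neg x)) + M.1 0 1 * polar Q v (Fr.b y)) • Fr.b x
    + (M.1 1 0 * polar Q v (Fr.b (neg x)) + (M.1 1 1 - 1) * polar Q v (Fr.b y)) • Fr.b (neg y)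
    + ((M.1 1 1 - 1) * polar Q v (Fr.b x) - M.1 1 0 * polar Q v (Fr.b (neg y))) • Fr.b (neg x)
    + (-M.1 0 1 * polar Q v (Fr.b x) + (M.1 0 0 - 1) * polar Q v (Fr.b (neg y))) • Fr.b y := fun v => rfl
  have a2 : ∀ v, phiFun Fr x' y' N v = v
    + ((N.1 0 0 - 1) * polar Q v (Fr.b (neg x')) + N.1 0 1 * polar Q v (Fr.b y')) • Fr.b x'
    + (N.1 1 0 * polar Q v (Fr.b (neg x')) + (N.1 1 1 - 1) * polar Q v (Fr.b y')) • Fr.b (neg y')
    + ((N.1 1 1 - 1) * polar Q v (Fr.b x') - N.1 1 0 * polar Q v (Fr.b (neg y'))) • Fr.b (neg x')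
    + (-N.1 0 1 * polar Q v (Fr.b x') + (N.1 0 0 - 1) * polar Q v (Fr.b (neg y'))) • Fr.b y' := fun v => rfl
  rw [a1 (phiFun Fr x' y' N v), polar_phi_of_ne Fr N v (z := neg x) h1.symm h3.symm,
    polar_phi_of_ne Fr N v (z := y) h2.symm h4.symm, polar_phi_of_ne Fr N v (z := x) h1.symm h3.symm,
    polar_phi_of_ne Fr N v (z := neg y) h2.symm h4.symm,
    a2 (phiFun Fr x y M v), polar_phi_of_ne Fr M v (z := neg x') h1 h2,
    polar_phi_of_ne Fr M v (z := y') h3 h4, polar_phi_of_ne Fr M v (z := x') h1 h2,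
    polar_phi_of_ne Fr M v (z := neg y') h3 h4, a1 v, a2 v]
  abel

end SL

section Eight

variable (F : Type) [Field F]

theorem h01 : (((0 : Fin 4), true) : Fin 4 × Bool).1 ≠ (((1 : Fin 4), true) : Fin 4 × Bool).1 := by decide
theorem h23 : (((2 : Fin 4), true) : Fin 4 × Bool).1 ≠ (((3 : Fin 4), true) : Fin 4 × Bool).1 := by decide

/-- `SL₂(F) → O(plusForm 4 F)`, diagonal in two root subgroups -/
def del : SpecialLinearGroup (Fin 2) F →* ((Fin 4 ⊕ Fin 4 → F) ≃ₗ[F] (Fin 4 ⊕ Fin 4 → F)) where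
  toFun g := Phi (toFrame (wplus 4 F)) h01 g * Phi (toFrame (wplus 4 F)) h23 g
  map_one' := by rw [map_one, map_one, mul_one]
  map_mul' a b := by
    rw [map_mul, map_mul]
    exact ((Phi_comm (toFrame (wplus 4 F)) h01 h23 (by decide) (by decide) (by decide) (by decide) b a).mul_mul_mul_comm
      _ _)

theorem del_mem (g : SpecialLinearGroup (Fin 2) F) : del F g ∈ E (plusForm 4 F) :=
  (E _).mul_mem (LongSL.Orth.Phi_mem' (wplus 4 F) h01 g) (LongSL.Orth.Phi_mem' (wplus 4 F) h23 g)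

theorem del_b (z : Fin 4 × Bool) : del F (-1) ((toFrame (wplus 4 F)).b z) = -(toFrame (wplus 4 F)).b z := by
  show Phi (toFrame (wplus 4 F)) h01 (-1) (Phi (toFrame (wplus 4 F)) h23 (-1) ((toFrame (wplus 4 F)).b z)) = _
  by_cases hz : z.1 = 2 ∨ z.1 = 3
  · have hz' : z.1 ≠ 0 ∧ z.1 ≠ 1 := by
      rcases hz with h | h <;> rw [h] <;> decide
    rw [j_of_eq (toFrame (wplus 4 F)) h23 hz, map_smul,
      Phi_of_ne (toFrame (wplus 4 F)) h01 _ hz'.1 hz'.2, neg_one_smul]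
  · push Not at hz
    have hz' : z.1 = 0 ∨ z.1 = 1 := by
      obtain ⟨k, b⟩ := z
      fin_cases k
      · exact Or.inl rfl
      · exact Or.inr rfl
      · exact absurd rfl hz.1
      · exact absurd rfl hz.2
    rw [Phi_of_ne (toFrame (wplus 4 F)) h23 _ hz.1 hz.2, j_of_eq (toFrame (wplus 4 F)) h01 hz', neg_one_smul]

theorem del_neg_one : del F (-1) = ng F (Fin 4 ⊕ Fin 4 → F) := by
  ext1 v
  rw [ng_apply]
  obtain ⟨a, b, w, hw, hv⟩ := (wplus 4 F).span v
  have hw0 : w = 0 := (Submodule.mem_bot F).1 hw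
  have he : ∀ i, del F (-1) ((wplus 4 F).e i) = -(wplus 4 F).e i := fun i => del_b F (i, true)
  have hf : ∀ i, del F (-1) ((wplus 4 F).f i) = -(wplus 4 F).f i := fun i => del_b F (i, false)
  rw [hv, hw0, add_zero, map_add, map_sum, map_sum, neg_add, ← Finset.sum_neg_distrib, ← Finset.sum_neg_distrib]
  congr 1
  · exact Finset.sum_congr rfl fun i _ => by rw [map_smul, he, smul_neg]
  · exact Finset.sum_congr rfl fun i _ => by rw [map_smul, hf, smul_neg]

theorem ng_mem : ng F (Fin 4 ⊕ Fin 4 → F) ∈ E (plusForm 4 F) := by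
  rw [← del_neg_one]
  exact del_mem F _

/-- `-1` as an element of `E (plusForm 4 F)` -/
def nE : E (plusForm 4 F) := ⟨ng F _, ng_mem F⟩

theorem nE_comm (g : E (plusForm 4 F)) : nE F * g = g * nE F := Subtype.ext (ng_mul g.1)

theorem nE_ne (h2 : (2 : F) ≠ 0) : nE F ≠ 1 := by
  intro h
  have h1 : ng F (Fin 4 ⊕ Fin 4 → F) = 1 := congrArg Subtype.val h
  have h3 : ng F (Fin 4 ⊕ Fin 4 → F) (fun _ => 1) = (1 : (Fin 4 ⊕ Fin 4 → F) ≃ₗ[F] (Fin 4 ⊕ Fin 4 → F)) (fun _ => 1) := by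
    rw [h1]
  rw [ng_apply] at h3
  have h4 := congrFun h3 (Sum.inl 0)
  change (-1 : F) = 1 at h4
  apply h2
  linear_combination -h4

theorem nE_sq : nE F ^ 2 = 1 := by
  rw [pow_two]
  apply Subtype.ext
  ext1 v
  show ng F _ (ng F _ v) = v
  rw [ng_apply, ng_apply, _root_.neg_neg]

theorem orderOf_nE (h2 : (2 : F) ≠ 0) : orderOf (nE F) = 2 := orderOf_eq_prime (nE_sq F) (nE_ne F h2)

theorem even8 [Fintype F] (h3 : Fintype.card F = 3) : Even8 (nE F) := by
  have h30 : (3 : F) = 0 := by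
    have h := FiniteField.cast_card_eq_zero F
    rw [h3] at h
    exact_mod_cast h
  have h2 : (2 : F) ≠ 0 := by
    intro h
    apply one_ne_zero (α := F)
    linear_combination h30 - h
  have e1 : (!![0, -1; 1, 0] : Matrix (Fin 2) (Fin 2) F).det = 1 := by
    rw [Matrix.det_fin_two]; simp
  have e2 : (!![1, 1; 1, -1] : Matrix (Fin 2) (Fin 2) F).det = 1 := by
    rw [Matrix.det_fin_two]
    simp only [Matrix.of_apply, Matrix.cons_val', Matrix.cons_val_zero, Matrix.cons_val_one, Matrix.empty_val',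
      Matrix.cons_val_fin_one]
    linear_combination -h30
  obtain ⟨a, ha⟩ : ∃ a : SpecialLinearGroup (Fin 2) F, a = ⟨_, e1⟩ := ⟨_, rfl⟩
  obtain ⟨b, hb⟩ : ∃ b : SpecialLinearGroup (Fin 2) F, b = ⟨_, e2⟩ := ⟨_, rfl⟩
  have a2 : a * a = -1 := by
    rw [ha]
    apply Subtype.ext
    show (!![0, -1; 1, 0] : Matrix (Fin 2) (Fin 2) F) * !![0, -1; 1, 0] = -1
    ext i j
    fin_cases i <;> fin_cases j <;> simp [Matrix.mul_apply, Fin.sum_univ_two]
  have b2 : b * b = -1 := by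
    rw [hb]
    apply Subtype.ext
    show (!![1, 1; 1, -1] : Matrix (Fin 2) (Fin 2) F) * !![1, 1; 1, -1] = -1
    ext i j
    fin_cases i <;> fin_cases j <;> simp [Matrix.mul_apply, Fin.sum_univ_two] <;> linear_combination h30
  have ab : a * b = -1 * (b * a) := by
    rw [ha, hb]
    apply Subtype.ext
    show (!![0, -1; 1, 0] : Matrix (Fin 2) (Fin 2) F) * !![1, 1; 1, -1] =
      (-1 : Matrix (Fin 2) (Fin 2) F) * (!![1, 1; 1, -1] * !![0, -1; 1, 0])
    ext i j
    fin_cases i <;> fin_cases j <;> simp [Matrix.mul_apply, Fin.sum_univ_two]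
  have hc : ⁅a, b⁆ = -1 := by
    rw [commutatorElement_def, ab, mul_assoc, mul_assoc, mul_assoc]
    rw [mul_inv_cancel_left, mul_inv_cancel, mul_one]
  refine ⟨orderOf_nE F h2, ⟨del F a, del_mem F a⟩, ⟨del F b, del_mem F b⟩, ?_, ?_, ?_⟩
  · apply Subtype.ext
    show del F a * del F a = ng F _
    rw [← map_mul, a2, del_neg_one]
  · apply Subtype.ext
    show del F b * del F b = ng F _
    rw [← map_mul, b2, del_neg_one]
  · apply Subtype.ext
    show ⁅del F a, del F b⁆ = ng F _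
    rw [← map_commutatorElement, hc, del_neg_one]

end Eight

end Cfsg.Agent.OddHalf.NI3.K.OrthFrame
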