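import Mathlib
import Cfsg.Agent.OddHalf.NI3.K.FThirteen
import Cfsg.Agent.OddHalf.NI3.K.TwD4
import Cfsg.Agent.S1071

/-!
# `Row3D4` (the third hypothesis of `f13_of`)
-/

set_option autoImplicit false

namespace Cfsg.Agent.OddHalf.NI3.K.RowTwD4

open Subgroup Cfsg Cfsg.Agent.OddHalf.LieOddFam

universe u

/-- **`Row3D4`**: no simplicity hypothesis needed. -/
theorem row3D4 : Row3D4.{u} := by
  intro K _ _ h
  obtain ⟨F, i1, i2, hF, ⟨e⟩⟩ := h
  have hs : IsSimpleGroup ↥(Lie.twistedD4 F 3) := (Cfsg.Agent.S1071.result Nat.prime_three.isPrimePow hF).1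
  haveI : IsSimpleGroup K := MulEquiv.isSimpleGroup e
  exact TwD4.hasYF this ⟨F, i1, i2, hF, ⟨e⟩⟩

end Cfsg.Agent.OddHalf.NI3.K.RowTwD4
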