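import Cfsg.Agent.OddHalf.NI3.K.Blk
import Cfsg.Agent.OddHalf.NI3.K.SmallLin
import Cfsg.Agent.SignalizersComponents.SLQuasisimple

/-!
# Row (R1), linear half, of F13 (NI over F_3; bb ODD #14361)

`PSL_n(3)`, `n ≥ 5`, has `HasYF`: `y` is the image of `-1 ⊕ 1`, `M` the image of `SL₄(3) ⊕ 1`.
-/

set_option autoImplicit false

namespace Cfsg.Agent.OddHalf.NI3.K.SL

open Matrix Subgroup Cfsg Cfsg.Agent.OddHalf.LieOddFam
open Cfsg.Agent.OddHalf.NI (Even8)
open Cfsg.Agent.OddHalf.NI.FrameSL (reidx)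

universe u

variable {F : Type} [Field F] {k : ℕ}

/-- the block -/
def emb : Matrix.SpecialLinearGroup (Fin 4) F →* Matrix.SpecialLinearGroup (Fin 4 ⊕ Fin k) F where
  toFun a := ⟨fromBlocks (a : Matrix (Fin 4) (Fin 4) F) 0 0 1, by
    rw [det_fromBlocks_zero₂₁, a.2, det_one, one_mul]⟩
  map_one' := by
    apply Subtype.ext
    change fromBlocks (1 : Matrix (Fin 4) (Fin 4) F) 0 0 1 = 1
    exact fromBlocks_one
  map_mul' a b := by
    apply Subtype.ext
    change fromBlocks ((a : Matrix (Fin 4) (Fin 4) F) * (b : Matrix (Fin 4) (Fin 4) F)) 0 0 1 =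
      fromBlocks (a : Matrix (Fin 4) (Fin 4) F) 0 0 1 * fromBlocks (b : Matrix (Fin 4) (Fin 4) F) 0 0 1
    rw [fromBlocks_multiply]
    simp

theorem emb_coe (a : Matrix.SpecialLinearGroup (Fin 4) F) :
    ((emb a : Matrix.SpecialLinearGroup (Fin 4 ⊕ Fin k) F) : Matrix (Fin 4 ⊕ Fin k) (Fin 4 ⊕ Fin k) F) =
      fromBlocks (a : Matrix (Fin 4) (Fin 4) F) 0 0 1 := rfl

/-- `-1` -/
def neg : Matrix.SpecialLinearGroup (Fin 4) F := ⟨-1, by rw [det_neg, det_one]; norm_num⟩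

theorem neg_coe : ((neg : Matrix.SpecialLinearGroup (Fin 4) F) : Matrix (Fin 4) (Fin 4) F) = -1 := rfl

theorem neg_mem_center : (neg : Matrix.SpecialLinearGroup (Fin 4) F) ∈ center _ := by
  rw [mem_center_iff]
  intro g
  apply Subtype.ext
  change (g : Matrix (Fin 4) (Fin 4) F) * -1 = -1 * (g : Matrix (Fin 4) (Fin 4) F)
  rw [mul_neg, neg_mul, mul_one, one_mul]

theorem norm_emb (h2 : (2 : F) ≠ 0) {g : Matrix.SpecialLinearGroup (Fin 4 ⊕ Fin k) F}
    (hg : g * emb neg = emb neg * g) (a : Matrix.SpecialLinearGroup (Fin 4) F) :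
    g * emb a * g⁻¹ ∈ (emb : Matrix.SpecialLinearGroup (Fin 4) F →* _).range := by
  have e1 : (g : Matrix (Fin 4 ⊕ Fin k) (Fin 4 ⊕ Fin k) F) * fromBlocks (-1) 0 0 1 =
      fromBlocks (-1) 0 0 1 * (g : Matrix (Fin 4 ⊕ Fin k) (Fin 4 ⊕ Fin k) F) := congrArg Subtype.val hg
  obtain ⟨A, B, C, D, hABCD⟩ : ∃ A B C D, (g : Matrix (Fin 4 ⊕ Fin k) (Fin 4 ⊕ Fin k) F) = fromBlocks A B C D :=
    ⟨_, _, _, _, (fromBlocks_toBlocks _).symm⟩
  rw [hABCD, fromBlocks_multiply, fromBlocks_multiply] at e1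
  simp only [Matrix.mul_neg, Matrix.mul_one, Matrix.mul_zero, add_zero, zero_add, Matrix.neg_mul, Matrix.one_mul,
    Matrix.zero_mul] at e1
  rw [fromBlocks_inj] at e1
  have hB : B = 0 := by
    have h1 : B = -B := e1.2.1
    ext i j
    have h3 : B i j = - B i j := congrFun (congrFun h1 i) j
    have h4 : (2 : F) * B i j = 0 := by linear_combination h3
    exact (mul_eq_zero.1 h4).resolve_left h2
  have hC : C = 0 := by
    have h1 : -C = C := e1.2.2.1
    ext i j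
    have h3 : - C i j = C i j := congrFun (congrFun h1 i) j
    have h4 : (2 : F) * C i j = 0 := by linear_combination -h3
    exact (mul_eq_zero.1 h4).resolve_left h2
  rw [hB, hC] at hABCD
  have hdet : A.det * D.det = 1 := by
    have h1 := g.2
    rw [hABCD, det_fromBlocks_zero₂₁] at h1
    exact h1
  have hA : IsUnit A.det := IsUnit.of_mul_eq_one _ hdet
  have hb : (A * (a : Matrix (Fin 4) (Fin 4) F) * A⁻¹).det = 1 := by
    rw [det_mul, det_mul, a.2, mul_one, det_nonsing_inv]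
    exact Ring.mul_inverse_cancel _ hA
  refine ⟨⟨A * (a : Matrix (Fin 4) (Fin 4) F) * A⁻¹, hb⟩, ?_⟩
  rw [eq_mul_inv_iff_mul_eq]
  apply Subtype.ext
  change fromBlocks (A * (a : Matrix (Fin 4) (Fin 4) F) * A⁻¹) 0 0 1 *
    (g : Matrix (Fin 4 ⊕ Fin k) (Fin 4 ⊕ Fin k) F) = (g : Matrix (Fin 4 ⊕ Fin k) (Fin 4 ⊕ Fin k) F) *
      fromBlocks (a : Matrix (Fin 4) (Fin 4) F) 0 0 1
  rw [hABCD, fromBlocks_multiply, fromBlocks_multiply]
  simp only [Matrix.mul_one, Matrix.mul_zero, add_zero, zero_add, Matrix.one_mul, Matrix.zero_mul]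
  rw [Matrix.mul_assoc, nonsing_inv_mul _ hA, Matrix.mul_one]

theorem emb_center (hk : 0 < k) {a : Matrix.SpecialLinearGroup (Fin 4) F}
    (h : emb a ∈ center (Matrix.SpecialLinearGroup (Fin 4 ⊕ Fin k) F)) : a = 1 := by
  obtain ⟨r, -, h1⟩ := Matrix.SpecialLinearGroup.mem_center_iff.mp h
  rw [emb_coe] at h1
  have h2 := congrFun (congrFun h1 (Sum.inr ⟨0, hk⟩)) (Sum.inr ⟨0, hk⟩)
  simp at h2
  subst h2
  apply Subtype.ext
  ext i j
  have h3 := congrFun (congrFun h1 (Sum.inl i)) (Sum.inl j)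
  simp only [scalar_apply, fromBlocks_apply₁₁] at h3
  rw [← h3]
  by_cases hij : i = j
  · subst hij; simp
  · simp [hij, Matrix.one_apply_ne hij]

theorem emb_injective : Function.Injective (emb : Matrix.SpecialLinearGroup (Fin 4) F →*
    Matrix.SpecialLinearGroup (Fin 4 ⊕ Fin k) F) := by
  intro a b h
  have h1 := congrArg Subtype.val h
  change fromBlocks _ _ _ _ = fromBlocks _ _ _ _ at h1
  rw [fromBlocks_inj] at h1
  exact Subtype.ext h1.1

/-- the centre of `SL₄(F)` is a 2-group -/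
theorem center_two : IsPGroup 2 ↥(center (Matrix.SpecialLinearGroup (Fin 4) F)) := by
  rintro ⟨A, hA⟩
  refine ⟨2, Subtype.ext ?_⟩
  rw [Subgroup.coe_pow, Subgroup.coe_one]
  obtain ⟨r, hr, h1⟩ := Matrix.SpecialLinearGroup.mem_center_iff.mp hA
  apply Subtype.ext
  change ((A ^ (2 ^ 2) : Matrix.SpecialLinearGroup (Fin 4) F) : Matrix (Fin 4) (Fin 4) F) = 1
  rw [Matrix.SpecialLinearGroup.coe_pow, ← h1, ← map_pow]
  have h2 : r ^ 2 ^ 2 = 1 := by simpa using hr
  rw [h2, map_one]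

/-- **row (R1)**, linear half, for the model -/
theorem hasYF_of_equiv {F : Type} [Field F] [Fintype F] (hF : Fintype.card F = 3) {k : ℕ} (hk : 0 < k)
    {K : Type u} [Group K] (f : K ≃* Matrix.ProjectiveSpecialLinearGroup (Fin (4 + k)) F) : HasYF K := by
  have hodd : Odd (Fintype.card F) := by rw [hF]; decide
  have h2 : (2 : F) ≠ 0 := NI.Blocks.two_ne_zero_of_odd hodd
  have hqs : IsQuasisimple (Matrix.SpecialLinearGroup (Fin 4) F) :=
    SignalizersComponents.SLQuasisimple.isQuasisimple_of_three_le (by simp)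
  have hr : Rk (Matrix.SpecialLinearGroup (Fin 4) F ⧸ center (Matrix.SpecialLinearGroup (Fin 4) F)) 3 :=
    Or.inl ⟨F, _, _, 4, hF, by omega, ⟨MulEquiv.refl _⟩⟩
  have h1 : (neg : Matrix.SpecialLinearGroup (Fin 4) F) ≠ 1 := by
    intro h
    have h3 := congrFun (congrFun (congrArg Subtype.val h) 0) 0
    change (-1 : Matrix (Fin 4) (Fin 4) F) 0 0 = (1 : Matrix (Fin 4) (Fin 4) F) 0 0 at h3
    simp at h3
    apply h2
    linear_combination -h3
  have he : Even8 (neg : Matrix.SpecialLinearGroup (Fin 4) F) :=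
    SmallLin.even_sl hodd (m := 2) (n := 4) le_rfl rfl (MonoidHom.id _) neg_coe h1
  let φ : Matrix.SpecialLinearGroup (Fin 4 ⊕ Fin k) F →* K :=
    (f.symm.toMonoidHom.comp (QuotientGroup.mk' _)).comp (reidx (F := F) finSumFinEquiv).toMonoidHom
  have hs : Function.Surjective φ :=
    (f.symm.surjective.comp (QuotientGroup.mk'_surjective _)).comp (reidx (F := F) finSumFinEquiv).surjective
  have hker : φ.ker ≤ center (Matrix.SpecialLinearGroup (Fin 4 ⊕ Fin k) F) := by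
    intro x hx
    rw [MonoidHom.mem_ker] at hx
    change f.symm (QuotientGroup.mk' _ (reidx (F := F) finSumFinEquiv x)) = 1 at hx
    rw [map_eq_one_iff _ f.symm.injective] at hx
    have h4 : reidx (F := F) finSumFinEquiv x ∈ center (Matrix.SpecialLinearGroup (Fin (4 + k)) F) :=
      (QuotientGroup.eq_one_iff _).1 hx
    rw [mem_center_iff] at h4 ⊢
    intro y
    apply (reidx (F := F) finSumFinEquiv).injective
    rw [map_mul, map_mul]
    exact h4 _
  refine hasYF_of_block φ hs hker emb hqs neg_mem_center he hr center_two (fun g hg a => norm_emb h2 hg a) ?_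
  rw [injective_iff_map_eq_one]
  intro a ha
  have h4 : emb a ∈ φ.ker := ha
  exact emb_center hk (hker h4)

/-- **row (R1)**, linear half: `PSL_n(3)`, `n ≥ 5`, has `HasYF`. -/
theorem row_sl {K : Type u} [Group K] (h : FL K 3)
    (h3 : ¬ ∃ (F : Type) (_ : Field F) (_ : Fintype F), Fintype.card F = 3 ∧
      Nonempty (K ≃* Matrix.ProjectiveSpecialLinearGroup (Fin 3) F))
    (h4 : ¬ ∃ (F : Type) (_ : Field F) (_ : Fintype F), Fintype.card F = 3 ∧
      Nonempty (K ≃* Matrix.ProjectiveSpecialLinearGroup (Fin 4) F)) : HasYF K := by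
  obtain ⟨F, _, _, n, hF, hn, ⟨f⟩⟩ := h
  have hn3 : n ≠ 3 := by
    rintro rfl
    exact h3 ⟨F, _, _, hF, ⟨f⟩⟩
  have hn4 : n ≠ 4 := by
    rintro rfl
    exact h4 ⟨F, _, _, hF, ⟨f⟩⟩
  obtain ⟨k, rfl⟩ := Nat.exists_eq_add_of_le (show 4 ≤ n by omega)
  exact hasYF_of_equiv hF (by omega) f

end Cfsg.Agent.OddHalf.NI3.K.SL
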